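import Groth.Agent.EGA2.K41.LineRing

/-!
# Quasi-coherent graded algebras which are locally `O[T]`; the open where a homogeneous section does not vanish
-/

set_option autoImplicit false
set_option linter.unusedSectionVars false
universe u
open CategoryTheory CategoryTheory.Limits AlgebraicGeometry TopologicalSpace Opposite
open scoped HomogeneousIdeal

noncomputable section

namespace K41.LineAlg

variable {X : Scheme.{u}} (𝒜 : RelProj.QCGrAlg X)

/-- Restriction of sections of a quasi-coherent graded algebra. -/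
def res {U V : X.Opens} (i : V ≤ U) : 𝒜.presheaf.obj (op U) →+* 𝒜.presheaf.obj (op V) :=
  (𝒜.presheaf.map (homOfLE i).op).hom

/-- The structure map on sections. -/
def str (U : X.Opens) : Γ(X, U) →+* 𝒜.presheaf.obj (op U) := (𝒜.str.app (op U)).hom

/-- Restriction of functions. -/
def resO {U V : X.Opens} (i : V ≤ U) : Γ(X, U) →+* Γ(X, V) := (X.presheaf.map (homOfLE i).op).hom

theorem res_apply {U V : X.Opens} (i : V ≤ U) (x : 𝒜.presheaf.obj (op U)) :
    res 𝒜 i x = (𝒜.presheaf.map (homOfLE i).op).hom x := rfl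

theorem res_self {U : X.Opens} (i : U ≤ U) (x : 𝒜.presheaf.obj (op U)) : res 𝒜 i x = x := by
  have : (homOfLE i).op = 𝟙 (op U) := rfl
  rw [res_apply, this, CategoryTheory.Functor.map_id]; rfl

theorem res_res {U V W : X.Opens} (i : V ≤ U) (j : W ≤ V) (x : 𝒜.presheaf.obj (op U)) :
    res 𝒜 j (res 𝒜 i x) = res 𝒜 (j.trans i) x := by
  have : (homOfLE (j.trans i)).op = (homOfLE i).op ≫ (homOfLE j).op := rfl
  rw [res_apply, res_apply, res_apply, this, Functor.map_comp]; rfl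

theorem resO_self {U : X.Opens} (i : U ≤ U) (x : Γ(X, U)) : resO i x = x := by
  have : (homOfLE i).op = 𝟙 (op U) := rfl
  rw [resO, this, CategoryTheory.Functor.map_id]; rfl

theorem resO_resO {U V W : X.Opens} (i : V ≤ U) (j : W ≤ V) (x : Γ(X, U)) :
    resO j (resO i x) = resO (j.trans i) x := by
  have : (homOfLE (j.trans i)).op = (homOfLE i).op ≫ (homOfLE j).op := rfl
  rw [resO, resO, resO, this, Functor.map_comp]; rfl

theorem res_str {U V : X.Opens} (i : V ≤ U) (x : Γ(X, U)) : res 𝒜 i (str 𝒜 U x) = str 𝒜 V (resO i x) :=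
  ConcreteCategory.congr_hom (𝒜.str.naturality (homOfLE i).op).symm x

variable {𝒜}

theorem res_mem {U V : X.Opens} (hU : IsAffineOpen U) (hV : IsAffineOpen V) (i : V ≤ U) {d : ℕ}
    {x : 𝒜.presheaf.obj (op U)} (hx : x ∈ 𝒜.deg U hU d) : res 𝒜 i x ∈ 𝒜.deg V hV d :=
  𝒜.map_mem hU hV i hx

theorem str_mem {U : X.Opens} (hU : IsAffineOpen U) (x : Γ(X, U)) : str 𝒜 U x ∈ 𝒜.deg U hU 0 := 𝒜.str_mem U hU x

theorem isUnit_resO (U : X.Opens) (r : Γ(X, U)) : IsUnit (resO (X.basicOpen_le r) r) :=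
  RingedSpace.isUnit_res_basicOpen _ r

/-- The localization property. -/
theorem exists_res_eq {U : X.Opens} (hU : IsAffineOpen U) (r : Γ(X, U)) (a : 𝒜.presheaf.obj (op (X.basicOpen r))) :
    ∃ (k : ℕ) (x : 𝒜.presheaf.obj (op U)),
      a * str 𝒜 _ (resO (X.basicOpen_le r) r) ^ k = res 𝒜 (X.basicOpen_le r) x := by
  let _inst := (𝒜.presheaf.map (homOfLE (X.basicOpen_le r)).op).hom.toAlgebra
  let c := (𝒜.str.app (op U)).hom r
  have hloc : IsLocalization.Away c (𝒜.presheaf.obj (op (X.basicOpen r))) := 𝒜.isQC U hU r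
  obtain ⟨⟨x, s, hs⟩, hxs⟩ := IsLocalization.surj (Submonoid.powers c) a
  obtain ⟨k, rfl⟩ := (Submonoid.mem_powers_iff _ _).mp hs
  refine ⟨k, x, ?_⟩
  have h1 : a * res 𝒜 (X.basicOpen_le r) (c ^ k) = res 𝒜 (X.basicOpen_le r) x := hxs
  rw [map_pow] at h1
  rw [← res_str]
  exact h1

theorem exists_mul_eq_zero {U : X.Opens} (hU : IsAffineOpen U) (r : Γ(X, U)) (a : 𝒜.presheaf.obj (op U))
    (ha : res 𝒜 (X.basicOpen_le r) a = 0) : ∃ k : ℕ, str 𝒜 U r ^ k * a = 0 := by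
  let _inst := (𝒜.presheaf.map (homOfLE (X.basicOpen_le r)).op).hom.toAlgebra
  let c := (𝒜.str.app (op U)).hom r
  have hloc : IsLocalization.Away c (𝒜.presheaf.obj (op (X.basicOpen r))) := 𝒜.isQC U hU r
  obtain ⟨⟨s, hs⟩, hxs⟩ := (IsLocalization.map_eq_zero_iff (Submonoid.powers c) (𝒜.presheaf.obj (op (X.basicOpen r))) a).mp ha
  obtain ⟨k, rfl⟩ := (Submonoid.mem_powers_iff _ _).mp hs
  exact ⟨k, hxs⟩

/-- The localization property on homogeneous sections. -/
theorem exists_deg_res_eq {U : X.Opens} (hU : IsAffineOpen U) (r : Γ(X, U)) {n : ℕ}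
    {a : 𝒜.presheaf.obj (op (X.basicOpen r))} (ha : a ∈ 𝒜.deg (X.basicOpen r) (hU.basicOpen r) n) :
    ∃ (k : ℕ) (x : 𝒜.presheaf.obj (op U)), x ∈ 𝒜.deg U hU n ∧
      a * str 𝒜 _ (resO (X.basicOpen_le r) r) ^ k = res 𝒜 (X.basicOpen_le r) x := by
  classical
  obtain ⟨k, x, hx⟩ := exists_res_eq hU r a
  refine ⟨k, DirectSum.decompose (𝒜.deg U hU) x n, SetLike.coe_mem _, ?_⟩
  have h0 : str 𝒜 (X.basicOpen r) (resO (X.basicOpen_le r) r) ^ k ∈ 𝒜.deg (X.basicOpen r) (hU.basicOpen r) 0 := by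
    rw [← map_pow]; exact str_mem _ _
  have h1 : a * str 𝒜 _ (resO (X.basicOpen_le r) r) ^ k ∈ 𝒜.deg (X.basicOpen r) (hU.basicOpen r) n := by
    simpa only [add_zero] using SetLike.mul_mem_graded ha h0
  have h2 : 𝒜.res hU (hU.basicOpen r) (X.basicOpen_le r) (DirectSum.decompose (𝒜.deg U hU) x n :
      𝒜.presheaf.obj (op U)) = (DirectSum.decompose (𝒜.deg (X.basicOpen r) (hU.basicOpen r))
        (𝒜.res hU (hU.basicOpen r) (X.basicOpen_le r) x) n : 𝒜.presheaf.obj (op (X.basicOpen r))) := by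
    rw [GradedRingHom.map_directSumDecompose]
  have h3 : 𝒜.res hU (hU.basicOpen r) (X.basicOpen_le r) x = a * str 𝒜 _ (resO (X.basicOpen_le r) r) ^ k := hx.symm
  rw [h3, DirectSum.decompose_of_mem_same _ h1] at h2
  exact h2.symm

variable (𝒜)

/-- `𝒜(V) = O(V)[T]`. -/
def LineOn (V : X.Opens) (hV : IsAffineOpen V) (T : 𝒜.presheaf.obj (op V)) : Prop :=
  LineRing.IsLine (𝒜.deg V hV) (str 𝒜 V) T

/-- `𝒜` is locally `O[T]`. -/
def IsLineAlg : Prop :=
  ∀ x : X, ∃ (V : X.Opens) (hV : IsAffineOpen V) (T : 𝒜.presheaf.obj (op V)), x ∈ V ∧ LineOn 𝒜 V hV T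

variable {𝒜}

theorem LineOn.basicOpen {V : X.Opens} {hV : IsAffineOpen V} {T : 𝒜.presheaf.obj (op V)} (h : LineOn 𝒜 V hV T)
    (r : Γ(X, V)) : LineOn 𝒜 (X.basicOpen r) (hV.basicOpen r) (res 𝒜 (X.basicOpen_le r) T) where
  deg_T := res_mem _ _ _ h.deg_T
  deg_φ s := str_mem _ _
  surj n a ha := by
    obtain ⟨k, x, hx, e⟩ := exists_deg_res_eq hV r ha
    obtain ⟨s, rfl⟩ := h.surj n x hx
    obtain ⟨ρ, hρ⟩ := isUnit_resO V r
    rw [← hρ, map_mul, res_str, map_pow] at e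
    refine ⟨resO (X.basicOpen_le r) s * ↑(ρ⁻¹ ^ k), ?_⟩
    rw [map_mul, mul_right_comm, ← e, mul_assoc, ← map_pow, ← map_mul, ← Units.val_pow_eq_pow_val, ← Units.val_mul,
      ← mul_pow, mul_inv_cancel, one_pow, Units.val_one, map_one, mul_one]
  inj n s hs := by
    have := hV.isLocalization_basicOpen r
    obtain ⟨⟨x, c, hc⟩, hxc⟩ := IsLocalization.surj (Submonoid.powers r) s
    obtain ⟨k, rfl⟩ := (Submonoid.mem_powers_iff _ _).mp hc
    have hxc' : s * resO (X.basicOpen_le r) (r ^ k) = resO (X.basicOpen_le r) x := hxc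
    have h1 : res 𝒜 (X.basicOpen_le r) (str 𝒜 V x * T ^ n) = 0 := by
      rw [map_mul, res_str, ← hxc', map_mul, map_pow (res 𝒜 _) T n, mul_right_comm, hs, zero_mul]
    obtain ⟨m, hm⟩ := exists_mul_eq_zero hV r _ h1
    have h2 : r ^ m * x = 0 := by
      refine h.inj n _ ?_
      rw [map_mul, mul_assoc, map_pow]; exact hm
    have hu := (isUnit_resO V r).pow
    have h3 : resO (X.basicOpen_le r) x = 0 := by
      have h4 := congrArg (resO (X.basicOpen_le r)) h2
      rw [map_mul, map_pow, map_zero] at h4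
      exact ((hu m).mul_right_eq_zero).mp h4
    rw [h3, map_pow] at hxc'
    exact ((hu k).mul_left_eq_zero).mp hxc'

end K41.LineAlg
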