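import Groth.Agent.EGA2.K36.SymAlg
import Groth.Agent.Fdesc.LocGen
import Groth.Agent.EGA2.K41.LineAlg

/-!
# The graded symmetric algebra of an invertible module is locally a polynomial ring

`isLineAlg`: for `L` invertible and quasi-coherent and `(𝒮L, j)` its graded symmetric algebra, `IsLineAlg 𝒮L`.
-/

set_option autoImplicit false
universe u
open CategoryTheory CategoryTheory.Limits AlgebraicGeometry TopologicalSpace Opposite
open scoped HomogeneousIdeal

noncomputable section

namespace K41.SymLine
open K41.LineAlg K41.LineRing K36.SymAlg Groth.Agent.Fdesc.LocGen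

section ring

variable {R M A : Type u} [CommRing R] [AddCommGroup M] [Module R M] [CommRing A]

/-- If `e` is a free generator of `M`, then `R[T] ≃ Sym(M)` with `T ↦ e`. -/
theorem bijective_eval₂ {e : M} (he : Function.Bijective fun a : R => a • e) (φ : R →+* A)
    (g : SymmetricAlgebra R M →+* A) (hg : Function.Bijective g) (h1 : ∀ r, g (algebraMap _ _ r) = φ r) :
    Function.Bijective (Polynomial.eval₂RingHom φ (g (SymmetricAlgebra.ι R M e))) := by
  let b : Module.Basis PUnit.{1} R M := (Module.Basis.singleton PUnit.{1} R).map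
    (LinearEquiv.ofBijective ((LinearMap.id : R →ₗ[R] R).smulRight e) he)
  have hb : b PUnit.unit = e := by
    simp [b]
  let E : SymmetricAlgebra R M ≃ₐ[R] Polynomial R :=
    (SymmetricAlgebra.equivMvPolynomial b).trans (MvPolynomial.uniqueAlgEquiv R PUnit.{1})
  have hE : E (SymmetricAlgebra.ι R M e) = Polynomial.X := by
    rw [← hb]
    simp [E]
  have key : (Polynomial.eval₂RingHom φ (g (SymmetricAlgebra.ι R M e))).comp (E : SymmetricAlgebra R M →+* Polynomial R) = g := by
    refine Groth.Agent.CohqB.SymLoc.ringHom_ext (fun r => ?_) fun m => ?_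
    · rw [h1, RingHom.comp_apply]
      change Polynomial.eval₂RingHom φ _ (E (algebraMap _ _ r)) = _
      rw [E.commutes]
      simp
    · obtain ⟨a, rfl⟩ := he.2 m
      rw [RingHom.comp_apply]
      change Polynomial.eval₂RingHom φ _ (E (SymmetricAlgebra.ι R M (a • e))) = _
      rw [map_smul, map_smul, hE, Algebra.smul_def, Algebra.smul_def, map_mul, map_mul, h1]
      simp
  have h2 : (Polynomial.eval₂RingHom φ (g (SymmetricAlgebra.ι R M e))) =
      g.comp (E.symm : Polynomial R →+* SymmetricAlgebra R M) := by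
    refine RingHom.ext fun x => ?_
    obtain ⟨y, rfl⟩ := E.surjective x
    rw [RingHom.comp_apply]
    change _ = g (E.symm (E y))
    rw [E.symm_apply_apply]
    exact congr($key y)
  rw [h2]
  exact hg.comp E.symm.bijective

end ring

variable {X : Scheme.{u}} {L : X.Modules} {𝒮L : RelProj.QCGrAlg X} {j : L ⟶ 𝒮L.toModule}

/-- Over an affine open with a generator, the symmetric algebra is the polynomial ring. -/
theorem lineOn (hLq : Coh.IsQCoh L) (hj : RelProj.IsGrSymAlg L 𝒮L j) (V : X.Opens) (hV : IsAffineOpen V)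
    (e : Γ(L, V)) (he : IsGen e) : LineOn 𝒮L V hV (j.app V e) := by
  refine IsLine.of_bijective (hj.2 V hV e) (fun r => str_mem hV r) ?_
  have h := bijective_eval₂ (he.bijective) (str 𝒮L V) (symHom L 𝒮L.toQCAlg j V)
    (bijective_symHom hLq hj.1 V hV) (fun r => symHom_algebraMap _ _ _ _ r)
  rw [symHom_ι] at h
  exact h

/-- The graded symmetric algebra of an invertible module is a line algebra. -/
theorem isLineAlg (hL : PicF.IsInvertible L) (hLq : Coh.IsQCoh L) (hj : RelProj.IsGrSymAlg L 𝒮L j) :
    IsLineAlg 𝒮L := by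
  intro x
  obtain ⟨U, e, hx, he⟩ := (isInvertible_iff L).mp hL x
  obtain ⟨V, hV, hxV, hVU⟩ := exists_isAffineOpen_mem_and_subset hx
  exact ⟨V, hV, _, hxV, lineOn hLq hj V hV _ (he.res hVU)⟩

end K41.SymLine
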