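import Groth.Prelude.Def_RelProj4

/-!
# Graded rings with a polynomial generator of degree one

`IsLine 𝒜 φ T`: every `𝒜 n` is free over `R` (through `φ : R →+* A`) on `T ^ n`, i.e. `A = R[T]`.
-/

set_option autoImplicit false
set_option linter.unusedSectionVars false
universe u
open CategoryTheory CategoryTheory.Limits AlgebraicGeometry TopologicalSpace Opposite
open scoped HomogeneousIdeal

noncomputable section

namespace K41.LineRing

section alg

variable {A σ : Type*} [CommRing A] [SetLike σ A] [AddSubgroupClass σ A] (𝒜 : ℕ → σ) [GradedRing 𝒜]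
  {R : Type*} [CommRing R] (φ : R →+* A) (T : A)

/-- `A = R[T]` as a graded ring. -/
structure IsLine : Prop where
  deg_T : T ∈ 𝒜 1
  deg_φ : ∀ r, φ r ∈ 𝒜 0
  surj : ∀ n, ∀ a ∈ 𝒜 n, ∃ r, a = φ r * T ^ n
  inj : ∀ n r, φ r * T ^ n = 0 → r = 0

namespace IsLine

variable {𝒜} {φ} {T} (h : IsLine 𝒜 φ T)
include h

theorem mem (n : ℕ) (r : R) : φ r * T ^ n ∈ 𝒜 n := by
  have h1 := SetLike.mul_mem_graded (A := 𝒜) (h.deg_φ r) (SetLike.pow_mem_graded n h.deg_T)
  simpa using h1

theorem ext {n : ℕ} {r s : R} (e : φ r * T ^ n = φ s * T ^ n) : r = s := by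
  have : φ (r - s) * T ^ n = 0 := by rw [map_sub, sub_mul, e, sub_self]
  exact sub_eq_zero.mp (h.inj n _ this)

theorem φ_injective : Function.Injective φ := fun r s e => h.ext (n := 0) (by rw [e])

theorem exists_coeff {n : ℕ} {a : A} (ha : a ∈ 𝒜 n) : ∃! r, a = φ r * T ^ n := by
  obtain ⟨r, hr⟩ := h.surj n a ha
  exact ⟨r, hr, fun s hs => h.ext (hs.symm.trans hr)⟩

theorem mul_pow_cancel {x : A} {n : ℕ} (hx : x * T ^ n = 0) : x = 0 := by
  classical
  rw [← DirectSum.sum_support_decompose 𝒜 x]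
  refine Finset.sum_eq_zero fun i _ => ?_
  have h1 : (DirectSum.decompose 𝒜 (x * T ^ n) (i + n) : A) = DirectSum.decompose 𝒜 x i * T ^ n :=
    DirectSum.coe_decompose_mul_add_of_right_mem 𝒜 (by simpa using SetLike.pow_mem_graded n h.deg_T)
  rw [hx, DirectSum.decompose_zero] at h1
  obtain ⟨r, hr⟩ := h.surj i _ (SetLike.coe_mem (DirectSum.decompose 𝒜 x i))
  have h2 : φ r * T ^ (i + n) = 0 := by
    rw [pow_add, ← mul_assoc, ← hr, ← h1]; rfl
  rw [hr, h.inj _ _ h2, map_zero, zero_mul]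

theorem span_iff (d : ℕ) (a : R) : (𝒜 d : Set A) ⊆ (Ideal.span {φ a * T ^ d} : Set A) ↔ IsUnit a := by
  classical
  constructor
  · intro H
    have h1 : T ^ d ∈ 𝒜 d := by simpa using SetLike.pow_mem_graded d h.deg_T
    obtain ⟨c, hc⟩ := Ideal.mem_span_singleton'.mp (H h1)
    have h2 : (DirectSum.decompose 𝒜 (c * (φ a * T ^ d)) (0 + d) : A) =
        DirectSum.decompose 𝒜 c 0 * (φ a * T ^ d) :=
      DirectSum.coe_decompose_mul_add_of_right_mem 𝒜 (h.mem d a)
    rw [hc, zero_add, DirectSum.decompose_of_mem_same _ h1] at h2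
    obtain ⟨b, hb⟩ := h.surj 0 _ (SetLike.coe_mem (DirectSum.decompose 𝒜 c 0))
    rw [hb, pow_zero, mul_one, ← mul_assoc, ← map_mul] at h2
    have h3 : b * a = 1 := h.ext (n := d) (by rw [← h2, map_one, one_mul])
    exact IsUnit.of_mul_eq_one b (by rw [mul_comm]; exact h3)
  · rintro ha x hx
    obtain ⟨r, rfl⟩ := h.surj d x hx
    obtain ⟨a, rfl⟩ := ha
    refine Ideal.mem_span_singleton'.mpr ⟨φ (r * ↑a⁻¹), ?_⟩
    rw [← mul_assoc, ← map_mul, mul_assoc, Units.inv_mul, mul_one]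

theorem isNilpotent_iff (d : ℕ) (a : R) : IsNilpotent (φ a * T ^ d) ↔ IsNilpotent a := by
  constructor
  · rintro ⟨n, hn⟩
    refine ⟨n, h.inj (d * n) _ ?_⟩
    rw [map_pow, pow_mul, ← mul_pow]
    exact hn
  · rintro ⟨n, hn⟩
    exact ⟨n, by rw [mul_pow, ← map_pow, hn, map_zero, zero_mul]⟩

omit h in
/-- Constructing an `IsLine` from a presentation as a polynomial ring. -/
theorem of_bijective (hT : T ∈ 𝒜 1) (hφ : ∀ r, φ r ∈ 𝒜 0)
    (hb : Function.Bijective (Polynomial.eval₂RingHom φ T)) : IsLine 𝒜 φ T where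
  deg_T := hT
  deg_φ := hφ
  surj n a ha := by
    classical
    obtain ⟨p, rfl⟩ := hb.2 a
    have hm : ∀ (k : ℕ) (r : R), φ r * T ^ k ∈ 𝒜 k := fun k r => by
      simpa using SetLike.mul_mem_graded (A := 𝒜) (hφ r) (SetLike.pow_mem_graded k hT)
    refine ⟨p.coeff n, ?_⟩
    have h1 : (DirectSum.decompose 𝒜 (Polynomial.eval₂ φ T p) n : A) = φ (p.coeff n) * T ^ n := by
      rw [Polynomial.eval₂_eq_sum_range, DirectSum.decompose_sum, DFinsupp.finsetSum_apply,
        AddSubmonoidClass.coe_finsetSum]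
      rw [Finset.sum_eq_single n]
      · rw [DirectSum.decompose_of_mem_same _ (hm n _)]
      · intro b _ hbn
        rw [DirectSum.decompose_of_mem_ne _ (hm b _) hbn]
      · intro hn
        rw [Finset.mem_range, not_lt] at hn
        rw [Polynomial.coeff_eq_zero_of_natDegree_lt (by omega), map_zero, zero_mul,
          DirectSum.decompose_zero]
        rfl
    rw [← h1]
    exact (DirectSum.decompose_of_mem_same _ ha).symm
  inj n r hr := by
    have h1 : Polynomial.eval₂RingHom φ T (Polynomial.monomial n r) = 0 := by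
      rw [Polynomial.coe_eval₂RingHom, Polynomial.eval₂_monomial]; exact hr
    have h2 := hb.1 (h1.trans (map_zero _).symm)
    simpa using h2

end IsLine

end alg

section geom

variable {A : Type u} {σ : Type u} [CommRing A] [SetLike σ A] [AddSubgroupClass σ A] (𝒜 : ℕ → σ) [GradedRing 𝒜]
  {R : Type u} [CommRing R] (φ : R →+* A) (T : A) (hφ : ∀ r, φ r ∈ 𝒜 0)

/-- The corestriction of `φ` to the subring of degree zero. -/
def toZero : R →+* 𝒜 0 where
  toFun r := ⟨φ r, hφ r⟩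
  map_one' := Subtype.ext (map_one _)
  map_mul' a b := Subtype.ext (map_mul _ a b)
  map_zero' := Subtype.ext (map_zero _)
  map_add' a b := Subtype.ext (map_add _ a b)

/-- The structure morphism `Proj A ⟶ Spec R`. -/
def toSpec : Proj 𝒜 ⟶ Spec (CommRingCat.of R) :=
  Proj.toSpecZero 𝒜 ≫ Spec.map (CommRingCat.ofHom (toZero 𝒜 φ hφ))

variable {𝒜} {φ} {T} (h : IsLine 𝒜 φ T)
include h

theorem basicOpen_T : Proj.basicOpen 𝒜 T = ⊤ := by
  refine top_le_iff.mp fun x _ => ?_
  rw [Proj.mem_basicOpen]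
  intro hT
  refine x.not_irrelevant_le ?_
  rw [HomogeneousIdeal.irrelevant_le]
  intro i hi a ha
  obtain ⟨r, rfl⟩ := h.surj i a ha
  obtain ⟨k, rfl⟩ : ∃ k, i = k + 1 := ⟨i - 1, by omega⟩
  have : φ r * T ^ (k + 1) = φ r * T ^ k * T := by rw [pow_succ, mul_assoc]
  rw [this]
  exact Ideal.mul_mem_left _ _ hT

theorem isIso_awayι : IsIso (Proj.awayι 𝒜 T h.deg_T one_pos) := by
  have : Epi (Proj.awayι 𝒜 T h.deg_T one_pos).base := by
    rw [TopCat.epi_iff_surjective, ← Set.range_eq_univ]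
    have e := congrArg (fun U : (Proj 𝒜).Opens => (U : Set (Proj 𝒜)))
      ((Proj.opensRange_awayι 𝒜 T h.deg_T one_pos).trans (basicOpen_T h))
    exact e
  exact (IsOpenImmersion.isIso _)

theorem awayι_toSpec : Proj.awayι 𝒜 T h.deg_T one_pos ≫ toSpec 𝒜 φ h.deg_φ =
    Spec.map (CommRingCat.ofHom ((HomogeneousLocalization.fromZeroRingHom 𝒜 (Submonoid.powers T)).comp
      (toZero 𝒜 φ h.deg_φ))) := by
  rw [toSpec, Proj.awayι_toSpecZero_assoc, ← Spec.map_comp, ← CommRingCat.ofHom_comp]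

theorem bijective_toAway : Function.Bijective ((HomogeneousLocalization.fromZeroRingHom 𝒜
    (Submonoid.powers T)).comp (toZero 𝒜 φ h.deg_φ)) := by
  constructor
  · rw [injective_iff_map_eq_zero]
    intro r hr
    have h1 := congrArg HomogeneousLocalization.val hr
    rw [RingHom.comp_apply, HomogeneousLocalization.val_zero] at h1
    have h2 : (HomogeneousLocalization.fromZeroRingHom 𝒜 (Submonoid.powers T) (toZero 𝒜 φ h.deg_φ r)).val =
        Localization.mk (φ r) 1 := rfl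
    rw [h2, ← Localization.mk_zero 1, Localization.mk_eq_mk_iff, Localization.r_iff_exists] at h1
    obtain ⟨⟨_, k, rfl⟩, hk⟩ := h1
    simp only [OneMemClass.coe_one, one_mul, mul_zero] at hk
    exact h.inj k r (by rw [mul_comm]; exact hk)
  · intro y
    obtain ⟨n, x, hx, rfl⟩ := HomogeneousLocalization.Away.mk_surjective 𝒜 h.deg_T y
    obtain ⟨r, rfl⟩ := h.surj _ x hx
    refine ⟨r, HomogeneousLocalization.val_injective _ ?_⟩
    have h2 : (HomogeneousLocalization.fromZeroRingHom 𝒜 (Submonoid.powers T) (toZero 𝒜 φ h.deg_φ r)).val =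
        Localization.mk (φ r) 1 := rfl
    rw [RingHom.comp_apply, h2, HomogeneousLocalization.Away.val_mk, Localization.mk_eq_mk_iff,
      Localization.r_iff_exists]
    refine ⟨1, ?_⟩
    simp [mul_comm]

theorem isIso_toSpec : IsIso (toSpec 𝒜 φ h.deg_φ) := by
  have := isIso_awayι h
  have h1 : IsIso (Proj.awayι 𝒜 T h.deg_T one_pos ≫ toSpec 𝒜 φ h.deg_φ) := by
    rw [awayι_toSpec h]
    have : IsIso (CommRingCat.ofHom ((HomogeneousLocalization.fromZeroRingHom 𝒜 (Submonoid.powers T)).comp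
      (toZero 𝒜 φ h.deg_φ))) := (ConcreteCategory.isIso_iff_bijective _).mpr (bijective_toAway h)
    infer_instance
  exact IsIso.of_isIso_comp_left (Proj.awayι 𝒜 T h.deg_T one_pos) _

theorem toSpec_preimage (d : ℕ) (a : R) :
    toSpec 𝒜 φ h.deg_φ ⁻¹ᵁ (PrimeSpectrum.basicOpen a : (Spec (CommRingCat.of R)).Opens) =
      Proj.basicOpen 𝒜 (φ a * T ^ d) := by
  have hT := basicOpen_T h
  have e1 : Proj.basicOpen 𝒜 (φ a * T ^ d) = Proj.basicOpen 𝒜 (φ a * T ^ 1) := by
    rw [Proj.basicOpen_mul, Proj.basicOpen_mul, pow_one, hT, inf_top_eq]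
    rcases Nat.eq_zero_or_pos d with rfl | hd
    · rw [pow_zero, Proj.basicOpen_one, inf_top_eq]
    · rw [Proj.basicOpen_pow _ _ _ hd, hT, inf_top_eq]
  rw [e1]
  have := isIso_awayι h
  have e2 := Proj.awayι_preimage_basicOpen 𝒜 h.deg_T one_pos (h.mem 1 a) one_pos
  have e3 : Proj.awayι 𝒜 T h.deg_T one_pos ⁻¹ᵁ (toSpec 𝒜 φ h.deg_φ ⁻¹ᵁ
      (PrimeSpectrum.basicOpen a : (Spec (CommRingCat.of R)).Opens)) =
      Proj.awayι 𝒜 T h.deg_T one_pos ⁻¹ᵁ Proj.basicOpen 𝒜 (φ a * T ^ 1) := by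
    rw [e2, ← Scheme.Hom.comp_preimage, awayι_toSpec h]
    have e4 : (((HomogeneousLocalization.fromZeroRingHom 𝒜 (Submonoid.powers T)).comp
      (toZero 𝒜 φ h.deg_φ)) a) = HomogeneousLocalization.Away.isLocalizationElem h.deg_T (h.mem 1 a) := by
      refine HomogeneousLocalization.val_injective _ ?_
      have h2 : (HomogeneousLocalization.fromZeroRingHom 𝒜 (Submonoid.powers T) (toZero 𝒜 φ h.deg_φ a)).val =
        Localization.mk (φ a) 1 := rfl
      rw [RingHom.comp_apply, h2, HomogeneousLocalization.Away.val_mk, Localization.mk_eq_mk_iff,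
        Localization.r_iff_exists]
      refine ⟨1, ?_⟩
      simp [mul_comm]
    rw [← e4]
    rfl
  have e5 := congrArg (fun U => (inv (Proj.awayι 𝒜 T h.deg_T one_pos)) ⁻¹ᵁ U) e3
  simp only [← Scheme.Hom.comp_preimage, IsIso.inv_hom_id_assoc, IsIso.inv_hom_id, Scheme.Hom.id_preimage] at e5
  exact e5

end geom

end K41.LineRing
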