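import Mathlib.RingTheory.GradedAlgebra.HomogeneousLocalization
import Mathlib.RingTheory.Localization.Integral
import Mathlib.Algebra.Polynomial.AlgebraMap

/-!
# Degree-zero localization of `S[z]`

As in `Groth.Agent.Ega2.H302.AwayPoly`, for gradings by additive subgroups.


For graded rings `𝒜 ⊆ ℬ = 𝒜[z]` with `z` of degree one, and `f ∈ 𝒜` of degree one,
`ℬ_(f) = 𝒜_(f)[z/f]` is a polynomial ring in one variable over `𝒜_(f)`.
-/

set_option autoImplicit false
universe u
open HomogeneousLocalization Polynomial

noncomputable section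

namespace K41.AwayPoly

variable {A B : Type u} {σ τ : Type*} [CommRing A] [CommRing B] [SetLike σ A] [AddSubgroupClass σ A] [SetLike τ B]
    [AddSubgroupClass τ B] {𝒜 : ℕ → σ} {ℬ : ℕ → τ} [GradedRing 𝒜] [GradedRing ℬ] [Algebra A B] (φ : 𝒜 →+*ᵍ ℬ) (hφ : ∀ a : A, φ a = algebraMap A B a)
    {z : B} (hz : z ∈ ℬ 1) (hhat : Function.Bijective (Polynomial.aeval (R := A) z))
    {f : A} (hf : f ∈ 𝒜 1)

/-- The map `𝒜_(f)[T] → ℬ_(f)`, `T ↦ z / f`. -/
def polyMap : Polynomial (Away 𝒜 f) →+* Away ℬ (φ f) :=
  Polynomial.eval₂RingHom (Away.map φ f) (Away.mk ℬ (Graded.map_mem φ hf) 1 z (by simpa using hz))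

omit [Algebra A B] in
theorem polyMap_C (x : Away 𝒜 f) : polyMap φ hz hf (C x) = Away.map φ f x := by
  simp [polyMap]

omit [Algebra A B] in
theorem polyMap_X : polyMap φ hz hf X = Away.mk ℬ (Graded.map_mem φ hf) 1 z (by simpa using hz) := by
  simp [polyMap]

include hφ hhat in
theorem polyMap_surjective : Function.Surjective (polyMap φ hz hf) := by
  intro y
  obtain ⟨n, b, hb, rfl⟩ := Away.mk_surjective ℬ (Graded.map_mem φ hf) y
  obtain ⟨P, rfl⟩ := hhat.2 b
  have hb' : (DirectSum.decompose ℬ (aeval z P) (n • 1) : B) = aeval z P := by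
    exact DirectSum.decompose_of_mem_same ℬ hb
  have hP : aeval z P = ∑ i ∈ Finset.range (n + 1), φ (DirectSum.decompose 𝒜 (P.coeff i) (n - i)) * z ^ i := by
    have hsum : aeval z P = ∑ i ∈ Finset.range (max (P.natDegree + 1) (n + 1)), φ (P.coeff i) * z ^ i := by
      rw [aeval_eq_sum_range' (n := max (P.natDegree + 1) (n + 1))
        (lt_of_lt_of_le (Nat.lt_succ_self _) (le_max_left _ _))]
      exact Finset.sum_congr rfl fun i _ => by rw [Algebra.smul_def, hφ]
    rw [← hb', hsum, DirectSum.decompose_sum, DFinsupp.finsetSum_apply, AddSubmonoidClass.coe_finsetSum]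
    have hsub : Finset.range (n + 1) ⊆ Finset.range (max (P.natDegree + 1) (n + 1)) :=
      Finset.range_subset_range.mpr (le_max_right _ _)
    rw [← Finset.sum_subset hsub (f := fun i =>
      ((DirectSum.decompose ℬ (φ (P.coeff i) * z ^ i) (n • 1) : ℬ (n • 1)) : B))]
    · refine Finset.sum_congr rfl fun i hi => ?_
      have hi' : i ≤ n := Nat.lt_succ_iff.mp (Finset.mem_range.mp hi)
      have hzi : z ^ i ∈ ℬ i := by simpa using SetLike.pow_mem_graded i hz
      have := DirectSum.coe_decompose_mul_of_right_mem_of_le ℬ (a := φ (P.coeff i)) (n := n • 1) hzi (by simpa using hi')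
      rw [this, GradedRingHom.map_directSumDecompose, smul_eq_mul, mul_one]
    · intro i _ hi
      have hi' : ¬ i ≤ n := fun h => hi (Finset.mem_range.mpr (Nat.lt_succ_iff.mpr h))
      have hzi : z ^ i ∈ ℬ i := by simpa using SetLike.pow_mem_graded i hz
      exact DirectSum.coe_decompose_mul_of_right_mem_of_not_le ℬ (a := φ (P.coeff i)) (n := n • 1) hzi
        (by simpa using hi')
  refine ⟨∑ i ∈ Finset.range (n + 1),
    C (Away.mk 𝒜 hf (n - i) (DirectSum.decompose 𝒜 (P.coeff i) (n - i) : A)
      (by rw [smul_eq_mul, mul_one]; exact SetLike.coe_mem _)) * X ^ i, ?_⟩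
  ext
  rw [Away.val_mk, map_sum, ← HomogeneousLocalization.algebraMap_apply, map_sum]
  have hm : (Localization.mk (aeval z P) (⟨φ f ^ n, n, rfl⟩ : Submonoid.powers (φ f)) :
      Localization.Away (φ f)) = ∑ i ∈ Finset.range (n + 1),
        Localization.mk (φ (DirectSum.decompose 𝒜 (P.coeff i) (n - i)) * z ^ i) (⟨φ f ^ n, n, rfl⟩ : Submonoid.powers (φ f)) := by
    rw [hP]
    simp only [Localization.mk_eq_mk', IsLocalization.mk'_eq_mul_mk'_one (∑ i ∈ _, _), map_sum,
      Finset.sum_mul]
    refine Finset.sum_congr rfl fun i _ => ?_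
    rw [← IsLocalization.mk'_eq_mul_mk'_one]
  rw [hm]
  refine Finset.sum_congr rfl fun i hi => ?_
  have hi' : i ≤ n := Nat.lt_succ_iff.mp (Finset.mem_range.mp hi)
  rw [map_mul, map_pow, polyMap_C, polyMap_X, Away.map_mk, HomogeneousLocalization.algebraMap_apply, val_mul, val_pow,
    Away.val_mk, Away.val_mk, Localization.mk_pow, Localization.mk_mul]
  congr 1
  ext
  simp [← pow_add, Nat.sub_add_cancel hi']

include hφ hhat in
theorem polyMap_injective : Function.Injective (polyMap φ hz hf) := by
  rw [injective_iff_map_eq_zero]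
  intro P hP
  -- pass to the localizations
  let θ : Localization.Away f →+* Localization.Away (φ f) :=
    IsLocalization.map (M := Submonoid.powers f) (T := Submonoid.powers (φ f)) (Localization.Away (φ f))
      (φ : A →+* B) (by rintro _ ⟨n, rfl⟩; exact ⟨n, by simp⟩)
  have hθ : ∀ x : Away 𝒜 f, (Away.map φ f x).val = θ x.val := by
    intro x
    obtain ⟨n, a, ha, rfl⟩ := Away.mk_surjective 𝒜 hf x
    rw [Away.map_mk, Away.val_mk, Away.val_mk, Localization.mk_eq_mk', Localization.mk_eq_mk']
    erw [IsLocalization.map_mk']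
    congr 1
    ext
    simp
  have hθa : ∀ a : A, θ (algebraMap A _ a) = algebraMap B _ (φ a) := fun a =>
    IsLocalization.map_eq _ a
  -- `A_f[X] → B_f`, `X ↦ z`, is injective
  have hinj : ∀ Q : (Localization.Away f)[X],
      eval₂ θ (algebraMap B (Localization.Away (φ f)) z) Q = 0 → Q = 0 := by
    intro Q hQ
    obtain ⟨b, hb, hbQ⟩ := IsLocalization.integerNormalization_spec (Submonoid.powers f) Q
    set N := IsLocalization.integerNormalization (Submonoid.powers f) Q with hN
    have h1 : algebraMap B (Localization.Away (φ f)) (aeval z N) = 0 := by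
      have h2 : eval₂ (θ.comp (algebraMap A (Localization.Away f)))
          (algebraMap B (Localization.Away (φ f)) z) N = 0 :=
        IsLocalization.integerNormalization_eval₂_eq_zero (Submonoid.powers f) θ Q hQ
      have h3 : θ.comp (algebraMap A (Localization.Away f)) =
          (algebraMap B (Localization.Away (φ f))).comp (algebraMap A B) := by
        ext a
        simp only [RingHom.comp_apply]
        rw [hθa]; exact congrArg _ (hφ a)
      rw [h3] at h2
      rw [aeval_def, hom_eval₂]
      exact h2
    obtain ⟨⟨_, n, rfl⟩, hn⟩ := (IsLocalization.map_eq_zero_iff (Submonoid.powers (φ f)) _ _).mp h1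
    have h4 : C (f ^ n) * N = 0 := by
      apply hhat.1
      rw [map_mul, aeval_C, map_zero, map_pow, ← hφ]
      exact hn
    have h5 : N.map (algebraMap A (Localization.Away f)) = 0 := by
      have h6 := congrArg (Polynomial.map (algebraMap A (Localization.Away f))) h4
      rw [Polynomial.map_mul, Polynomial.map_C, Polynomial.map_zero] at h6
      have hu : IsUnit (C (algebraMap A (Localization.Away f) (f ^ n))) := by
        rw [map_pow]
        exact ((IsLocalization.Away.algebraMap_isUnit f).pow n).map C
      exact (hu.mul_right_eq_zero).mp h6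
    rw [h5] at hbQ
    have hub : IsUnit (algebraMap A (Localization.Away f) b) := IsLocalization.map_units _ (⟨b, hb⟩ : Submonoid.powers f)
    have h7 : C (algebraMap A (Localization.Away f) b) * Q = 0 := by
      rw [← Polynomial.smul_eq_C_mul, algebraMap_smul, ← hbQ]
    exact ((hub.map C).mul_right_eq_zero).mp h7
  have hu : IsUnit (algebraMap A (Localization.Away f) f) := IsLocalization.Away.algebraMap_isUnit f
  obtain ⟨w, hw⟩ := hu
  have hzf : (Away.mk ℬ (Graded.map_mem φ hf) 1 z (by simpa using hz)).val =
      θ ((w⁻¹ : (Localization.Away f)ˣ) : Localization.Away f) * algebraMap B (Localization.Away (φ f)) z := by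
    have h1 : θ (w : Localization.Away f) * θ ((w⁻¹ : (Localization.Away f)ˣ) : Localization.Away f) = 1 := by
      rw [← map_mul, Units.mul_inv, map_one]
    have h2 : θ (w : Localization.Away f) * (Away.mk ℬ (Graded.map_mem φ hf) 1 z (by simpa using hz)).val =
        algebraMap B (Localization.Away (φ f)) z := by
      rw [hw, hθa, Away.val_mk, Localization.mk_eq_mk', mul_comm]
      have := IsLocalization.mk'_spec (Localization.Away (φ f)) z
        (⟨φ f ^ 1, 1, rfl⟩ : Submonoid.powers (φ f))
      simpa using this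
    calc (Away.mk ℬ (Graded.map_mem φ hf) 1 z (by simpa using hz)).val
        = (θ (w : Localization.Away f) * θ ((w⁻¹ : (Localization.Away f)ˣ) : Localization.Away f)) *
          (Away.mk ℬ (Graded.map_mem φ hf) 1 z (by simpa using hz)).val := by rw [h1, one_mul]
      _ = θ ((w⁻¹ : (Localization.Away f)ˣ) : Localization.Away f) *
          (θ (w : Localization.Away f) * (Away.mk ℬ (Graded.map_mem φ hf) 1 z (by simpa using hz)).val) := by ring
      _ = _ := by rw [h2]
  have hval : eval₂ (θ.comp (algebraMap (Away 𝒜 f) (Localization.Away f)))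
      (θ ((w⁻¹ : (Localization.Away f)ˣ) : Localization.Away f) * algebraMap B (Localization.Away (φ f)) z) P = 0 := by
    have h1 := congrArg (algebraMap (Away ℬ (φ f)) (Localization.Away (φ f))) hP
    rw [polyMap, coe_eval₂RingHom, hom_eval₂, map_zero] at h1
    have h2 : (algebraMap (Away ℬ (φ f)) (Localization.Away (φ f))).comp (Away.map φ f) =
        θ.comp (algebraMap (Away 𝒜 f) (Localization.Away f)) := by
      ext x
      simp only [RingHom.comp_apply, HomogeneousLocalization.algebraMap_apply]
      exact hθ x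
    rw [h2, HomogeneousLocalization.algebraMap_apply, hzf] at h1
    exact h1
  have hQ := hinj ((P.map (algebraMap (Away 𝒜 f) (Localization.Away f))).comp
    (C ((w⁻¹ : (Localization.Away f)ˣ) : Localization.Away f) * X)) (by
      rw [Polynomial.eval₂_comp, eval₂_mul, eval₂_C, eval₂_X, eval₂_map]
      exact hval)
  have hQ' : P.map (algebraMap (Away 𝒜 f) (Localization.Away f)) = 0 := by
    have h1 := congrArg (fun q : (Localization.Away f)[X] => q.comp (C (w : Localization.Away f) * X)) hQ
    simp only [Polynomial.comp_assoc, zero_comp, mul_comp, C_comp, X_comp] at h1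
    rw [← mul_assoc, ← C_mul, Units.inv_mul, C_1, one_mul, comp_X] at h1
    exact h1
  have hinj2 : Function.Injective (Polynomial.map (algebraMap (Away 𝒜 f) (Localization.Away f))) :=
    Polynomial.map_injective _ (HomogeneousLocalization.val_injective _)
  exact hinj2 (by rw [hQ', Polynomial.map_zero])

end K41.AwayPoly
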