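import Groth.Agent.EGA2.K41.ProjComp
import Groth.Agent.EGA2.K37.ConeProj2
import Groth.Agent.EGA2.K40.QGlue

/-!
# Morphisms of projective cones: pointed cones and retractions
-/

set_option autoImplicit false
set_option linter.unusedSectionVars false
universe u
open CategoryTheory CategoryTheory.Limits AlgebraicGeometry TopologicalSpace Opposite
open scoped HomogeneousIdeal

noncomputable section

namespace K41.ConeMap
open K42.DomQ K42.DomMap K42.DomHom K41.ProjComp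

/-- The pointed projective cone is the open of definition of `Proj(𝒮[z]) ⇢ Proj(𝒮)`. -/
theorem pointedProjCone_eq {Y PC : Scheme.{u}} {𝒮 𝒮h : RelProj.QCGrAlg Y} {ι : 𝒮.toQCAlg ⟶ 𝒮h.toQCAlg}
    {z : 𝒮h.presheaf.obj (op ⊤)} (hz : RelCone.IsPolyOver 𝒮 𝒮h ι z) {pC : PC ⟶ Y}
    {chartC : ∀ (U : Y.Opens) (hU : IsAffineOpen U), (((pC ⁻¹ᵁ U : PC.Opens) : Scheme.{u}) ≅ Proj (𝒮h.deg U hU))}
    (hC : RelProj.IsRelProj 𝒮h pC chartC) :
    RelCone.pointedProjCone 𝒮 hz pC chartC = RelProj.domQ (RelProj.QGrHom.ofHom ι hz.graded) pC chartC := by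
  ext x
  obtain ⟨U, hU, hxU, -⟩ := exists_isAffineOpen_mem_and_subset (x := pC.base x) (U := ⊤) trivial
  obtain ⟨w, rfl⟩ := exists_emb_eq pC chartC U hU x hxU
  have h1 := K37.ConeProj2.emb_mem_pointedProjCone_iff hz hC U hU w
  have h2 := emb_mem_domQ_iff (RelProj.QGrHom.ofHom ι hz.graded) hC U hU U hU le_rfl w
  rw [gradedAt_ofHom] at h2
  exact h1.trans h2.symm

section

variable {Y Y' : Scheme.{u}} {q : Y' ⟶ Y} {𝒮 : RelProj.QCGrAlg Y} {𝒮' : RelProj.QCGrAlg Y'}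
    (u : RelProj.QGrHom q 𝒮 𝒮')
    {𝒮h : RelProj.QCGrAlg Y} {ι : 𝒮.toQCAlg ⟶ 𝒮h.toQCAlg} (hι : RelProj.IsGradedHom ι)
    {𝒮h' : RelProj.QCGrAlg Y'} {ι' : 𝒮'.toQCAlg ⟶ 𝒮h'.toQCAlg} (hι' : RelProj.IsGradedHom ι')
    (uh : RelProj.QGrHom q 𝒮h 𝒮h')
    (huh : ∀ (U : Y.Opens), IsAffineOpen U → ι.hom.app (op U) ≫ uh.app U = u.app U ≫ ι'.hom.app (op (q ⁻¹ᵁ U)))

include huh in
/-- `ι' ∘ u = uh ∘ ι` on affine pairs. -/
theorem gradedComp_eq (U : Y.Opens) (hU : IsAffineOpen U) (U' : Y'.Opens) (hU' : IsAffineOpen U')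
    (hle : U' ≤ q ⁻¹ᵁ U) (h1 : U' ≤ (𝟙 Y') ⁻¹ᵁ U') (h2 : U ≤ (𝟙 Y) ⁻¹ᵁ U) :
    gradedComp u (RelProj.QGrHom.ofHom ι' hι') U hU U' hU' hle U' hU' h1 =
      gradedComp (RelProj.QGrHom.ofHom ι hι) uh U hU U hU h2 U' hU' hle := by
  ext x
  rw [gradedComp_apply, gradedComp_apply, gradedAt_ofHom_apply, gradedAt_ofHom_apply,
    RelProj.QGrHom.gradedAt_apply, RelProj.QGrHom.gradedAt_apply, RelSpec.QHom.appLE, RelSpec.QHom.appLE,
    ← CommRingCat.comp_apply, ← CommRingCat.comp_apply, Category.assoc, reassoc_of% (huh U hU)]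
  have h3 := ι'.hom.naturality (homOfLE hle).op
  rw [h3]

include huh in
theorem agree : Agree u (RelProj.QGrHom.ofHom ι' hι') (RelProj.QGrHom.ofHom ι hι) uh := by
  intro s
  obtain ⟨U, hU, U', hU', hle, hs⟩ := exists_affinePair q s
  exact ⟨U, hU, U', hU', hle, U, hU, le_rfl, U', hU', le_rfl, hle, hs, gradedComp_eq u hι hι' uh huh U hU U' hU' hle _ _⟩

variable {P : Scheme.{u}} {p : P ⟶ Y}
  {chart : ∀ (U : Y.Opens) (hU : IsAffineOpen U), (((p ⁻¹ᵁ U : P.Opens) : Scheme.{u}) ≅ Proj (𝒮.deg U hU))}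
  {P' : Scheme.{u}} {p' : P' ⟶ Y'}
  {chart' : ∀ (U : Y'.Opens) (hU : IsAffineOpen U), (((p' ⁻¹ᵁ U : P'.Opens) : Scheme.{u}) ≅ Proj (𝒮'.deg U hU))}
  {PC : Scheme.{u}} {pC : PC ⟶ Y}
  {chartC : ∀ (U : Y.Opens) (hU : IsAffineOpen U), (((pC ⁻¹ᵁ U : PC.Opens) : Scheme.{u}) ≅ Proj (𝒮h.deg U hU))}
  {PC' : Scheme.{u}} {pC' : PC' ⟶ Y'}
  {chartC' : ∀ (U : Y'.Opens) (hU : IsAffineOpen U), (((pC' ⁻¹ᵁ U : PC'.Opens) : Scheme.{u}) ≅ Proj (𝒮h'.deg U hU))}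
  (hC : RelProj.IsRelProj 𝒮h pC chartC) (hC' : RelProj.IsRelProj 𝒮h' pC' chartC')
  (hP' : RelProj.IsRelProj 𝒮' p' chart')
  {Φh : ((RelProj.domQ uh pC' chartC' : PC'.Opens) : Scheme.{u}) ⟶ PC}
  (hΦh : RelProj.IsProjQMapOn uh pC chartC pC' chartC' (RelProj.domQ uh pC' chartC') Φh)

include huh hC hC' hP' hΦh in
/-- `Φ̂⁻¹(Ê) = p̂'⁻¹(G(φ))`. -/
theorem image_preimage_eq {E : PC.Opens} (hE : E = RelProj.domQ (RelProj.QGrHom.ofHom ι hι) pC chartC)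
    {E' : PC'.Opens} (hE' : E' = RelProj.domQ (RelProj.QGrHom.ofHom ι' hι') pC' chartC')
    {r' : (E' : Scheme.{u}) ⟶ P'}
    (hr' : RelProj.IsProjQMapOn (RelProj.QGrHom.ofHom ι' hι') p' chart' pC' chartC' E' r') :
    E'.ι ''ᵁ (r' ⁻¹ᵁ RelProj.domQ u p' chart') = (RelProj.domQ uh pC' chartC').ι ''ᵁ (Φh ⁻¹ᵁ E) := by
  subst hE hE'
  exact ProjComp.image_preimage_eq hr' hΦh hP' hC hC' (agree u hι hι' uh huh)

include huh hC hC' hP' hΦh in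
/-- The preimage of the pointed cone is in the pointed cone. -/
theorem preimage_le {E : PC.Opens} (hE : E = RelProj.domQ (RelProj.QGrHom.ofHom ι hι) pC chartC)
    {E' : PC'.Opens} (hE' : E' = RelProj.domQ (RelProj.QGrHom.ofHom ι' hι') pC' chartC') :
    (RelProj.domQ uh pC' chartC').ι ''ᵁ (Φh ⁻¹ᵁ E) ≤ E' := by
  subst hE'
  obtain ⟨r', hr'⟩ := K40.QGlue.exists_isProjQMapOn (u := RelProj.QGrHom.ofHom ι' hι') hP' hC'
  rw [← image_preimage_eq u hι hι' uh huh hC hC' hP' hΦh hE rfl hr']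
  rintro _ ⟨y, -, rfl⟩
  exact y.2

include huh hC hC' hP' hΦh in
/-- When `Proj(φ)` is everywhere defined, the preimage of the pointed cone is the pointed cone. -/
theorem preimage_eq {E : PC.Opens} (hE : E = RelProj.domQ (RelProj.QGrHom.ofHom ι hι) pC chartC)
    {E' : PC'.Opens} (hE' : E' = RelProj.domQ (RelProj.QGrHom.ofHom ι' hι') pC' chartC')
    (htop : RelProj.domQ u p' chart' = ⊤) :
    (RelProj.domQ uh pC' chartC').ι ''ᵁ (Φh ⁻¹ᵁ E) = E' := by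
  subst hE'
  obtain ⟨r', hr'⟩ := K40.QGlue.exists_isProjQMapOn (u := RelProj.QGrHom.ofHom ι' hι') hP' hC'
  rw [← image_preimage_eq u hι hι' uh huh hC hC' hP' hΦh hE rfl hr', htop]
  refine le_antisymm ?_ ?_
  · rintro _ ⟨y, -, rfl⟩
    exact y.2
  · intro x hx
    exact ⟨⟨x, hx⟩, trivial, rfl⟩

variable {Φ : ((RelProj.domQ u p' chart' : P'.Opens) : Scheme.{u}) ⟶ P}
    (hΦ : RelProj.IsProjQMapOn u p chart p' chart' (RelProj.domQ u p' chart') Φ)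

include huh hC hC' hP' hΦh hΦ in
/-- `p̂ ∘ Φ̂ = Proj(φ) ∘ p̂'` on `T`-points. -/
theorem retraction {E : PC.Opens} (hE : E = RelProj.domQ (RelProj.QGrHom.ofHom ι hι) pC chartC)
    {E' : PC'.Opens} (hE' : E' = RelProj.domQ (RelProj.QGrHom.ofHom ι' hι') pC' chartC')
    {r : (E : Scheme.{u}) ⟶ P}
    (hr : RelProj.IsProjQMapOn (RelProj.QGrHom.ofHom ι hι) p chart pC chartC E r)
    {r' : (E' : Scheme.{u}) ⟶ P'}
    (hr' : RelProj.IsProjQMapOn (RelProj.QGrHom.ofHom ι' hι') p' chart' pC' chartC' E' r')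
    (T : Scheme.{u}) (a : T ⟶ (E' : Scheme.{u}))
    (b : T ⟶ ((RelProj.domQ uh pC' chartC' : PC'.Opens) : Scheme.{u}))
    (c : T ⟶ (E : Scheme.{u}))
    (hab : a ≫ E'.ι = b ≫ (RelProj.domQ uh pC' chartC').ι) (hbc : b ≫ Φh = c ≫ E.ι) :
    Set.range (a ≫ r').base ⊆ ((RelProj.domQ u p' chart' : P'.Opens) : Set P') ∧
      ∀ d : T ⟶ ((RelProj.domQ u p' chart' : P'.Opens) : Scheme.{u}),
        a ≫ r' = d ≫ (RelProj.domQ u p' chart').ι → c ≫ r = d ≫ Φ := by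
  constructor
  · rintro _ ⟨t, rfl⟩
    have h1 : (b.base t).1 ∈ (RelProj.domQ uh pC' chartC').ι ''ᵁ (Φh ⁻¹ᵁ E) := by
      refine ⟨b.base t, ?_, rfl⟩
      have h2 : (b ≫ Φh).base t = (c ≫ E.ι).base t := by rw [hbc]
      have h3 : Φh.base (b.base t) = (c.base t).1 := h2
      change Φh.base (b.base t) ∈ E
      rw [h3]; exact (c.base t).2
    rw [← image_preimage_eq u hι hι' uh huh hC hC' hP' hΦh hE hE' hr'] at h1
    obtain ⟨y, hy, e⟩ := h1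
    have h4 : (a ≫ E'.ι).base t = (b ≫ (RelProj.domQ uh pC' chartC').ι).base t := by rw [hab]
    have h5 : y = a.base t := Subtype.ext (e.trans h4.symm)
    subst h5
    exact hy
  · intro d hd
    subst hE hE'
    exact (ProjComp.comp_eq_comp hΦ hr' hr hΦh hP' hC' (agree u hι hι' uh huh) a d hd b c hbc hab).symm

end

end K41.ConeMap
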