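import Groth.Agent.EGA2.K41.ConeMap

/-!
# Morphisms of projective cones: the open `G(φ̂)`
-/

set_option autoImplicit false
set_option linter.unusedSectionVars false
universe u
open CategoryTheory CategoryTheory.Limits AlgebraicGeometry TopologicalSpace Opposite
open scoped HomogeneousIdeal

noncomputable section

namespace K41.ConeMap2
open K42.DomQ K42.DomMap K42.DomHom K41.ProjComp K41.ConeMap

variable {Y Y' : Scheme.{u}} {q : Y' ⟶ Y} {𝒮 : RelProj.QCGrAlg Y} {𝒮' : RelProj.QCGrAlg Y'}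
    {u : RelProj.QGrHom q 𝒮 𝒮'}
    {𝒮h : RelProj.QCGrAlg Y} {ι : 𝒮.toQCAlg ⟶ 𝒮h.toQCAlg} {z : 𝒮h.presheaf.obj (op ⊤)}
    (hz : RelCone.IsPolyOver 𝒮 𝒮h ι z)
    {𝒮h' : RelProj.QCGrAlg Y'} {ι' : 𝒮'.toQCAlg ⟶ 𝒮h'.toQCAlg} {z' : 𝒮h'.presheaf.obj (op ⊤)}
    (hz' : RelCone.IsPolyOver 𝒮' 𝒮h' ι' z')
    {uh : RelProj.QGrHom q 𝒮h 𝒮h'}
    (huhz : (uh.app ⊤).hom z = RelCone.restrictTop 𝒮h' z' (q ⁻¹ᵁ ⊤))

include huhz in
/-- `φ̂(z) = z`. -/
theorem gradedAt_z (U : Y.Opens) (hU : IsAffineOpen U) (U' : Y'.Opens) (hU' : IsAffineOpen U') (hle : U' ≤ q ⁻¹ᵁ U) :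
    uh.gradedAt U hU U' hU' hle (RelCone.restrictTop 𝒮h z U) = RelCone.restrictTop 𝒮h' z' U' := by
  rw [RelProj.QGrHom.gradedAt_apply, RelCone.restrictTop, ← CommRingCat.comp_apply, uh.toQHom.map_appLE,
    RelSpec.QHom.appLE, CommRingCat.comp_apply, huhz, RelCone.restrictTop, ← CommRingCat.comp_apply,
    ← Functor.map_comp]
  rfl

variable {PC' : Scheme.{u}} {pC' : PC' ⟶ Y'}
  {chartC' : ∀ (U : Y'.Opens) (hU : IsAffineOpen U), (((pC' ⁻¹ᵁ U : PC'.Opens) : Scheme.{u}) ≅ Proj (𝒮h'.deg U hU))}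
  (hC' : RelProj.IsRelProj 𝒮h' pC' chartC')

include hz' in
/-- A point of the projective cone is in `D₊(z)` or in the pointed cone. -/
theorem mem_or_mem (U' : Y'.Opens) (hU' : IsAffineOpen U') (w : Proj (𝒮h'.deg U' hU')) :
    RelCone.restrictTop 𝒮h' z' U' ∉ w.asHomogeneousIdeal ∨
      w ∈ RelCone.domOpen (RelProj.gradedHomAt ι' hz'.graded U' hU') := by
  by_contra! hcon
  obtain ⟨h1, h2⟩ := hcon
  obtain ⟨d, hd, g, hg, hgw⟩ := exists_notMem w
  obtain ⟨a, ha, e⟩ := K37.PolyRing.exists_expansion (RelProj.gradedHomAt ι' hz'.graded U' hU') (hz'.deg_z U' hU')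
    (K37.ConeProj.hsurj hz' U' hU') hg
  apply hgw
  rw [e]
  refine sum_mem fun j hj => ?_
  rw [Finset.mem_range] at hj
  rcases Nat.lt_or_ge j d with h | h
  · refine Ideal.mul_mem_left _ _ ?_
    exact Ideal.pow_mem_of_mem _ h1 _ (by omega)
  · obtain rfl : j = d := by omega
    refine Ideal.mul_mem_right _ _ ?_
    by_contra hcon
    exact h2 ((mem_domOpen_iff _ w).mpr ⟨j, hd, a j, ha j, hcon⟩)

include huhz hC' hz hz' in
theorem domQ_uh_eq_top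
    (hle : RelProj.domQ (RelProj.QGrHom.ofHom ι' hz'.graded) pC' chartC' ≤ RelProj.domQ uh pC' chartC') :
    RelProj.domQ uh pC' chartC' = ⊤ := by
  refine top_le_iff.mp fun x _ => ?_
  obtain ⟨U, hU, U', hU', hUU', hxU⟩ := exists_affinePair q (pC'.base x)
  obtain ⟨w, rfl⟩ := exists_emb_eq pC' chartC' U' hU' x hxU
  rcases mem_or_mem hz' U' hU' w with h | h
  · refine std_le_domQ uh U hU U' hU' hUU' one_pos (RelCone.restrictTop 𝒮h z U) (hz.deg_z U hU) ?_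
    rw [gradedAt_z huhz]
    exact (emb_mem_std_iff U' hU' _ w).mpr h
  · refine hle ?_
    rw [← pointedProjCone_eq hz' hC']
    exact (K37.ConeProj2.emb_mem_pointedProjCone_iff hz' hC' U' hU' w).mpr h

end K41.ConeMap2
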