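import Groth.Agent.EGA2.K41.ConeMap2
import Groth.Agent.EGA2.K37.SpecBase

/-!
# Morphisms of projective cones: the part at infinity and the affine cone
-/

set_option autoImplicit false
set_option linter.unusedSectionVars false
universe u
open CategoryTheory CategoryTheory.Limits AlgebraicGeometry TopologicalSpace Opposite
open scoped HomogeneousIdeal

noncomputable section

namespace K41.ConeMap3
open K42.DomQ K42.DomMap K42.DomHom K41.ProjComp K41.ConeMap K41.ConeMap2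

/-- Ring homomorphisms out of `𝒮(U)[z]`. -/
theorem polyHom_ext {Y : Scheme.{u}} {𝒮 𝒮h : RelProj.QCGrAlg Y} {ι : 𝒮.toQCAlg ⟶ 𝒮h.toQCAlg}
    {z : 𝒮h.presheaf.obj (op ⊤)} (hz : RelCone.IsPolyOver 𝒮 𝒮h ι z) (U : Y.Opens) (hU : IsAffineOpen U)
    {R : Type*} [CommRing R] {f g : 𝒮h.presheaf.obj (op U) →+* R}
    (h1 : ∀ a, f ((ι.hom.app (op U)).hom a) = g ((ι.hom.app (op U)).hom a))
    (h2 : f (RelCone.restrictTop 𝒮h z U) = g (RelCone.restrictTop 𝒮h z U)) : f = g := by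
  rw [← RingHom.cancel_right (hz.bij U hU).2]
  refine Polynomial.ringHom_ext (fun a => ?_) ?_
  · simpa using h1 a
  · simpa using h2

variable {Y Y' : Scheme.{u}} {q : Y' ⟶ Y} {𝒮 : RelProj.QCGrAlg Y} {𝒮' : RelProj.QCGrAlg Y'}
    {u : RelProj.QGrHom q 𝒮 𝒮'}
    {𝒮h : RelProj.QCGrAlg Y} {ι : 𝒮.toQCAlg ⟶ 𝒮h.toQCAlg} {z : 𝒮h.presheaf.obj (op ⊤)}
    (hz : RelCone.IsPolyOver 𝒮 𝒮h ι z)
    {𝒮h' : RelProj.QCGrAlg Y'} {ι' : 𝒮'.toQCAlg ⟶ 𝒮h'.toQCAlg} {z' : 𝒮h'.presheaf.obj (op ⊤)}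
    (hz' : RelCone.IsPolyOver 𝒮' 𝒮h' ι' z')
    {uh : RelProj.QGrHom q 𝒮h 𝒮h'}
    (huh : ∀ U : Y.Opens, ι.hom.app (op U) ≫ uh.app U = u.app U ≫ ι'.hom.app (op (q ⁻¹ᵁ U)))
    (huhz : (uh.app ⊤).hom z = RelCone.restrictTop 𝒮h' z' (q ⁻¹ᵁ ⊤))

include huhz in
theorem uh_restrictTop (U : Y.Opens) :
    (uh.app U).hom (RelCone.restrictTop 𝒮h z U) = RelCone.restrictTop 𝒮h' z' (q ⁻¹ᵁ U) := by
  rw [RelCone.restrictTop, ← CommRingCat.comp_apply, ← uh.naturality le_top, CommRingCat.comp_apply, huhz,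
    RelCone.restrictTop, ← CommRingCat.comp_apply, ← Functor.map_comp]
  rfl

theorem hom_comp_app {S : Scheme.{u}} {A B C : RelSpec.QCAlg S} (f : A ⟶ B) (g : B ⟶ C) (U : S.Opens) :
    (f ≫ g).hom.app (op U) = f.hom.app (op U) ≫ g.hom.app (op U) := rfl

theorem θι {S : Scheme.{u}} {A B : RelSpec.QCAlg S} {f : A ⟶ B} {g : B ⟶ A} (h : f ≫ g = 𝟙 _) (U : S.Opens)
    (a : A.presheaf.obj (op U)) : (g.hom.app (op U)).hom ((f.hom.app (op U)).hom a) = a := by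
  have h1 : (f ≫ g).hom.app (op U) = 𝟙 _ := by rw [h]; rfl
  rw [hom_comp_app] at h1
  exact congr($h1 a)

theorem θz {S : Scheme.{u}} {A B : RelProj.QCGrAlg S} (θ : A.toQCAlg ⟶ B.toQCAlg) {z : A.presheaf.obj (op ⊤)}
    (h : (θ.hom.app (op ⊤)).hom z = 0) (U : S.Opens) :
    (θ.hom.app (op U)).hom (RelCone.restrictTop A z U) = 0 := by
  have h1 := θ.hom.naturality (homOfLE (le_top : U ≤ ⊤)).op
  have h2 := congr($h1 z)
  refine h2.trans ?_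
  rw [CommRingCat.comp_apply, h, map_zero]

section infinity

variable {θ : 𝒮h.toQCAlg ⟶ 𝒮.toQCAlg} (hθ : RelProj.IsGradedHom θ) (hθι : ι ≫ θ = 𝟙 _)
    (hθz : (θ.hom.app (op ⊤)).hom z = 0)
    {θ' : 𝒮h'.toQCAlg ⟶ 𝒮'.toQCAlg} (hθ' : RelProj.IsGradedHom θ') (hθι' : ι' ≫ θ' = 𝟙 _)
    (hθz' : (θ'.hom.app (op ⊤)).hom z' = 0)

include hz huh huhz hθι hθz hθι' hθz' in
theorem θ_comp (U : Y.Opens) (hU : IsAffineOpen U) :
    θ.hom.app (op U) ≫ u.app U = uh.app U ≫ θ'.hom.app (op (q ⁻¹ᵁ U)) := by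
  apply CommRingCat.hom_ext
  refine polyHom_ext hz U hU (fun a => ?_) ?_
  · rw [CommRingCat.hom_comp, CommRingCat.hom_comp, RingHom.comp_apply, RingHom.comp_apply, θι hθι,
      ← CommRingCat.comp_apply (ι.hom.app (op U)), huh, CommRingCat.comp_apply, θι hθι']
  · rw [CommRingCat.hom_comp, CommRingCat.hom_comp, RingHom.comp_apply, RingHom.comp_apply, θz θ hθz, map_zero,
      uh_restrictTop huhz, θz θ' hθz']

variable {P : Scheme.{u}} {p : P ⟶ Y}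
  {chart : ∀ (U : Y.Opens) (hU : IsAffineOpen U), (((p ⁻¹ᵁ U : P.Opens) : Scheme.{u}) ≅ Proj (𝒮.deg U hU))}
  {P' : Scheme.{u}} {p' : P' ⟶ Y'}
  {chart' : ∀ (U : Y'.Opens) (hU : IsAffineOpen U), (((p' ⁻¹ᵁ U : P'.Opens) : Scheme.{u}) ≅ Proj (𝒮'.deg U hU))}
  {PC : Scheme.{u}} {pC : PC ⟶ Y}
  {chartC : ∀ (U : Y.Opens) (hU : IsAffineOpen U), (((pC ⁻¹ᵁ U : PC.Opens) : Scheme.{u}) ≅ Proj (𝒮h.deg U hU))}
  {PC' : Scheme.{u}} {pC' : PC' ⟶ Y'}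
  {chartC' : ∀ (U : Y'.Opens) (hU : IsAffineOpen U), (((pC' ⁻¹ᵁ U : PC'.Opens) : Scheme.{u}) ≅ Proj (𝒮h'.deg U hU))}
  (hP : RelProj.IsRelProj 𝒮 p chart) (hC' : RelProj.IsRelProj 𝒮h' pC' chartC')
  (hP' : RelProj.IsRelProj 𝒮' p' chart')
  {Φh : ((RelProj.domQ uh pC' chartC' : PC'.Opens) : Scheme.{u}) ⟶ PC}
  (hΦh : RelProj.IsProjQMapOn uh pC chartC pC' chartC' (RelProj.domQ uh pC' chartC') Φh)
  {Φ : ((RelProj.domQ u p' chart' : P'.Opens) : Scheme.{u}) ⟶ P}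
  (hΦ : RelProj.IsProjQMapOn u p chart p' chart' (RelProj.domQ u p' chart') Φ)
  {jX : P ⟶ PC} (hjX : RelProj.IsProjQMap (RelProj.QGrHom.ofHom θ hθ) pC chartC p chart jX)
  {jX' : P' ⟶ PC'} (hjX' : RelProj.IsProjQMap (RelProj.QGrHom.ofHom θ' hθ') pC' chartC' p' chart' jX')

include hz huh huhz hθι hθz hθι' hθz' hC' hP hP' hjX hjX' hΦ in
theorem jX'_mem (x : P') (hx : x ∈ RelProj.domQ u p' chart') : jX'.base x ∈ RelProj.domQ uh pC' chartC' := by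
  have hag := agree uh hθ hθ' u (θ_comp hz huh huhz hθι hθz hθι' hθz')
  have h := ProjComp.image_preimage_eq (isProjQMapOn_of_isProjQMap hjX') hΦ hC' hP hP' hag
  have h1 : x ∈ (RelProj.domQ u p' chart').ι ''ᵁ (Φ ⁻¹ᵁ RelProj.domQ (RelProj.QGrHom.ofHom θ hθ) p chart) := by
    refine ⟨⟨x, hx⟩, ?_, rfl⟩
    change Φ.base _ ∈ RelProj.domQ (RelProj.QGrHom.ofHom θ hθ) p chart
    rw [hjX.1]; trivial
  rw [← h] at h1
  obtain ⟨y, hy, rfl⟩ := h1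
  exact hy

include hz huh huhz hθι hθz hθι' hθz' hC' hP hP' hjX hjX' hΦ hΦh in
theorem infinity_comp (T : Scheme.{u}) (d : T ⟶ ((RelProj.domQ u p' chart' : P'.Opens) : Scheme.{u}))
    (e : T ⟶ ((RelProj.domQ uh pC' chartC' : PC'.Opens) : Scheme.{u}))
    (hde : d ≫ (RelProj.domQ u p' chart').ι ≫ jX' = e ≫ (RelProj.domQ uh pC' chartC').ι) :
    e ≫ Φh = d ≫ Φ ≫ jX := by
  have hag := agree uh hθ hθ' u (θ_comp hz huh huhz hθι hθz hθι' hθz')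
  have h1 : IsIso (RelProj.domQ (RelProj.QGrHom.ofHom θ' hθ') p' chart').ι := isIso_ι_of_eq_top hjX'.1
  have h2 : IsIso (RelProj.domQ (RelProj.QGrHom.ofHom θ hθ) p chart).ι := isIso_ι_of_eq_top hjX.1
  have h := ProjComp.comp_eq_comp hΦh (isProjQMapOn_of_isProjQMap hjX') (isProjQMapOn_of_isProjQMap hjX) hΦ hC' hP' hag
    (d ≫ (RelProj.domQ u p' chart').ι ≫ inv (RelProj.domQ (RelProj.QGrHom.ofHom θ' hθ') p' chart').ι) e
    (by simp only [Category.assoc, IsIso.inv_hom_id_assoc]; exact hde)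
    d (d ≫ Φ ≫ inv (RelProj.domQ (RelProj.QGrHom.ofHom θ hθ) p chart).ι)
    (by simp only [Category.assoc, IsIso.inv_hom_id, Category.comp_id])
    (by simp only [Category.assoc, IsIso.inv_hom_id, Category.comp_id])
  rw [h]
  simp only [Category.assoc, IsIso.inv_hom_id_assoc]

end infinity

section affine

include huh in
theorem ι_appLE (U : Y.Opens) (U' : Y'.Opens) (hle : U' ≤ q ⁻¹ᵁ U) :
    ι.hom.app (op U) ≫ uh.appLE U U' hle = u.appLE U U' hle ≫ ι'.hom.app (op U') := by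
  rw [RelSpec.QHom.appLE, RelSpec.QHom.appLE, ← Category.assoc, huh, Category.assoc, Category.assoc]
  congr 1
  exact (ι'.hom.naturality (homOfLE hle).op).symm

include hz huh huhz in
theorem evalOne_uh (U : Y.Opens) (hU : IsAffineOpen U) (U' : Y'.Opens) (hU' : IsAffineOpen U') (hle : U' ≤ q ⁻¹ᵁ U)
    (x : 𝒮h.presheaf.obj (op U)) :
    hz'.evalOne U' hU' (uh.gradedAt U hU U' hU' hle x) = (u.appLE U U' hle).hom (hz.evalOne U hU x) := by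
  have h : (hz'.evalOne U' hU').comp (uh.appLE U U' hle).hom = ((u.appLE U U' hle).hom).comp (hz.evalOne U hU) := by
    refine polyHom_ext hz U hU (fun a => ?_) ?_
    · rw [RingHom.comp_apply, RingHom.comp_apply, hz.evalOne_ι]
      have h1 := congr($(ι_appLE huh U U' hle) a)
      have h2 : (uh.appLE U U' hle).hom ((ι.hom.app (op U)).hom a) =
        (ι'.hom.app (op U')).hom ((u.appLE U U' hle).hom a) := h1
      rw [h2, hz'.evalOne_ι]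
    · rw [RingHom.comp_apply, RingHom.comp_apply, hz.evalOne_z, map_one]
      have h1 := gradedAt_z huhz U hU U' hU' hle
      rw [RelProj.QGrHom.gradedAt_apply] at h1
      rw [h1, hz'.evalOne_z]
  exact congr($h x)

variable {PC : Scheme.{u}} {pC : PC ⟶ Y}
  {chartC : ∀ (U : Y.Opens) (hU : IsAffineOpen U), (((pC ⁻¹ᵁ U : PC.Opens) : Scheme.{u}) ≅ Proj (𝒮h.deg U hU))}
  {PC' : Scheme.{u}} {pC' : PC' ⟶ Y'}
  {chartC' : ∀ (U : Y'.Opens) (hU : IsAffineOpen U), (((pC' ⁻¹ᵁ U : PC'.Opens) : Scheme.{u}) ≅ Proj (𝒮h'.deg U hU))}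

open HomogeneousLocalization in
/-- The chart equation of the cone immersion, for an element equal to `z`. -/
theorem coneImm_of_eq {i' : 𝒮'.toQCAlg.spec ⟶ PC'} (hi' : RelCone.IsConeImm 𝒮' hz' pC' chartC' i')
    (U' : Y'.Opens) (hU' : IsAffineOpen U') (w : 𝒮h'.presheaf.obj (op U')) (hw : w = RelCone.restrictTop 𝒮h' z' U')
    (hw1 : w ∈ 𝒮h'.deg U' hU' 1) :
    ∃ θ : Away (𝒮h'.deg U' hU') w →+* 𝒮'.presheaf.obj (op U'),
      𝒮'.toQCAlg.ι U' hU' ≫ i' = Spec.map (CommRingCat.ofHom θ) ≫ aff pC' chartC' U' hU' one_pos w hw1 ∧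
      ∀ (n : ℕ) (x : 𝒮h'.presheaf.obj (op U')) (hx : x ∈ 𝒮h'.deg U' hU' (n • 1)),
        θ (Away.mk _ hw1 n x hx) = hz'.evalOne U' hU' x := by
  subst hw
  exact ⟨hz'.awayZToBase U' hU', hi' U' hU', fun n x hx => hz'.awayZToBase_of_val U' hU' _ x n (Away.val_mk ..)⟩

variable {Φh : ((RelProj.domQ uh pC' chartC' : PC'.Opens) : Scheme.{u}) ⟶ PC}
    (hΦh : RelProj.IsProjQMapOn uh pC chartC pC' chartC' (RelProj.domQ uh pC' chartC') Φh)
    {Φc : 𝒮'.toQCAlg.spec ⟶ 𝒮.toQCAlg.spec} (hΦc : RelSpec.IsSpecQMap u.toQHom Φc)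
    {i : 𝒮.toQCAlg.spec ⟶ PC} (hi : RelCone.IsConeImm 𝒮 hz pC chartC i)
    {i' : 𝒮'.toQCAlg.spec ⟶ PC'} (hi' : RelCone.IsConeImm 𝒮' hz' pC' chartC' i')

/-- Affine pairs for a point of the cone. -/
theorem exists_pair (q : Y' ⟶ Y) (c : 𝒮'.toQCAlg.spec) :
    ∃ (U : Y.Opens) (_ : IsAffineOpen U) (U' : Y'.Opens) (hU' : IsAffineOpen U') (_ : U' ≤ q ⁻¹ᵁ U)
      (x : Spec (𝒮'.presheaf.obj (op U'))), (𝒮'.toQCAlg.ι U' hU').base x = c := by
  obtain ⟨U, hU, U', hU', hle, hs⟩ := exists_affinePair q (𝒮'.toQCAlg.π.base c)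
  obtain ⟨x, hx⟩ := K37.SpecBase.exists_of_mem 𝒮'.toQCAlg U' hU' c hs
  exact ⟨U, hU, U', hU', hle, x, hx⟩

include hi' hz huhz in
theorem range_i'_subset : Set.range i'.base ⊆ ((RelProj.domQ uh pC' chartC' : PC'.Opens) : Set PC') := by
  rintro _ ⟨c, rfl⟩
  obtain ⟨U, hU, U', hU', hle, x, rfl⟩ := exists_pair q c
  have hw := gradedAt_z huhz U hU U' hU' hle
  have hw1 : uh.gradedAt U hU U' hU' hle (RelCone.restrictTop 𝒮h z U) ∈ 𝒮h'.deg U' hU' 1 :=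
    (uh.gradedAt U hU U' hU' hle).map_mem (hz.deg_z U hU)
  obtain ⟨θ, h1, -⟩ := coneImm_of_eq hz' hi' U' hU' _ hw hw1
  have h2 : i'.base ((𝒮'.toQCAlg.ι U' hU').base x) = (𝒮'.toQCAlg.ι U' hU' ≫ i').base x := rfl
  rw [h2, h1]
  refine std_le_domQ uh U hU U' hU' hle one_pos (RelCone.restrictTop 𝒮h z U) (hz.deg_z U hU) ?_
  rw [← opensRange_aff (p := pC') (chart := chartC') U' hU' one_pos _ hw1]
  exact ⟨_, rfl⟩

open HomogeneousLocalization in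
include hi hi' hz hz' huh huhz hΦh hΦc in
theorem coneImm_comp (i'' : 𝒮'.toQCAlg.spec ⟶ ((RelProj.domQ uh pC' chartC' : PC'.Opens) : Scheme.{u}))
    (hi'' : i'' ≫ (RelProj.domQ uh pC' chartC').ι = i') : i'' ≫ Φh = Φc ≫ i := by
  refine K40.GlueHom.hom_ext_local fun c => ?_
  obtain ⟨U, hU, U', hU', hle, x, hx⟩ := exists_pair q c
  refine ⟨_, 𝒮'.toQCAlg.ι U' hU', inferInstance, ⟨x, hx⟩, ?_⟩
  have hw := gradedAt_z huhz U hU U' hU' hle
  have hw1 : uh.gradedAt U hU U' hU' hle (RelCone.restrictTop 𝒮h z U) ∈ 𝒮h'.deg U' hU' 1 :=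
    (uh.gradedAt U hU U' hU' hle).map_mem (hz.deg_z U hU)
  obtain ⟨θ, h1, h2⟩ := coneImm_of_eq hz' hi' U' hU' _ hw hw1
  have h3 : 𝒮'.toQCAlg.ι U' hU' ≫ i'' = Spec.map (CommRingCat.ofHom θ) ≫
      affOn uh pC' chartC' U hU U' hU' hle one_pos (RelCone.restrictTop 𝒮h z U) (hz.deg_z U hU) := by
    rw [← cancel_mono (RelProj.domQ uh pC' chartC').ι, Category.assoc, hi'', h1, Category.assoc, affOn_ι]
    rfl
  rw [reassoc_of% h3, affOn_comp hΦh, reassoc_of% (hΦc U hU U' hU' hle), hi U hU, ← Spec.map_comp_assoc,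
    ← Spec.map_comp_assoc]
  congr 2
  apply CommRingCat.hom_ext
  refine RingHom.ext fun y => ?_
  obtain ⟨n, a, ha, rfl⟩ := Away.mk_surjective (𝒮h.deg U hU) (hz.deg_z U hU) y
  change θ (Away.map (uh.gradedAt U hU U' hU' hle) _ (Away.mk _ _ n a ha)) =
    (u.appLE U U' hle).hom (hz.awayZToBase U hU (Away.mk _ _ n a ha))
  rw [Away.map_mk, h2, hz.awayZToBase_of_val U hU _ a n (Away.val_mk ..), evalOne_uh hz hz' huh huhz]

end affine

end K41.ConeMap3
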