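import Groth.Agent.EGA2.K41.SymExt2
import Groth.Agent.EGA2.K42.VALoc

/-!
# The degree one part of `⊕ L^n` and graded `q`-morphisms `Sym(E) → q_*(⊕ L^n)`

* `jL_injective`, `exists_jL`: `L(W)` is the set of homogeneous sections of degree one;
* `exists_degOneHom`: a graded `q`-morphism `Sym(E) → q_* Sym(L)` comes from some `φ : E ⟶ q_* L`.
-/

set_option autoImplicit false
set_option linter.unusedSectionVars false
universe u
open CategoryTheory CategoryTheory.Limits AlgebraicGeometry TopologicalSpace Opposite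

noncomputable section

namespace K41.DegOne
open K36.SymAlg K41.SymExt K41.RVA K41.SymExt2 K43.VADef K41.LineAlg K41.LineRing K41.NV
open Groth.Agent.Fdesc.LocGen (IsGen)

variable {X Y : Scheme.{u}} {q : X ⟶ Y} {L : X.Modules} (hL : PicF.IsInvertible L) (hLq : Coh.IsQCoh L)
    {𝒮L : RelProj.QCGrAlg X} {jL : L ⟶ 𝒮L.toModule} (hjL : RelProj.IsGrSymAlg L 𝒮L jL)

include hL in
theorem exists_genChart {W : X.Opens} {x : X} (hx : x ∈ W) :
    ∃ (V : X.Opens) (_ : IsAffineOpen V) (_ : V ≤ W) (e : Γ(L, V)), x ∈ V ∧ IsGen e := by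
  obtain ⟨U, e, hxU, he⟩ := (Groth.Agent.Fdesc.LocGen.isInvertible_iff L).mp hL x
  obtain ⟨V, hV, hxV, hVU⟩ := exists_isAffineOpen_mem_and_subset (U := W ⊓ U) ⟨hx, hxU⟩
  have hVU' : V ≤ W ⊓ U := hVU
  exact ⟨V, hV, hVU'.trans inf_le_left, _, hxV, he.res (hVU'.trans inf_le_right)⟩

theorem ext_cover {W : X.Opens} {a b : 𝒮L.presheaf.obj (op W)}
    (h : ∀ x ∈ W, ∃ (V : X.Opens) (i : V ≤ W), x ∈ V ∧ LineAlg.res 𝒮L i a = LineAlg.res 𝒮L i b) : a = b := by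
  choose V i hx H using fun x : W => h x.1 x.2
  exact TopCat.Sheaf.eq_of_locally_eq' ⟨𝒮L.presheaf, 𝒮L.isSheaf⟩ V W (fun x => homOfLE (i x))
    (fun x hxU => Opens.mem_iSup.mpr ⟨⟨x, hxU⟩, hx ⟨x, hxU⟩⟩) _ _ H

include hLq hjL in
theorem jL_smul_gen {V : X.Opens} (hV : IsAffineOpen V) {e : Γ(L, V)} (he : IsGen e) {a b : Γ(X, V)}
    (h : jApp L 𝒮L.toQCAlg jL V (a • e) = jApp L 𝒮L.toQCAlg jL V (b • e)) : a = b := by
  have h1 := K41.SymLine.lineOn hLq hjL V hV e he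
  refine IsLine.ext h1 (n := 1) ?_
  rw [pow_one]
  have h2 : ∀ c : Γ(X, V), jApp L 𝒮L.toQCAlg jL V (c • e) = LineAlg.str 𝒮L V c * jApp L 𝒮L.toQCAlg jL V e := fun c =>
    jApp_smul L 𝒮L.toQCAlg jL V c e
  exact (h2 a).symm.trans (h.trans (h2 b))

include hL hLq hjL in
theorem jL_injective (W : X.Opens) : Function.Injective (jApp L 𝒮L.toQCAlg jL W) := by
  intro s s' h
  choose V hV i e hx he using fun x : W => exists_genChart hL x.2
  refine Groth.Agent.Fdesc.LocGen.res_ext L V i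
    (fun x hxU => Opens.mem_iSup.mpr ⟨⟨x, hxU⟩, hx ⟨x, hxU⟩⟩) fun x => ?_
  obtain ⟨a, ha⟩ := (he x).exists_eq (Groth.Agent.Fdesc.LocGen.res L (i x) s)
  obtain ⟨a', ha'⟩ := (he x).exists_eq (Groth.Agent.Fdesc.LocGen.res L (i x) s')
  have h1 : jApp L 𝒮L.toQCAlg jL (V x) (Groth.Agent.Fdesc.LocGen.res L (i x) s) =
      jApp L 𝒮L.toQCAlg jL (V x) (Groth.Agent.Fdesc.LocGen.res L (i x) s') :=
    (jApp_res L 𝒮L.toQCAlg jL (i x) s).trans ((congrArg _ h).trans (jApp_res L 𝒮L.toQCAlg jL (i x) s').symm)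
  rw [ha, ha'] at h1
  rw [ha, ha', jL_smul_gen hLq hjL (hV x) (he x) h1]

include hL hLq hjL in
theorem exists_jL_of_cover {W : X.Opens} {t : 𝒮L.presheaf.obj (op W)}
    (ht : ∀ x ∈ W, ∃ (V : X.Opens) (i : V ≤ W), x ∈ V ∧
      ∃ s : Γ(L, V), jApp L 𝒮L.toQCAlg jL V s = LineAlg.res 𝒮L i t) :
    ∃ s : Γ(L, W), jApp L 𝒮L.toQCAlg jL W s = t := by
  choose V i hx s hs using fun x : W => ht x.1 x.2
  obtain ⟨σ, hσ⟩ := Groth.Agent.Fdesc.LocGen.res_glue L V i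
    (fun x hxU => Opens.mem_iSup.mpr ⟨⟨x, hxU⟩, hx ⟨x, hxU⟩⟩) s fun x y => by
      apply jL_injective hL hLq hjL
      have h2 : ∀ (z : W) (k : V x ⊓ V y ≤ V z), jApp L 𝒮L.toQCAlg jL (V x ⊓ V y) (Groth.Agent.Fdesc.LocGen.res L k (s z)) =
          LineAlg.res 𝒮L (k.trans (i z)) t := by
        intro z k
        refine (jApp_res L 𝒮L.toQCAlg jL k (s z)).trans ?_
        rw [hs z]
        exact LineAlg.res_res 𝒮L (i z) k t
      rw [h2, h2]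
  refine ⟨σ, ext_cover fun x hx' => ⟨V ⟨x, hx'⟩, i ⟨x, hx'⟩, hx _, ?_⟩⟩
  rw [← hs, ← hσ]
  exact (jApp_res L 𝒮L.toQCAlg jL (i ⟨x, hx'⟩) σ).symm

include hL hLq hjL in
theorem exists_jL {W : X.Opens} {t : 𝒮L.presheaf.obj (op W)} (ht : IsHom t 1) :
    ∃ s : Γ(L, W), jApp L 𝒮L.toQCAlg jL W s = t := by
  refine exists_jL_of_cover hL hLq hjL fun x hx => ?_
  obtain ⟨V, hV, i, e, hxV, he⟩ := exists_genChart hL hx
  obtain ⟨a, ha, -⟩ := IsLine.exists_coeff (K41.SymLine.lineOn hLq hjL V hV e he) (ht V hV i)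
  refine ⟨V, i, hxV, a • e, ?_⟩
  rw [ha, pow_one]
  exact jApp_smul L 𝒮L.toQCAlg jL V a e

variable {E : Y.Modules} {𝒯 : RelProj.QCGrAlg Y} {jE : E ⟶ 𝒯.toModule}
  (h𝒯 : RelProj.IsGrSymAlg E 𝒯 jE) (u : RelProj.QGrHom q 𝒯 𝒮L)

include hL hLq hjL h𝒯 in
theorem exists_jL_app (U : Y.Opens) (m : Γ(E, U)) :
    ∃ s : Γ(L, q ⁻¹ᵁ U), jApp L 𝒮L.toQCAlg jL (q ⁻¹ᵁ U) s = (u.app U).hom (jApp E 𝒯.toQCAlg jE U m) := by
  refine exists_jL_of_cover hL hLq hjL fun x hx => ?_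
  obtain ⟨V, hV, hxV, hVU⟩ := exists_isAffineOpen_mem_and_subset (x := q.base x) (U := U) hx
  have hVU' : V ≤ U := hVU
  refine ⟨q ⁻¹ᵁ V, q.preimage_mono hVU', hxV, ?_⟩
  have h1 : LineAlg.res 𝒮L (q.preimage_mono hVU') ((u.app U).hom (jApp E 𝒯.toQCAlg jE U m)) =
      (u.app V).hom (jApp E 𝒯.toQCAlg jE V (Groth.Agent.Fdesc.LocGen.res E hVU' m)) := by
    have h2 := congr($(u.naturality hVU') (jApp E 𝒯.toQCAlg jE U m))
    refine h2.trans ?_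
    exact congrArg (u.app V).hom (jApp_res E 𝒯.toQCAlg jE hVU' m).symm
  rw [h1]
  exact exists_jL hL hLq hjL (K41.RPhi.isHom_us u hV (h𝒯.2 V hV _))

include hL hLq hjL h𝒯 in
/-- A graded `q`-morphism `Sym(E) → q_* Sym(L)` comes from some `φ : E ⟶ q_* L`. -/
theorem exists_degOneHom : ∃ φ : E ⟶ (Scheme.Modules.pushforward q).obj L,
    ∀ (U : Y.Opens) (m : Γ(E, U)),
      (u.app U).hom (jApp E 𝒯.toQCAlg jE U m) = jApp L 𝒮L.toQCAlg jL (q ⁻¹ᵁ U) (se q φ m) := by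
  choose s hs using exists_jL_app hL hLq hjL h𝒯 u
  have hinj := jL_injective hL hLq hjL
  refine ⟨Groth.Agent.Fdesc.LocGen.mkHom (N := (Scheme.Modules.pushforward q).obj L) (fun U =>
    { toFun := s U
      map_zero' := hinj _ (by rw [hs, map_zero, map_zero]; exact (map_zero _).symm)
      map_add' := fun a b => hinj _ (by
        rw [hs, map_add, map_add, ← hs, ← hs]
        exact (map_add (jApp L 𝒮L.toQCAlg jL (q ⁻¹ᵁ U)) _ _).symm) })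
    (fun U a m => ?_) (fun U V h m => ?_), fun U m => ?_⟩
  · refine hinj _ ?_
    change jApp L 𝒮L.toQCAlg jL (q ⁻¹ᵁ U) (s U (a • m)) = jApp L 𝒮L.toQCAlg jL (q ⁻¹ᵁ U) (q.app U a • s U m)
    rw [hs, jApp_smul, jApp_smul, map_mul, ← hs]
    congr 1
    exact congr($(u.str_app U) a)
  · refine hinj _ ?_
    change jApp L 𝒮L.toQCAlg jL (q ⁻¹ᵁ V) (s V (Groth.Agent.Fdesc.LocGen.res E h m)) =
      jApp L 𝒮L.toQCAlg jL (q ⁻¹ᵁ V) (Groth.Agent.Fdesc.LocGen.res L (q.preimage_mono h) (s U m))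
    rw [hs]
    refine Eq.trans ?_ (jApp_res L 𝒮L.toQCAlg jL (q.preimage_mono h) (s U m)).symm
    rw [hs]
    refine Eq.trans (congrArg (u.app V).hom (jApp_res E 𝒯.toQCAlg jE h m)) ?_
    exact congr($(u.naturality h) (jApp E 𝒯.toQCAlg jE U m)).symm
  · exact (hs U m).symm

end K41.DegOne
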