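import Groth.Agent.EGA2.K42.Dominant

/-!
# Dominance of `Proj(u)` under (TN)-surjective / (TN)-injective homomorphisms; nilpotence is local
-/

set_option autoImplicit false
universe u
open CategoryTheory CategoryTheory.Limits AlgebraicGeometry TopologicalSpace Opposite
open scoped HomogeneousIdeal

noncomputable section

namespace K41.DomTN

section nil

variable {X : Scheme.{u}} (𝒜 : RelSpec.QCAlg X)

/-- Over a compact open a section of a sheaf of rings which is locally nilpotent is nilpotent. -/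
theorem isNilpotent_of_local {V : X.Opens} (hV : IsCompact (V : Set X)) (t : 𝒜.presheaf.obj (op V))
    (h : ∀ x ∈ V, ∃ (W : X.Opens) (i : W ≤ V), x ∈ W ∧ IsNilpotent ((𝒜.presheaf.map (homOfLE i).op).hom t)) :
    IsNilpotent t := by
  choose! W hWV hxW N hN using h
  obtain ⟨s, hs⟩ := hV.elim_finite_subcover (fun x : {x // x ∈ V} => (W x.1 : Set X)) (fun x => (W x.1).isOpen)
    (fun x hx => Set.mem_iUnion.mpr ⟨⟨x, hx⟩, hxW x hx⟩)
  refine ⟨∑ x ∈ s, N x.1, ?_⟩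
  let F : TopCat.Sheaf CommRingCat.{u} X.carrier := ⟨𝒜.presheaf, 𝒜.isSheaf⟩
  refine TopCat.Sheaf.eq_of_locally_eq' F (fun x : s => W x.1.1) V (fun x => homOfLE (hWV x.1.1 x.1.2)) ?_ _ _ ?_
  · intro x hx
    obtain ⟨y, hy⟩ := Set.mem_iUnion.mp (hs hx)
    obtain ⟨hys, hxy⟩ := Set.mem_iUnion.mp hy
    exact Opens.mem_iSup.mpr ⟨⟨y, hys⟩, hxy⟩
  · intro x
    change (𝒜.presheaf.map (homOfLE (hWV x.1.1 x.1.2)).op).hom (t ^ _) = (𝒜.presheaf.map _).hom 0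
    rw [map_pow, map_zero]
    obtain ⟨m, hm⟩ := Nat.exists_eq_add_of_le (Finset.single_le_sum (f := fun x : {x // x ∈ V} => N x.1)
      (fun _ _ => Nat.zero_le _) x.2)
    rw [hm, pow_add, hN x.1.1 x.1.2, zero_mul]

end nil

section dom

variable {X Y : Scheme.{u}} {q : X ⟶ Y} {𝒮 𝒯 : RelProj.QCGrAlg Y} {ℬ : RelProj.QCGrAlg X}
  (u : RelProj.QGrHom q 𝒮 ℬ) (v : 𝒯.toQCAlg ⟶ 𝒮.toQCAlg) (hv : RelProj.IsGradedHom v)
  (u' : RelProj.QGrHom q 𝒯 ℬ) (hu' : ∀ U : Y.Opens, u'.app U = v.hom.app (op U) ≫ u.app U)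

include hu' in
theorem gradedAt_comp (U : Y.Opens) (hU : IsAffineOpen U) (U' : X.Opens) (hU' : IsAffineOpen U') (hle : U' ≤ q ⁻¹ᵁ U)
    (f : 𝒯.presheaf.obj (op U)) :
    u'.gradedAt U hU U' hU' hle f = u.gradedAt U hU U' hU' hle ((v.hom.app (op U)).hom f) := by
  rw [RelProj.QGrHom.gradedAt_apply, RelProj.QGrHom.gradedAt_apply, RelSpec.QHom.appLE, RelSpec.QHom.appLE, hu']
  rfl

variable {P P' PL : Scheme.{u}} {p : P ⟶ Y}
  {chart : ∀ (U : Y.Opens) (hU : IsAffineOpen U), (((p ⁻¹ᵁ U : P.Opens) : Scheme.{u}) ≅ Proj (𝒮.deg U hU))}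
  (hP : RelProj.IsRelProj 𝒮 p chart)
  {pL : PL ⟶ X} {chartL : ∀ (U : X.Opens) (hU : IsAffineOpen U), (((pL ⁻¹ᵁ U : PL.Opens) : Scheme.{u}) ≅ Proj (ℬ.deg U hU))}
  (hPL : RelProj.IsRelProj ℬ pL chartL)
  {r : ((RelProj.domQ u pL chartL : PL.Opens) : Scheme.{u}) ⟶ P}
  (hr : RelProj.IsProjQMapOn u p chart pL chartL (RelProj.domQ u pL chartL) r)
  {p' : P' ⟶ Y} {chart' : ∀ (U : Y.Opens) (hU : IsAffineOpen U), (((p' ⁻¹ᵁ U : P'.Opens) : Scheme.{u}) ≅ Proj (𝒯.deg U hU))}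
  (hP' : RelProj.IsRelProj 𝒯 p' chart')
  {r' : ((RelProj.domQ u' pL chartL : PL.Opens) : Scheme.{u}) ⟶ P'}
  (hr' : RelProj.IsProjQMapOn u' p' chart' pL chartL (RelProj.domQ u' pL chartL) r')

include hu' hP hPL hr hP' hr' in
theorem isDominant_of_comp (hTN : ∃ n : ℕ, ∀ k, n ≤ k → ∀ (U : Y.Opens) (hU : IsAffineOpen U), ∀ y ∈ 𝒮.deg U hU k,
      ∃ x ∈ 𝒯.deg U hU k, (v.hom.app (op U)).hom x = y) (hdom : IsDominant r') :
    IsDominant r := by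
  have h𝒞 : ∀ s : Y, ∃ U ∈ (Set.univ : Set Y.affineOpens), s ∈ (U : Y.Opens) := fun s => by
    obtain ⟨U, hU, hx, -⟩ := exists_isAffineOpen_mem_and_subset (x := s) (U := ⊤) trivial
    exact ⟨⟨U, hU⟩, trivial, hx⟩
  rw [K42.Dominant.isDominant_iff u hP hPL hr Set.univ h𝒞]
  rw [K42.Dominant.isDominant_iff u' hP' hPL hr' Set.univ h𝒞] at hdom
  intro U hU𝒞 d hd f hf hnil
  obtain ⟨n, hn⟩ := hTN
  have hk : n ≤ (n + 1) * d := by nlinarith
  have hfk : f ^ (n + 1) ∈ 𝒮.deg U.1 U.2 ((n + 1) * d) := by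
    simpa using SetLike.pow_mem_graded (n + 1) hf
  obtain ⟨g, hg, hgf⟩ := hn _ hk U.1 U.2 _ hfk
  have h1 := hdom U hU𝒞 ((n + 1) * d) (by positivity) g hg (fun U' hU' hle => by
    rw [gradedAt_comp u v u' hu', hgf, map_pow]
    exact (hnil U' hU' hle).pow_succ n)
  have h2 := h1.map (v.hom.app (op U.1)).hom
  rw [hgf] at h2
  obtain ⟨m, hm⟩ := h2
  exact ⟨(n + 1) * m, by rw [pow_mul]; exact hm⟩

include hv hu' hP hPL hr hP' hr' in
theorem comp_isDominant (hTN : ∃ n : ℕ, ∀ k, n ≤ k → ∀ (U : Y.Opens) (hU : IsAffineOpen U), ∀ x ∈ 𝒯.deg U hU k,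
      (v.hom.app (op U)).hom x = 0 → x = 0) (hdom : IsDominant r) :
    IsDominant r' := by
  have h𝒞 : ∀ s : Y, ∃ U ∈ (Set.univ : Set Y.affineOpens), s ∈ (U : Y.Opens) := fun s => by
    obtain ⟨U, hU, hx, -⟩ := exists_isAffineOpen_mem_and_subset (x := s) (U := ⊤) trivial
    exact ⟨⟨U, hU⟩, trivial, hx⟩
  rw [K42.Dominant.isDominant_iff u' hP' hPL hr' Set.univ h𝒞]
  rw [K42.Dominant.isDominant_iff u hP hPL hr Set.univ h𝒞] at hdom
  intro U hU𝒞 d hd f hf hnil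
  have h1 : IsNilpotent ((v.hom.app (op U.1)).hom f) := by
    refine hdom U hU𝒞 d hd _ (hv U.1 U.2 d f hf) fun U' hU' hle => ?_
    rw [← gradedAt_comp u v u' hu']
    exact hnil U' hU' hle
  obtain ⟨n, hn⟩ := hTN
  obtain ⟨m, hm⟩ := h1
  refine ⟨m + n, hn ((m + n) * d) (by nlinarith) U.1 U.2 _ ?_ ?_⟩
  · simpa using SetLike.pow_mem_graded (m + n) hf
  · rw [map_pow, pow_add, hm, zero_mul]

end dom

end K41.DomTN
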