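import Groth.Agent.EGA2.K41.SubAlg
import Groth.Agent.EGA2.K43.Piece
import Groth.Agent.EGA2.K43.VADef

/-!
# The graded subalgebra generated by a submodule of degree `N`

`exists_genSub`: for `E` quasi-coherent and `i : E ⟶ 𝒮` with image in degree `N > 0`.
-/

set_option autoImplicit false
set_option linter.unusedSectionVars false
universe u
open CategoryTheory CategoryTheory.Limits AlgebraicGeometry TopologicalSpace Opposite

noncomputable section

namespace K41.GenSub
open K41.LineAlg K41.SubAlg K36.SymAlg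

section ring

variable {R : Type u} [CommRing R] {𝒜 : ℕ → AddSubgroup R} [GradedRing 𝒜]

theorem decompose_mem_closure {S : Set R} (hS : ∀ x ∈ S, ∃ k, x ∈ 𝒜 k) {x : R} (hx : x ∈ Subring.closure S) (n : ℕ) :
    (DirectSum.decompose 𝒜 x n : R) ∈ Subring.closure S := by
  classical
  induction hx using Subring.closure_induction generalizing n with
  | mem x hx =>
    obtain ⟨k, hk⟩ := hS x hx
    rcases eq_or_ne n k with rfl | hn
    · rw [DirectSum.decompose_of_mem_same 𝒜 hk]; exact Subring.subset_closure hx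
    · rw [DirectSum.decompose_of_mem_ne 𝒜 hk hn.symm]; exact zero_mem _
  | zero => rw [DirectSum.decompose_zero]; exact zero_mem _
  | one =>
    rcases eq_or_ne n 0 with rfl | hn
    · rw [DirectSum.decompose_of_mem_same 𝒜 SetLike.GradedOne.one_mem]; exact one_mem _
    · rw [DirectSum.decompose_of_mem_ne 𝒜 SetLike.GradedOne.one_mem hn.symm]; exact zero_mem _
  | add x y _ _ hx hy =>
    rw [DirectSum.decompose_add, DirectSum.add_apply, AddSubgroup.coe_add]
    exact add_mem (hx n) (hy n)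
  | neg x _ hx =>
    rw [DirectSum.decompose_neg]
    exact neg_mem (hx n)
  | mul x y _ _ hx hy =>
    rw [DirectSum.decompose_mul, DirectSum.coe_mul_apply]
    exact sum_mem fun ij _ => mul_mem (hx _) (hy _)

variable {A M : Type u} [CommRing A] (φ : A →+* R) (hφ : ∀ a, φ a ∈ 𝒜 0) {N : ℕ} (hN : 0 < N)
  [AddCommGroup M] (κ : M →+ R) (hκ : ∀ m, κ m ∈ 𝒜 N) (hm : ∀ (a : A) (m : M), ∃ m', κ m' = φ a * κ m)

variable (𝒜) (N) in
/-- Low degree components of the elements of the subring. -/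
structure Low (x : R) : Prop where
  zero : ∃ a, φ a = (DirectSum.decompose 𝒜 x 0 : R)
  top : ∃ m, κ m = (DirectSum.decompose 𝒜 x N : R)
  mid : ∀ n, 0 < n → n < N → (DirectSum.decompose 𝒜 x n : R) = 0

include hφ hN hκ hm in
theorem low_of_mem_closure {x : R} (hx : x ∈ Subring.closure (Set.range φ ∪ Set.range κ)) : Low 𝒜 φ N κ x := by
  classical
  induction hx using Subring.closure_induction with
  | mem x hx =>
    rcases hx with ⟨a, rfl⟩ | ⟨m, rfl⟩
    · refine ⟨⟨a, (DirectSum.decompose_of_mem_same 𝒜 (hφ a)).symm⟩, ⟨0, ?_⟩, fun n h0 _ => ?_⟩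
      · rw [map_zero, DirectSum.decompose_of_mem_ne 𝒜 (hφ a) hN.ne]
      · exact DirectSum.decompose_of_mem_ne 𝒜 (hφ a) h0.ne
    · refine ⟨⟨0, ?_⟩, ⟨m, (DirectSum.decompose_of_mem_same 𝒜 (hκ m)).symm⟩, fun n h0 h1 => ?_⟩
      · rw [map_zero, DirectSum.decompose_of_mem_ne 𝒜 (hκ m) hN.ne']
      · exact DirectSum.decompose_of_mem_ne 𝒜 (hκ m) h1.ne'
  | zero =>
    refine ⟨⟨0, ?_⟩, ⟨0, ?_⟩, fun n _ _ => ?_⟩
    · rw [map_zero, DirectSum.decompose_zero]; rfl
    · rw [map_zero, DirectSum.decompose_zero]; rfl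
    · rw [DirectSum.decompose_zero]; rfl
  | one =>
    have h1 : (1 : R) ∈ 𝒜 0 := SetLike.GradedOne.one_mem
    refine ⟨⟨1, ?_⟩, ⟨0, ?_⟩, fun n h0 _ => ?_⟩
    · rw [map_one, DirectSum.decompose_of_mem_same 𝒜 h1]
    · rw [map_zero, DirectSum.decompose_of_mem_ne 𝒜 h1 hN.ne]
    · exact DirectSum.decompose_of_mem_ne 𝒜 h1 h0.ne
  | add x y _ _ hx hy =>
    obtain ⟨⟨a, ha⟩, ⟨m, hm⟩, h⟩ := hx
    obtain ⟨⟨a', ha'⟩, ⟨m', hm'⟩, h'⟩ := hy
    refine ⟨⟨a + a', ?_⟩, ⟨m + m', ?_⟩, fun n h0 h1 => ?_⟩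
    · rw [map_add, ha, ha', DirectSum.decompose_add, DirectSum.add_apply, AddSubgroup.coe_add]
    · rw [map_add, hm, hm', DirectSum.decompose_add, DirectSum.add_apply, AddSubgroup.coe_add]
    · rw [DirectSum.decompose_add, DirectSum.add_apply, AddSubgroup.coe_add, h n h0 h1, h' n h0 h1, add_zero]
  | neg x _ hx =>
    obtain ⟨⟨a, ha⟩, ⟨m, hm⟩, h⟩ := hx
    have hneg : ∀ n, (DirectSum.decompose 𝒜 (-x) n : R) = -(DirectSum.decompose 𝒜 x n : R) := fun n => by
      rw [DirectSum.decompose_neg]; rfl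
    refine ⟨⟨-a, ?_⟩, ⟨-m, ?_⟩, fun n h0 h1 => ?_⟩
    · rw [map_neg, ha, hneg]
    · rw [map_neg, hm, hneg]
    · rw [hneg, h n h0 h1, neg_zero]
  | mul x y _ _ hx hy =>
    obtain ⟨⟨a, ha⟩, ⟨m, hm1⟩, h⟩ := hx
    obtain ⟨⟨a', ha'⟩, ⟨m', hm'⟩, h'⟩ := hy
    have hs : ∀ n, (DirectSum.decompose 𝒜 (x * y) n : R) =
        ∑ ij ∈ Finset.antidiagonal n, (DirectSum.decompose 𝒜 x ij.1 : R) * (DirectSum.decompose 𝒜 y ij.2 : R) := by
      intro n
      rw [DirectSum.decompose_mul, DirectSum.coe_mul_apply]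
      symm
      refine (Finset.sum_subset_zero_on_sdiff (fun ij hij => ?_) (fun ij hij => ?_) fun ij _ => rfl).symm
      · rw [Finset.mem_filter] at hij
        exact Finset.mem_antidiagonal.mpr hij.2
      · rw [Finset.mem_sdiff, Finset.mem_filter, Finset.mem_product, not_and_or] at hij
        rcases hij.2 with h3 | h3
        · rw [not_and_or, DFinsupp.mem_support_iff, DFinsupp.mem_support_iff, not_not, not_not] at h3
          rcases h3 with h3 | h3
          · rw [h3]; simp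
          · rw [h3]; simp
        · exact absurd (Finset.mem_antidiagonal.mp hij.1) h3
    refine ⟨⟨a * a', ?_⟩, ?_, fun n h0 h1 => ?_⟩
    · rw [hs, Finset.Nat.antidiagonal_zero, Finset.sum_singleton, map_mul, ha, ha']
    · obtain ⟨m₁, hm₁⟩ := hm a m'
      obtain ⟨m₂, hm₂⟩ := hm a' m
      refine ⟨m₁ + m₂, ?_⟩
      rw [hs, ← Finset.sum_subset (s₁ := {(0, N), (N, 0)}) (fun ij hij => ?_) (fun ij hij hij' => ?_)]
      · rw [Finset.sum_pair (by simp [hN.ne]), map_add, hm₁, hm₂, ha, hm', ← ha', ← hm1, mul_comm (φ a')]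
      · rcases Finset.mem_insert.mp hij with rfl | hij
        · simp
        · rw [Finset.mem_singleton.mp hij]; simp
      · have h3 := Finset.mem_antidiagonal.mp hij
        rw [Finset.mem_insert, Finset.mem_singleton, not_or] at hij'
        rw [h ij.1 ?_ ?_, zero_mul]
        · rcases Nat.eq_zero_or_pos ij.1 with h4 | h4
          · exact absurd (Prod.ext h4 (by simp only; omega)) hij'.1
          · exact h4
        · rcases Nat.lt_or_ge ij.1 N with h4 | h4
          · exact h4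
          · exact absurd (Prod.ext (by simp only; omega) (by simp only; omega)) hij'.2
    · rw [hs]
      refine Finset.sum_eq_zero fun ij hij => ?_
      have h3 := Finset.mem_antidiagonal.mp hij
      rcases Nat.eq_zero_or_pos ij.1 with h4 | h4
      · rw [h' ij.2 (by omega) (by omega), mul_zero]
      · rw [h ij.1 h4 (by omega), zero_mul]

end ring

variable {Y : Scheme.{u}} {𝒮 : RelProj.QCGrAlg Y} {E : Y.Modules} (hE : Coh.IsQCoh E) (i : E ⟶ 𝒮.toModule) {N : ℕ}
  (hN : 0 < N)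
  (hi : ∀ (U : Y.Opens) (hU : IsAffineOpen U) (e : Γ(E, U)), jApp E 𝒮.toQCAlg i U e ∈ 𝒮.deg U hU N)

/-- The generators over `U`. -/
def gens (U : Y.Opens) : Set (𝒮.presheaf.obj (op U)) := Set.range (str 𝒮 U) ∪ Set.range (jApp E 𝒮.toQCAlg i U)

/-- The subring generated by the functions and by `E`. -/
def genRing (U : Y.Opens) : Subring (𝒮.presheaf.obj (op U)) := Subring.closure (gens i U)

theorem genRing_res {U V : Y.Opens} (h : V ≤ U) {x : 𝒮.presheaf.obj (op U)} (hx : x ∈ genRing i U) :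
    res 𝒮 h x ∈ genRing i V := by
  have h1 : genRing i U ≤ (genRing i V).comap (res 𝒮 h) := by
    refine Subring.closure_le.mpr ?_
    rintro x (⟨a, rfl⟩ | ⟨e, rfl⟩)
    · change res 𝒮 h (str 𝒮 U a) ∈ genRing i V
      rw [res_str]
      exact Subring.subset_closure (Or.inl ⟨_, rfl⟩)
    · have h2 := jApp_res E 𝒮.toQCAlg i h e
      change (𝒮.presheaf.map (homOfLE h).op).hom (jApp E 𝒮.toQCAlg i U e) ∈ genRing i V
      rw [← h2]
      exact Subring.subset_closure (Or.inr ⟨_, rfl⟩)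
  exact h1 hx

include hE in
theorem genRing_lift {U : Y.Opens} (hU : IsAffineOpen U) (r : Γ(Y, U)) {x : 𝒮.presheaf.obj (op (Y.basicOpen r))}
    (hx : x ∈ genRing i (Y.basicOpen r)) : ∃ (k : ℕ) (y : 𝒮.presheaf.obj (op U)), y ∈ genRing i U ∧
      res 𝒮 (Y.basicOpen_le r) y = str 𝒮 _ (resO (Y.basicOpen_le r) r) ^ k * x := by
  have hstr0 : str 𝒮 U r ∈ genRing i U := Subring.subset_closure (Or.inl ⟨r, rfl⟩)
  have hstr : ∀ m : ℕ, str 𝒮 U r ^ m ∈ genRing i U := fun m => (genRing i U).pow_mem hstr0 m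
  have hres : ∀ m : ℕ, res 𝒮 (Y.basicOpen_le r) (str 𝒮 U r ^ m) = str 𝒮 _ (resO (Y.basicOpen_le r) r) ^ m := fun m => by
    rw [map_pow, res_str]
  induction hx using Subring.closure_induction with
  | mem x hx =>
    rcases hx with ⟨a, rfl⟩ | ⟨e, rfl⟩
    · obtain ⟨k, b, hb⟩ := K43.VADef.exists_ores_eq hU r a
      refine ⟨k, str 𝒮 U b, Subring.subset_closure (Or.inl ⟨_, rfl⟩), ?_⟩
      rw [res_str, ← map_pow, ← map_mul]
      exact congrArg _ hb
    · obtain ⟨k, m, hm⟩ := K43.VADef.exists_res_eq hE hU r e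
      refine ⟨k, jApp E 𝒮.toQCAlg i U m, Subring.subset_closure (Or.inr ⟨_, rfl⟩), ?_⟩
      rw [← map_pow]
      have h2 := jApp_res E 𝒮.toQCAlg i (Y.basicOpen_le r) m
      refine h2.symm.trans ?_
      exact (congrArg (jApp E 𝒮.toQCAlg i (Y.basicOpen r)) hm).trans (jApp_smul E 𝒮.toQCAlg i _ _ _)
  | zero => exact ⟨0, 0, zero_mem _, by simp⟩
  | one => exact ⟨0, 1, one_mem _, by simp⟩
  | add x y _ _ hx hy =>
    obtain ⟨k, a, ha, e⟩ := hx
    obtain ⟨k', a', ha', e'⟩ := hy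
    refine ⟨k + k', str 𝒮 U r ^ k' * a + str 𝒮 U r ^ k * a', add_mem (mul_mem (hstr _) ha) (mul_mem (hstr _) ha'), ?_⟩
    rw [map_add, map_mul, map_mul, hres, hres, e, e', pow_add]
    ring
  | neg x _ hx =>
    obtain ⟨k, a, ha, e⟩ := hx
    exact ⟨k, -a, neg_mem ha, by rw [map_neg, e, mul_neg]⟩
  | mul x y _ _ hx hy =>
    obtain ⟨k, a, ha, e⟩ := hx
    obtain ⟨k', a', ha', e'⟩ := hy
    refine ⟨k + k', a * a', mul_mem ha ha', ?_⟩
    rw [map_mul, e, e', pow_add]
    ring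

/-- The graded subalgebra data generated by `E`. -/
def genData : SubData 𝒮 where
  D U _ := genRing i U
  str_mem U _ a := Subring.subset_closure (Or.inl ⟨a, rfl⟩)
  hom U hU x hx n := decompose_mem_closure (𝒜 := 𝒮.deg U hU) (S := gens i U) (by
    rintro x (⟨a, rfl⟩ | ⟨e, rfl⟩)
    · exact ⟨0, 𝒮.str_mem U hU a⟩
    · exact ⟨N, hi U hU e⟩) hx n
  res_mem U _ r x hx := genRing_res i (Y.basicOpen_le r) hx
  lift U hU r x hx := genRing_lift hE i hU r hx

include hE hN hi in
/-- **The graded subalgebra generated by `E ⊆ 𝒮_N`.** -/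
theorem exists_genSub : ∃ (𝒮' : RelProj.QCGrAlg Y) (j' : 𝒮'.toQCAlg ⟶ 𝒮.toQCAlg) (_ : RelProj.IsGradedHom j')
    (_ : ∀ (U : Y.Opens), IsAffineOpen U → Function.Injective (j'.hom.app (op U)).hom)
    (_ : ∀ (U : Y.Opens) (hU : IsAffineOpen U),
      ((𝒮'.deg U hU 0 : AddSubgroup (𝒮'.presheaf.obj (op U))) : Set (𝒮'.presheaf.obj (op U))) =
        Set.range (𝒮'.str.app (op U)).hom)
    (_ : ∀ (U : Y.Opens) (hU : IsAffineOpen U),
      Subring.closure (((𝒮'.deg U hU 0 : AddSubgroup (𝒮'.presheaf.obj (op U))) : Set (𝒮'.presheaf.obj (op U))) ∪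
        ((𝒮'.deg U hU N : AddSubgroup (𝒮'.presheaf.obj (op U))) : Set (𝒮'.presheaf.obj (op U)))) = ⊤),
    (CohB1.IsFT E → 𝒮'.IsFTDeg N) ∧
    ∀ (U : Y.Opens) (hU : IsAffineOpen U) (e : Γ(E, U)), ∃ y ∈ 𝒮'.deg U hU N,
      (j'.hom.app (op U)).hom y = jApp E 𝒮.toQCAlg i U e := by
  obtain ⟨𝒮', j', hinj, hran, hdeg⟩ := exists_subAlg (genData hE i hi)
  have hstr : ∀ (U : Y.Opens) (a : Γ(Y, U)), (j'.hom.app (op U)).hom ((𝒮'.str.app (op U)).hom a) = str 𝒮 U a := by
    intro U a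
    exact congr($(NatTrans.congr_app j'.comm (op U)) a)
  have hlow : ∀ (U : Y.Opens) (hU : IsAffineOpen U) (x : 𝒮'.presheaf.obj (op U)),
      Low (𝒮.deg U hU) (str 𝒮 U) N (jApp E 𝒮.toQCAlg i U) ((j'.hom.app (op U)).hom x) := by
    intro U hU x
    have h1 : (j'.hom.app (op U)).hom x ∈ genRing i U := by
      have h2 : (j'.hom.app (op U)).hom x ∈ (j'.hom.app (op U)).hom.range := ⟨x, rfl⟩
      rw [hran U hU] at h2
      exact h2
    exact low_of_mem_closure (str 𝒮 U) (fun a => 𝒮.str_mem U hU a) hN (jApp E 𝒮.toQCAlg i U) (hi U hU)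
      (fun a m => ⟨a • m, jApp_smul E 𝒮.toQCAlg i U a m⟩) h1
  have hlift : ∀ (U : Y.Opens) (hU : IsAffineOpen U) (e : Γ(E, U)), ∃ y ∈ 𝒮'.deg U hU N,
      (j'.hom.app (op U)).hom y = jApp E 𝒮.toQCAlg i U e := by
    intro U hU e
    have h1 : jApp E 𝒮.toQCAlg i U e ∈ (j'.hom.app (op U)).hom.range := by
      rw [hran U hU]; exact Subring.subset_closure (Or.inr ⟨e, rfl⟩)
    obtain ⟨y, hy⟩ := h1
    exact ⟨y, (hdeg U hU N y).mp (by rw [hy]; exact hi U hU e), hy⟩
  refine ⟨𝒮', j', fun U hU d x hx => (hdeg U hU d x).mpr hx, hinj, fun U hU => ?_, fun U hU => ?_, fun hft U hU => ?_, hlift⟩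
  · ext x
    constructor
    · intro hx
      obtain ⟨a, ha⟩ := (hlow U hU x).zero
      rw [DirectSum.decompose_of_mem_same _ ((hdeg U hU 0 x).mpr hx)] at ha
      refine ⟨a, hinj U hU ?_⟩
      rw [hstr, ha]
    · rintro ⟨a, rfl⟩
      exact 𝒮'.str_mem U hU a
  · refine top_le_iff.mp fun x _ => ?_
    have h1 : (j'.hom.app (op U)).hom x ∈ genRing i U := by
      have h2 : (j'.hom.app (op U)).hom x ∈ (j'.hom.app (op U)).hom.range := ⟨x, rfl⟩
      rw [hran U hU] at h2
      exact h2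
    have h3 : genRing i U ≤ (Subring.closure (((𝒮'.deg U hU 0 : AddSubgroup (𝒮'.presheaf.obj (op U))) :
        Set (𝒮'.presheaf.obj (op U))) ∪ ((𝒮'.deg U hU N : AddSubgroup (𝒮'.presheaf.obj (op U))) :
          Set (𝒮'.presheaf.obj (op U))))).map (j'.hom.app (op U)).hom := by
      refine Subring.closure_le.mpr ?_
      rintro x (⟨a, rfl⟩ | ⟨e, rfl⟩)
      · exact ⟨(𝒮'.str.app (op U)).hom a, Subring.subset_closure (Or.inl (𝒮'.str_mem U hU a)), hstr U a⟩
      · obtain ⟨y, hy, h⟩ := hlift U hU e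
        exact ⟨y, Subring.subset_closure (Or.inr hy), h⟩
    obtain ⟨y, hy, e⟩ := h3 h1
    rwa [← hinj U hU e]
  · classical
    have hfin : Module.Finite Γ(Y, U) Γ(E, U) := by
      have := hE
      exact Groth.Agent.CohqB.FiniteType2.finite_sections_of_isFT E hft hU
    obtain ⟨G, hG⟩ := hfin.fg_top
    choose y hy hye using hlift U hU
    refine ⟨G.image y, ?_, fun x hx => ?_⟩
    · intro z hz
      rw [Finset.coe_image] at hz
      obtain ⟨e, -, rfl⟩ := hz
      exact hy e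
    · obtain ⟨m, hm⟩ := (hlow U hU x).top
      rw [DirectSum.decompose_of_mem_same _ ((hdeg U hU N x).mpr hx)] at hm
      have key : ∀ m ∈ Submodule.span Γ(Y, U) (G : Set Γ(E, U)), ∀ x : 𝒮'.presheaf.obj (op U),
          jApp E 𝒮.toQCAlg i U m = (j'.hom.app (op U)).hom x → ∃ c : (𝒮'.presheaf.obj (op U)) → Γ(Y, U),
            x = ∑ t ∈ G.image y, (𝒮'.str.app (op U)).hom (c t) * t := by
        intro m hm
        induction hm using Submodule.span_induction with
        | mem m hm =>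
          intro x hx
          have hxy : x = y m := hinj U hU (by rw [hye, hx])
          refine ⟨fun t => if t = x then 1 else 0, ?_⟩
          rw [Finset.sum_eq_single x]
          · simp
          · intro b _ hb
            simp [hb]
          · intro h
            exact absurd (Finset.mem_image.mpr ⟨m, hm, hxy.symm⟩) h
        | zero =>
          intro x hx
          have h0 : x = 0 := hinj U hU (by rw [← hx, map_zero, map_zero])
          exact ⟨fun _ => 0, by simp [h0]⟩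
        | add m m' _ _ h h' =>
          intro x hx
          obtain ⟨c, hc⟩ := h (y m) (hye m).symm
          obtain ⟨c', hc'⟩ := h' (y m') (hye m').symm
          have hxy : x = y m + y m' := hinj U hU (by rw [← hx, map_add, map_add, hye, hye])
          refine ⟨fun t => c t + c' t, ?_⟩
          rw [hxy, hc, hc', ← Finset.sum_add_distrib]
          refine Finset.sum_congr rfl fun t _ => ?_
          rw [map_add, add_mul]
        | smul a m _ h =>
          intro x hx
          obtain ⟨c, hc⟩ := h (y m) (hye m).symm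
          have hxy : x = (𝒮'.str.app (op U)).hom a * y m := hinj U hU (by
            rw [← hx, map_mul, hstr, hye]
            exact jApp_smul E 𝒮.toQCAlg i U a m)
          refine ⟨fun t => a * c t, ?_⟩
          rw [hxy, hc, Finset.mul_sum]
          refine Finset.sum_congr rfl fun t _ => ?_
          rw [map_mul, mul_assoc]
      exact key m (by rw [hG]; trivial) x hm

end K41.GenSub
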