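import Groth.Agent.EGA2.K41.LineAlg
import Mathlib.AlgebraicGeometry.Morphisms.QuasiCompact

/-!
# The open where a section of a line algebra does not vanish
-/

set_option autoImplicit false
set_option linter.unusedSectionVars false
universe u
open CategoryTheory CategoryTheory.Limits AlgebraicGeometry TopologicalSpace Opposite
open scoped HomogeneousIdeal

noncomputable section

namespace K41.NV
open K41.LineAlg K41.LineRing

variable {X : Scheme.{u}} {𝒜 : RelProj.QCGrAlg X}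

theorem lineOn_of_eq {V W : X.Opens} {hV : IsAffineOpen V} {T : 𝒜.presheaf.obj (op V)} (h : LineOn 𝒜 V hV T)
    (r : Γ(X, V)) (hW : IsAffineOpen W) (e : W = X.basicOpen r) (i : W ≤ V) : LineOn 𝒜 W hW (res 𝒜 i T) := by
  subst e; exact h.basicOpen r

theorem exists_deg_res_eq' {V W : X.Opens} (hV : IsAffineOpen V) (r : Γ(X, V)) (hW : IsAffineOpen W)
    (e : W = X.basicOpen r) (i : W ≤ V) {n : ℕ} {a : 𝒜.presheaf.obj (op W)} (ha : a ∈ 𝒜.deg W hW n) :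
    ∃ (k : ℕ) (x : 𝒜.presheaf.obj (op V)), x ∈ 𝒜.deg V hV n ∧
      a * str 𝒜 _ (resO i r) ^ k = res 𝒜 i x := by
  subst e; exact exists_deg_res_eq hV r ha

theorem isUnit_resO' {V W : X.Opens} (r : Γ(X, V)) (e : W = X.basicOpen r) (i : W ≤ V) : IsUnit (resO i r) := by
  subst e; exact isUnit_resO V r

theorem gen_of_basicOpen {V W : X.Opens} (hV : IsAffineOpen V) (r : Γ(X, V)) (hW : IsAffineOpen W)
    (e : W = X.basicOpen r) (i : W ≤ V) {d : ℕ} {t : 𝒜.presheaf.obj (op V)}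
    (h : (𝒜.deg V hV d : Set (𝒜.presheaf.obj (op V))) ⊆ (Ideal.span {t} : Set _)) :
    (𝒜.deg W hW d : Set (𝒜.presheaf.obj (op W))) ⊆ (Ideal.span {res 𝒜 i t} : Set _) := by
  intro a ha
  obtain ⟨k, x, hx, e1⟩ := exists_deg_res_eq' hV r hW e i ha
  obtain ⟨c, hc⟩ := Ideal.mem_span_singleton'.mp (h hx)
  have hu : IsUnit (str 𝒜 W (resO i r) ^ k) := ((isUnit_resO' r e i).map (str 𝒜 W)).pow k
  obtain ⟨ρ, hρ⟩ := hu
  refine Ideal.mem_span_singleton'.mpr ⟨res 𝒜 i c * ↑ρ⁻¹, ?_⟩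
  rw [mul_right_comm, ← map_mul, hc, ← e1, ← hρ, mul_assoc, Units.mul_inv, mul_one]

/-- The open of `X` over which the section `t` of `𝒜` over `W` generates the degree `d` part. -/
def nv {W : X.Opens} (t : 𝒜.presheaf.obj (op W)) (d : ℕ) : X.Opens :=
  ⨆ V : {V : X.affineOpens // ∃ h : (V : X.Opens) ≤ W,
      ((𝒜.deg V.1 V.2 d : AddSubgroup _) : Set (𝒜.presheaf.obj (op (V.1 : X.Opens)))) ⊆
        (Ideal.span {res 𝒜 h t} : Set (𝒜.presheaf.obj (op (V.1 : X.Opens))))},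
    (V.1.1 : X.Opens)

theorem mem_nv {W : X.Opens} {t : 𝒜.presheaf.obj (op W)} {d : ℕ} {x : X} :
    x ∈ nv t d ↔ ∃ (V : X.Opens) (hV : IsAffineOpen V) (h : V ≤ W), x ∈ V ∧
      ((𝒜.deg V hV d : AddSubgroup _) : Set (𝒜.presheaf.obj (op V))) ⊆
        (Ideal.span {res 𝒜 h t} : Set (𝒜.presheaf.obj (op V))) := by
  rw [nv, Opens.mem_iSup]
  constructor
  · rintro ⟨⟨⟨V, hV⟩, h, H⟩, hx⟩
    exact ⟨V, hV, h, hx, H⟩
  · rintro ⟨V, hV, h, hx, H⟩
    exact ⟨⟨⟨V, hV⟩, h, H⟩, hx⟩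

theorem nv_le {W : X.Opens} (t : 𝒜.presheaf.obj (op W)) (d : ℕ) : nv t d ≤ W :=
  iSup_le fun V => V.2.1

/-- On a line chart the open where `t = a T ^ d` does not vanish is `D(a)`. -/
theorem nv_inf_line {W V : X.Opens} {hV : IsAffineOpen V} {T : 𝒜.presheaf.obj (op V)} (h : LineOn 𝒜 V hV T)
    (i : V ≤ W) (t : 𝒜.presheaf.obj (op W)) (d : ℕ) (a : Γ(X, V)) (ha : res 𝒜 i t = str 𝒜 V a * T ^ d) :
    nv t d ⊓ V = X.basicOpen a := by
  apply le_antisymm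
  · rintro x ⟨hx, hxV⟩
    obtain ⟨V', hV', h', hxV', H⟩ := mem_nv.mp hx
    obtain ⟨f, g, e, hxf⟩ := exists_basicOpen_le_affine_inter hV hV' x ⟨hxV, hxV'⟩
    have iV : X.basicOpen f ≤ V := X.basicOpen_le f
    have iV' : X.basicOpen f ≤ V' := e.le.trans (X.basicOpen_le g)
    have H1 := gen_of_basicOpen hV' g (hV.basicOpen f) e iV' H
    rw [res_res] at H1
    have e1 : res 𝒜 (iV'.trans h') t = res 𝒜 iV (res 𝒜 i t) := by rw [res_res]
    rw [e1, ha, map_mul, res_str, map_pow] at H1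
    have hu := ((h.basicOpen f).span_iff d _).mp H1
    have h2 : X.basicOpen f ≤ X.basicOpen a := by
      have h3 : X.basicOpen (resO iV a) = X.basicOpen f := X.basicOpen_of_isUnit hu
      rw [← h3]
      exact (X.basicOpen_res a (homOfLE iV).op).le.trans inf_le_right
    exact h2 hxf
  · intro x hx
    refine ⟨mem_nv.mpr ⟨X.basicOpen a, hV.basicOpen a, (X.basicOpen_le a).trans i, hx, ?_⟩, X.basicOpen_le a hx⟩
    rw [← res_res 𝒜 i (X.basicOpen_le a), ha, map_mul, res_str, map_pow]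
    exact ((h.basicOpen a).span_iff d _).mpr (isUnit_resO V a)

/-- `t` is homogeneous of degree `d` over every affine open. -/
def IsHom {W : X.Opens} (t : 𝒜.presheaf.obj (op W)) (d : ℕ) : Prop :=
  ∀ (V : X.Opens) (hV : IsAffineOpen V) (i : V ≤ W), res 𝒜 i t ∈ 𝒜.deg V hV d

theorem IsHom.res {W V : X.Opens} {t : 𝒜.presheaf.obj (op W)} {d : ℕ} (h : IsHom t d) (i : V ≤ W) :
    IsHom (LineAlg.res 𝒜 i t) d := fun V' hV' i' => by rw [res_res]; exact h V' hV' _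

theorem IsHom.pow {W : X.Opens} {t : 𝒜.presheaf.obj (op W)} {d : ℕ} (h : IsHom t d) (n : ℕ) :
    IsHom (t ^ n) (n * d) := fun V' hV' i' => by
  rw [map_pow]; simpa using SetLike.pow_mem_graded n (h V' hV' i')

theorem IsHom.mul {W : X.Opens} {t s : 𝒜.presheaf.obj (op W)} {d e : ℕ} (h : IsHom t d) (h' : IsHom s e) :
    IsHom (t * s) (d + e) := fun V' hV' i' => by
  rw [map_mul]; exact SetLike.mul_mem_graded (h V' hV' i') (h' V' hV' i')

/-- Line charts inside a given open. -/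
theorem exists_lineOn_le (h : IsLineAlg 𝒜) {W : X.Opens} {x : X} (hx : x ∈ W) :
    ∃ (V : X.Opens) (hV : IsAffineOpen V) (T : 𝒜.presheaf.obj (op V)), x ∈ V ∧ V ≤ W ∧ LineOn 𝒜 V hV T := by
  obtain ⟨V, hV, T, hxV, hT⟩ := h x
  obtain ⟨f, hf, hxf⟩ := hV.exists_basicOpen_le ⟨x, hx⟩ hxV
  exact ⟨X.basicOpen f, hV.basicOpen f, _, hxf, hf, hT.basicOpen f⟩

theorem nv_res (h : IsLineAlg 𝒜) {W V : X.Opens} (i : V ≤ W) {t : 𝒜.presheaf.obj (op W)} {d : ℕ} (ht : IsHom t d) :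
    nv (LineAlg.res 𝒜 i t) d = nv t d ⊓ V := by
  apply le_antisymm
  · refine le_inf (fun x hx => ?_) (nv_le _ _)
    obtain ⟨V', hV', h', hxV', H⟩ := mem_nv.mp hx
    rw [res_res] at H
    exact mem_nv.mpr ⟨V', hV', _, hxV', H⟩
  · rintro x ⟨hx, hxV⟩
    obtain ⟨V', hV', T, hxV', hV'V, hT⟩ := exists_lineOn_le h hxV
    obtain ⟨a, ha⟩ := hT.surj d _ (ht V' hV' (hV'V.trans i))
    have h1 := nv_inf_line hT (hV'V.trans i) t d a ha
    have h2 := nv_inf_line hT hV'V (LineAlg.res 𝒜 i t) d a (by rw [res_res]; exact ha)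
    have h3 : x ∈ nv t d ⊓ V' := ⟨hx, hxV'⟩
    rw [h1, ← h2] at h3
    exact h3.1

theorem mem_nv_iff_of_line {W V : X.Opens} {hV : IsAffineOpen V} {T : 𝒜.presheaf.obj (op V)} (h : LineOn 𝒜 V hV T)
    (i : V ≤ W) (t : 𝒜.presheaf.obj (op W)) (d : ℕ) (a : Γ(X, V)) (ha : LineAlg.res 𝒜 i t = str 𝒜 V a * T ^ d)
    {x : X} (hx : x ∈ V) : x ∈ nv t d ↔ x ∈ X.basicOpen a := by
  rw [← nv_inf_line h i t d a ha]
  exact ⟨fun h => ⟨h, hx⟩, fun h => h.1⟩

theorem nv_mul (h : IsLineAlg 𝒜) {W : X.Opens} {t s : 𝒜.presheaf.obj (op W)} {d e : ℕ} (ht : IsHom t d)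
    (hs : IsHom s e) : nv (t * s) (d + e) = nv t d ⊓ nv s e := by
  ext x
  by_cases hx : x ∈ W
  · obtain ⟨V, hV, T, hxV, hVW, hT⟩ := exists_lineOn_le h hx
    obtain ⟨a, ha⟩ := hT.surj d _ (ht V hV hVW)
    obtain ⟨b, hb⟩ := hT.surj e _ (hs V hV hVW)
    have hab : LineAlg.res 𝒜 hVW (t * s) = str 𝒜 V (a * b) * T ^ (d + e) := by
      rw [map_mul, ha, hb, map_mul, pow_add]; ring
    have h1 := mem_nv_iff_of_line hT hVW _ _ _ hab hxV
    have h2 := mem_nv_iff_of_line hT hVW _ _ _ ha hxV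
    have h3 := mem_nv_iff_of_line hT hVW _ _ _ hb hxV
    change x ∈ nv (t * s) (d + e) ↔ (x ∈ nv t d ∧ x ∈ nv s e)
    rw [h1, h2, h3, X.basicOpen_mul]
    rfl
  · exact ⟨fun h => absurd (nv_le _ _ h) hx, fun h => absurd (nv_le _ _ h.1) hx⟩

theorem nv_pow (h : IsLineAlg 𝒜) {W : X.Opens} {t : 𝒜.presheaf.obj (op W)} {d : ℕ} (ht : IsHom t d)
    {n : ℕ} (hn : 0 < n) : nv (t ^ n) (n * d) = nv t d := by
  induction n, hn using Nat.le_induction with
  | base => change nv (t ^ 1) (1 * d) = nv t d; rw [pow_one, one_mul]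
  | succ n hn ih =>
    rw [pow_succ, add_mul, one_mul, nv_mul h (ht.pow n) ht, ih, inf_idem]

/-- The section `t` is nilpotent around every point of `W` if and only if it vanishes everywhere in `W`. -/
theorem nv_eq_bot_iff (h : IsLineAlg 𝒜) {W : X.Opens} {t : 𝒜.presheaf.obj (op W)} {d : ℕ} (ht : IsHom t d) :
    nv t d = ⊥ ↔ ∀ x ∈ W, ∃ (V : X.Opens) (_ : IsAffineOpen V) (i : V ≤ W), x ∈ V ∧ IsNilpotent (LineAlg.res 𝒜 i t) := by
  constructor
  · intro H x hx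
    obtain ⟨V, hV, T, hxV, hVW, hT⟩ := exists_lineOn_le h hx
    obtain ⟨a, ha⟩ := hT.surj d _ (ht V hV hVW)
    refine ⟨V, hV, hVW, hxV, ?_⟩
    have h1 := nv_inf_line hT hVW _ _ _ ha
    rw [H, bot_inf_eq] at h1
    have h2 : IsNilpotent a := (Scheme.isNilpotent_iff_basicOpen_eq_bot_of_isCompact hV.isCompact a).mpr h1.symm
    rw [ha]
    exact (hT.isNilpotent_iff d a).mpr h2
  · intro H
    rw [eq_bot_iff]
    intro x hx
    obtain ⟨V, hV, hVW, hxV, hN⟩ := H x (nv_le _ _ hx)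
    obtain ⟨V', hV', T, hxV', hVV, hT⟩ := exists_lineOn_le h hxV
    obtain ⟨a, ha⟩ := hT.surj d _ (ht V' hV' (hVV.trans hVW))
    have h1 := mem_nv_iff_of_line hT (hVV.trans hVW) _ _ _ ha hxV'
    have h2 : IsNilpotent (LineAlg.res 𝒜 (hVV.trans hVW) t) := by
      rw [← res_res 𝒜 hVW hVV]; exact hN.map _
    rw [ha] at h2
    have h3 := (hT.isNilpotent_iff d a).mp h2
    have h4 := h1.mp hx
    rwa [(Scheme.isNilpotent_iff_basicOpen_eq_bot_of_isCompact hV'.isCompact a).mp h3] at h4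

end K41.NV
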