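import Groth.Agent.EGA2.K41.NV

/-!
# The relative Proj of a line algebra is the base
-/

set_option autoImplicit false
set_option linter.unusedSectionVars false
universe u
open CategoryTheory CategoryTheory.Limits AlgebraicGeometry TopologicalSpace Opposite
open scoped HomogeneousIdeal

noncomputable section

namespace K41.PLine
open K41.LineAlg K41.LineRing K41.NV

variable {X : Scheme.{u}} {𝒜 : RelProj.QCGrAlg X} {P : Scheme.{u}} {p : P ⟶ X}
  {chart : ∀ (U : X.Opens) (hU : IsAffineOpen U), (((p ⁻¹ᵁ U : P.Opens) : Scheme.{u}) ≅ Proj (𝒜.deg U hU))}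
  (hP : RelProj.IsRelProj 𝒜 p chart)
include hP

theorem emb_p (U : X.Opens) (hU : IsAffineOpen U) :
    RelProj.emb p chart U hU ≫ p =
      Proj.toSpecZero (𝒜.deg U hU) ≫ Spec.map (𝒜.strZero U hU) ≫ hU.fromSpec := by
  rw [RelProj.emb, Category.assoc, ← hP.chart_over U hU, Iso.inv_hom_id_assoc]

theorem chart_toSpec (U : X.Opens) (hU : IsAffineOpen U) :
    (chart U hU).hom ≫ toSpec (𝒜.deg U hU) (str 𝒜 U) (fun r => 𝒜.str_mem U hU r) ≫ hU.fromSpec =
      (p ⁻¹ᵁ U).ι ≫ p := by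
  rw [← hP.chart_over U hU]
  simp only [toSpec, Category.assoc]
  rfl

theorem emb_toSpec (U : X.Opens) (hU : IsAffineOpen U) :
    RelProj.emb p chart U hU ≫ p = toSpec (𝒜.deg U hU) (str 𝒜 U) (fun r => 𝒜.str_mem U hU r) ≫ hU.fromSpec := by
  rw [RelProj.emb, Category.assoc, ← chart_toSpec hP U hU, Iso.inv_hom_id_assoc]

theorem isIso_restrict {V : X.Opens} {hV : IsAffineOpen V} {T : 𝒜.presheaf.obj (op V)} (h : LineOn 𝒜 V hV T) :
    IsIso (p ∣_ V) := by
  have h1 := isIso_toSpec h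
  have e : p ∣_ V = (chart V hV).hom ≫ toSpec (𝒜.deg V hV) (str 𝒜 V) h.deg_φ ≫ hV.isoSpec.inv := by
    rw [← cancel_mono V.ι, morphismRestrict_ι]
    simp only [Category.assoc]
    rw [IsAffineOpen.isoSpec_inv_ι]
    exact (chart_toSpec hP V hV).symm
  rw [e]
  infer_instance

/-- The relative Proj of a line algebra is the base. -/
theorem isIso_p (h : IsLineAlg 𝒜) : IsIso p := by
  choose V hV T hx hT using h
  have hc : (⨆ x, V x) = ⊤ := top_le_iff.mp fun x _ => Opens.mem_iSup.mpr ⟨x, hx x⟩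
  have : (MorphismProperty.isomorphisms Scheme.{u}) p := by
    refine (IsZariskiLocalAtTarget.iff_of_iSup_eq_top (P := MorphismProperty.isomorphisms Scheme.{u}) V hc).mpr
      fun x => ?_
    exact isIso_restrict hP (hT x)
  exact this

/-- On a line chart, the part of Proj over `D(a)` is `D₊(a T ^ d)`. -/
theorem emb_preimage_basicOpen {V : X.Opens} {hV : IsAffineOpen V} {T : 𝒜.presheaf.obj (op V)} (h : LineOn 𝒜 V hV T)
    (d : ℕ) (a : Γ(X, V)) :
    RelProj.emb p chart V hV ⁻¹ᵁ (p ⁻¹ᵁ X.basicOpen a) = Proj.basicOpen (𝒜.deg V hV) (str 𝒜 V a * T ^ d) := by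
  rw [← toSpec_preimage h d a, ← Scheme.Hom.comp_preimage, emb_toSpec hP, Scheme.Hom.comp_preimage,
    hV.fromSpec_preimage_basicOpen]

/-- The part of Proj over the open where `t` does not vanish, in a line chart. -/
theorem emb_preimage_nv {W V : X.Opens} {hV : IsAffineOpen V} {T : 𝒜.presheaf.obj (op V)} (h : LineOn 𝒜 V hV T)
    (i : V ≤ W) {t : 𝒜.presheaf.obj (op W)} {d : ℕ} (ht : IsHom t d) :
    RelProj.emb p chart V hV ⁻¹ᵁ (p ⁻¹ᵁ (nv t d)) = Proj.basicOpen (𝒜.deg V hV) (LineAlg.res 𝒜 i t) := by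
  obtain ⟨a, ha⟩ := h.surj d _ (ht V hV i)
  rw [ha, ← emb_preimage_basicOpen hP h d a, ← nv_inf_line h i t d a ha]
  have h1 : RelProj.emb p chart V hV ⁻¹ᵁ (p ⁻¹ᵁ V) = ⊤ := by
    rw [RelProj.emb, Scheme.Hom.comp_preimage, Scheme.Opens.ι_preimage_self]
    rfl
  rw [Scheme.Hom.preimage_inf, Scheme.Hom.preimage_inf, h1, inf_top_eq]

end K41.PLine
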