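import Groth.Agent.EGA2.K42.DomMap
import Groth.Agent.EGA2.K42.DomHom
import Groth.Agent.EGA2.K40.GlueHom

/-!
# Composition of the morphisms `Proj(u)`

* `toP ψ f c`: the morphism `T ⟶ P` attached to `c : T ⟶ P''` landing in `D₊(ψ f)`.
* `eq_toP`: `b ≫ Proj(u) = toP (u) f (b ≫ ι)`; `comp_eq_toP`: the same for two successive graded morphisms.
* `mem_iff`: where `Proj(u) ∘ Proj(v)` is defined.
* `comp_eq_comp`: two chains of graded morphisms with the same composite induce the same morphism on `T`-points.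
-/

set_option autoImplicit false
set_option linter.unusedSectionVars false
universe u
open CategoryTheory CategoryTheory.Limits AlgebraicGeometry TopologicalSpace Opposite
open scoped HomogeneousIdeal

noncomputable section

namespace K41.ProjComp
open K42.DomQ K42.DomMap

section toP

variable {S S'' : Scheme.{u}} {𝒮 : RelProj.QCGrAlg S} {𝒮'' : RelProj.QCGrAlg S''}
  {P : Scheme.{u}} (p : P ⟶ S)
  (chart : ∀ (U : S.Opens) (hU : IsAffineOpen U), (((p ⁻¹ᵁ U : P.Opens) : Scheme.{u}) ≅ Proj (𝒮.deg U hU)))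
  {P'' : Scheme.{u}} (p'' : P'' ⟶ S'')
  (chart'' : ∀ (U'' : S''.Opens) (hU'' : IsAffineOpen U''),
    (((p'' ⁻¹ᵁ U'' : P''.Opens) : Scheme.{u}) ≅ Proj (𝒮''.deg U'' hU'')))
  {U : S.Opens} {hU : IsAffineOpen U} {U'' : S''.Opens} {hU'' : IsAffineOpen U''}

theorem range_le_aff {d : ℕ} (hd : 0 < d) {f : 𝒮''.presheaf.obj (op U'')} (hf : f ∈ 𝒮''.deg U'' hU'' d)
    {T : Scheme.{u}} (c : T ⟶ P'') (hc : ∀ t, c.base t ∈ std p'' chart'' U'' hU'' f) :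
    Set.range c.base ⊆ Set.range (aff p'' chart'' U'' hU'' hd f hf).base := by
  rintro _ ⟨t, rfl⟩
  exact (opensRange_aff (p := p'') (chart := chart'') U'' hU'' hd f hf).ge (hc t)

/-- The morphism `T ⟶ P` attached to a graded homomorphism `ψ : 𝒮(U) → 𝒮''(U'')` and a morphism `c : T ⟶ P''`
landing in `D₊(ψ f)`. -/
def toP (ψ : 𝒮.deg U hU →+*ᵍ 𝒮''.deg U'' hU'') {d : ℕ} (hd : 0 < d) (f : 𝒮.presheaf.obj (op U))
    (hf : f ∈ 𝒮.deg U hU d) {T : Scheme.{u}} (c : T ⟶ P'') (hc : ∀ t, c.base t ∈ std p'' chart'' U'' hU'' (ψ f)) :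
    T ⟶ P :=
  IsOpenImmersion.lift (aff p'' chart'' U'' hU'' hd (ψ f) (ψ.map_mem hf)) c
    (range_le_aff p'' chart'' hd (ψ.map_mem hf) c hc) ≫
    Spec.map (CommRingCat.ofHom (HomogeneousLocalization.Away.map ψ f)) ≫ aff p chart U hU hd f hf

theorem toP_congr (ψ ψ' : 𝒮.deg U hU →+*ᵍ 𝒮''.deg U'' hU'') (h : ψ = ψ') {d : ℕ} (hd : 0 < d)
    (f : 𝒮.presheaf.obj (op U)) (hf : f ∈ 𝒮.deg U hU d) {T : Scheme.{u}} (c c' : T ⟶ P'') (hcc : c = c')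
    (hc : ∀ t, c.base t ∈ std p'' chart'' U'' hU'' (ψ f)) (hc' : ∀ t, c'.base t ∈ std p'' chart'' U'' hU'' (ψ' f)) :
    toP p chart p'' chart'' ψ hd f hf c hc = toP p chart p'' chart'' ψ' hd f hf c' hc' := by
  subst h hcc; rfl

/-- `toP` through a factorization. -/
theorem eq_toP_of_fac (ψ : 𝒮.deg U hU →+*ᵍ 𝒮''.deg U'' hU'') {d : ℕ} (hd : 0 < d) (f : 𝒮.presheaf.obj (op U))
    (hf : f ∈ 𝒮.deg U hU d) {T : Scheme.{u}} (c : T ⟶ P'') (hc : ∀ t, c.base t ∈ std p'' chart'' U'' hU'' (ψ f))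
    (k : T ⟶ Spec (CommRingCat.of (HomogeneousLocalization.Away (𝒮''.deg U'' hU'') (ψ f))))
    (hk : k ≫ aff p'' chart'' U'' hU'' hd (ψ f) (ψ.map_mem hf) = c) :
    toP p chart p'' chart'' ψ hd f hf c hc =
      k ≫ Spec.map (CommRingCat.ofHom (HomogeneousLocalization.Away.map ψ f)) ≫ aff p chart U hU hd f hf := by
  rw [toP]
  congr 1
  rw [← cancel_mono (aff p'' chart'' U'' hU'' hd (ψ f) (ψ.map_mem hf)), IsOpenImmersion.lift_fac, hk]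

end toP

section one

variable {S S' : Scheme.{u}} {g : S' ⟶ S} {𝒮 : RelProj.QCGrAlg S} {𝒮' : RelProj.QCGrAlg S'}
  (u : RelProj.QGrHom g 𝒮 𝒮')
  {P : Scheme.{u}} {p : P ⟶ S}
  {chart : ∀ (U : S.Opens) (hU : IsAffineOpen U), (((p ⁻¹ᵁ U : P.Opens) : Scheme.{u}) ≅ Proj (𝒮.deg U hU))}
  {P' : Scheme.{u}} {p' : P' ⟶ S'}
  {chart' : ∀ (U' : S'.Opens) (hU' : IsAffineOpen U'), (((p' ⁻¹ᵁ U' : P'.Opens) : Scheme.{u}) ≅ Proj (𝒮'.deg U' hU'))}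
  {r : ((RelProj.domQ u p' chart' : P'.Opens) : Scheme.{u}) ⟶ P}
  (hr : RelProj.IsProjQMapOn u p chart p' chart' (RelProj.domQ u p' chart') r)

include hr in
theorem eq_toP (U : S.Opens) (hU : IsAffineOpen U) (U' : S'.Opens) (hU' : IsAffineOpen U') (hle : U' ≤ g ⁻¹ᵁ U)
    {d : ℕ} (hd : 0 < d) (f : 𝒮.presheaf.obj (op U)) (hf : f ∈ 𝒮.deg U hU d) {T : Scheme.{u}}
    (b : T ⟶ ((RelProj.domQ u p' chart' : P'.Opens) : Scheme.{u}))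
    (hc : ∀ t, (b ≫ (RelProj.domQ u p' chart').ι).base t ∈
      std p' chart' U' hU' (u.gradedAt U hU U' hU' hle f)) :
    b ≫ r = toP p chart p' chart' (u.gradedAt U hU U' hU' hle) hd f hf (b ≫ (RelProj.domQ u p' chart').ι) hc := by
  have hb : Set.range b.base ⊆ Set.range (affOn u p' chart' U hU U' hU' hle hd f hf).base := by
    rintro _ ⟨t, rfl⟩
    exact (opensRange_affOn U hU U' hU' hle hd f hf).ge (hc t)
  have h1 : IsOpenImmersion.lift (affOn u p' chart' U hU U' hU' hle hd f hf) b hb ≫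
      affOn u p' chart' U hU U' hU' hle hd f hf = b := IsOpenImmersion.lift_fac _ _ _
  rw [eq_toP_of_fac p chart p' chart' (u.gradedAt U hU U' hU' hle) hd f hf _ hc
    (IsOpenImmersion.lift (affOn u p' chart' U hU U' hU' hle hd f hf) b hb)
    (by rw [← awayEmb_eq u U hU U' hU' hle hd f hf, ← affOn_ι, reassoc_of% h1]), ← affOn_comp hr, reassoc_of% h1]

end one

section two

variable {S S' S'' : Scheme.{u}} {g : S' ⟶ S} {g' : S'' ⟶ S'} {𝒮 : RelProj.QCGrAlg S} {𝒮' : RelProj.QCGrAlg S'}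
  {𝒮'' : RelProj.QCGrAlg S''} (u : RelProj.QGrHom g 𝒮 𝒮') (v : RelProj.QGrHom g' 𝒮' 𝒮'')
  {P : Scheme.{u}} {p : P ⟶ S}
  {chart : ∀ (U : S.Opens) (hU : IsAffineOpen U), (((p ⁻¹ᵁ U : P.Opens) : Scheme.{u}) ≅ Proj (𝒮.deg U hU))}
  {P' : Scheme.{u}} {p' : P' ⟶ S'}
  {chart' : ∀ (U' : S'.Opens) (hU' : IsAffineOpen U'), (((p' ⁻¹ᵁ U' : P'.Opens) : Scheme.{u}) ≅ Proj (𝒮'.deg U' hU'))}
  {P'' : Scheme.{u}} {p'' : P'' ⟶ S''}
  {chart'' : ∀ (U'' : S''.Opens) (hU'' : IsAffineOpen U''),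
    (((p'' ⁻¹ᵁ U'' : P''.Opens) : Scheme.{u}) ≅ Proj (𝒮''.deg U'' hU''))}
  {ru : ((RelProj.domQ u p' chart' : P'.Opens) : Scheme.{u}) ⟶ P}
  (hru : RelProj.IsProjQMapOn u p chart p' chart' (RelProj.domQ u p' chart') ru)
  {rv : ((RelProj.domQ v p'' chart'' : P''.Opens) : Scheme.{u}) ⟶ P'}
  (hrv : RelProj.IsProjQMapOn v p' chart' p'' chart'' (RelProj.domQ v p'' chart'') rv)

/-- The composite graded homomorphism on affine triples. -/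
def gradedComp (U : S.Opens) (hU : IsAffineOpen U) (U' : S'.Opens) (hU' : IsAffineOpen U') (hle : U' ≤ g ⁻¹ᵁ U)
    (U'' : S''.Opens) (hU'' : IsAffineOpen U'') (hle' : U'' ≤ g' ⁻¹ᵁ U') : 𝒮.deg U hU →+*ᵍ 𝒮''.deg U'' hU'' :=
  (v.gradedAt U' hU' U'' hU'' hle').comp (u.gradedAt U hU U' hU' hle)

theorem gradedComp_apply (U : S.Opens) (hU : IsAffineOpen U) (U' : S'.Opens) (hU' : IsAffineOpen U') (hle : U' ≤ g ⁻¹ᵁ U)
    (U'' : S''.Opens) (hU'' : IsAffineOpen U'') (hle' : U'' ≤ g' ⁻¹ᵁ U') (f : 𝒮.presheaf.obj (op U)) :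
    gradedComp u v U hU U' hU' hle U'' hU'' hle' f =
      v.gradedAt U' hU' U'' hU'' hle' (u.gradedAt U hU U' hU' hle f) := rfl

include hru hrv in
theorem comp_eq_toP (U : S.Opens) (hU : IsAffineOpen U) (U' : S'.Opens) (hU' : IsAffineOpen U') (hle : U' ≤ g ⁻¹ᵁ U)
    (U'' : S''.Opens) (hU'' : IsAffineOpen U'') (hle' : U'' ≤ g' ⁻¹ᵁ U')
    {d : ℕ} (hd : 0 < d) (f : 𝒮.presheaf.obj (op U)) (hf : f ∈ 𝒮.deg U hU d) {T : Scheme.{u}}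
    (a : T ⟶ ((RelProj.domQ v p'' chart'' : P''.Opens) : Scheme.{u}))
    (b : T ⟶ ((RelProj.domQ u p' chart' : P'.Opens) : Scheme.{u}))
    (hab : a ≫ rv = b ≫ (RelProj.domQ u p' chart').ι)
    (hc : ∀ t, (a ≫ (RelProj.domQ v p'' chart'').ι).base t ∈
      std p'' chart'' U'' hU'' (gradedComp u v U hU U' hU' hle U'' hU'' hle' f)) :
    b ≫ ru = toP p chart p'' chart'' (gradedComp u v U hU U' hU' hle U'' hU'' hle') hd f hf
      (a ≫ (RelProj.domQ v p'' chart'').ι) hc := by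
  have hf' : u.gradedAt U hU U' hU' hle f ∈ 𝒮'.deg U' hU' d := (u.gradedAt U hU U' hU' hle).map_mem hf
  have hf'' : v.gradedAt U' hU' U'' hU'' hle' (u.gradedAt U hU U' hU' hle f) ∈ 𝒮''.deg U'' hU'' d :=
    (v.gradedAt U' hU' U'' hU'' hle').map_mem hf'
  have hc' : ∀ t, (a ≫ (RelProj.domQ v p'' chart'').ι).base t ∈
      std p'' chart'' U'' hU'' (v.gradedAt U' hU' U'' hU'' hle' (u.gradedAt U hU U' hU' hle f)) := hc
  have h0 := eq_toP v hrv U' hU' U'' hU'' hle' hd (u.gradedAt U hU U' hU' hle f) hf' a hc'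
  let k := IsOpenImmersion.lift (aff p'' chart'' U'' hU'' hd _ hf'') (a ≫ (RelProj.domQ v p'' chart'').ι)
    (range_le_aff p'' chart'' hd hf'' _ hc')
  have hk : k ≫ aff p'' chart'' U'' hU'' hd _ hf'' = a ≫ (RelProj.domQ v p'' chart'').ι := IsOpenImmersion.lift_fac _ _ _
  have h1 := hab.symm.trans (h0.trans (eq_toP_of_fac p' chart' p'' chart'' (v.gradedAt U' hU' U'' hU'' hle') hd _ hf' _ hc' k hk))
  have hb : ∀ t, (b ≫ (RelProj.domQ u p' chart').ι).base t ∈ std p' chart' U' hU' (u.gradedAt U hU U' hU' hle f) := by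
    intro t
    rw [h1, ← opensRange_aff (p := p') (chart := chart') U' hU' hd _ hf']
    exact ⟨_, rfl⟩
  have s1 := eq_toP u hru U hU U' hU' hle hd f hf b hb
  have s2 := eq_toP_of_fac p chart p' chart' (u.gradedAt U hU U' hU' hle) hd f hf _ hb (k ≫ Spec.map (CommRingCat.ofHom
    (HomogeneousLocalization.Away.map (v.gradedAt U' hU' U'' hU'' hle') (u.gradedAt U hU U' hU' hle f))))
    (by rw [h1, Category.assoc])
  have s3 := eq_toP_of_fac p chart p'' chart'' (gradedComp u v U hU U' hU' hle U'' hU'' hle') hd f hf _ hc k hk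
  have s4 := HomogeneousLocalization.Away.map_comp (u.gradedAt U hU U' hU' hle) (v.gradedAt U' hU' U'' hU'' hle') f
  refine (s1.trans s2).trans (Eq.trans ?_ s3.symm)
  rw [Category.assoc, ← Spec.map_comp_assoc, ← CommRingCat.ofHom_comp]
  rw [← s4]
  rfl

variable (hP' : RelProj.IsRelProj 𝒮' p' chart') (hP'' : RelProj.IsRelProj 𝒮'' p'' chart'')

include hrv hP' hP'' in
/-- Where the composite is defined, on an affine triple. -/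
theorem mem_iff (U : S.Opens) (hU : IsAffineOpen U) (U' : S'.Opens) (hU' : IsAffineOpen U') (hle : U' ≤ g ⁻¹ᵁ U)
    (U'' : S''.Opens) (hU'' : IsAffineOpen U'') (hle' : U'' ≤ g' ⁻¹ᵁ U')
    (x : ((RelProj.domQ v p'' chart'' : P''.Opens) : Scheme.{u})) (hx : x.1 ∈ p'' ⁻¹ᵁ U'') :
    rv.base x ∈ RelProj.domQ u p' chart' ↔ ∃ (d : ℕ) (_ : 0 < d) (f : 𝒮.presheaf.obj (op U)) (_ : f ∈ 𝒮.deg U hU d),
      x.1 ∈ std p'' chart'' U'' hU'' (gradedComp u v U hU U' hU' hle U'' hU'' hle' f) := by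
  have hx' : rv.base x ∈ p' ⁻¹ᵁ U' := by
    have h1 : x ∈ (RelProj.domQ v p'' chart'').ι ⁻¹ᵁ (p'' ⁻¹ᵁ (g' ⁻¹ᵁ U')) := hle' hx
    rw [← preimage_p v hP' hP'' hrv U'] at h1
    exact h1
  constructor
  · intro h
    obtain ⟨d, hd, f, hf, h2⟩ := exists_mem_std_of_mem_domQ u hP' U hU U' hU' hle _ h hx'
    refine ⟨d, hd, f, hf, ?_⟩
    have h3 : x ∈ rv ⁻¹ᵁ std p' chart' U' hU' (u.gradedAt U hU U' hU' hle f) ⊓
      (RelProj.domQ v p'' chart'').ι ⁻¹ᵁ (p'' ⁻¹ᵁ U'') := ⟨h2, hx⟩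
    rw [preimage_std_inf hrv hP'' U' hU' U'' hU'' hle' hd (u.gradedAt U hU U' hU' hle f)
      ((u.gradedAt U hU U' hU' hle).map_mem hf)] at h3
    exact h3
  · rintro ⟨d, hd, f, hf, h2⟩
    have h3 := apply_mem_std hrv U' hU' U'' hU'' hle' hd _ ((u.gradedAt U hU U' hU' hle).map_mem hf) x h2
    exact std_le_domQ u U hU U' hU' hle hd f hf h3

include hP'' in
/-- A point of `P''` over `U''` with `v(u(f))` not vanishing at it for some `f` lies in `G(v)`. -/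
theorem mem_domQ_of_mem (U : S.Opens) (hU : IsAffineOpen U) (U' : S'.Opens) (hU' : IsAffineOpen U') (hle : U' ≤ g ⁻¹ᵁ U)
    (U'' : S''.Opens) (hU'' : IsAffineOpen U'') (hle' : U'' ≤ g' ⁻¹ᵁ U') (x : P'')
    {d : ℕ} (hd : 0 < d) (f : 𝒮.presheaf.obj (op U)) (hf : f ∈ 𝒮.deg U hU d)
    (h : x ∈ std p'' chart'' U'' hU'' (gradedComp u v U hU U' hU' hle U'' hU'' hle' f)) :
    x ∈ RelProj.domQ v p'' chart'' :=
  std_le_domQ v U' hU' U'' hU'' hle' hd _ ((u.gradedAt U hU U' hU' hle).map_mem hf) h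

end two

section four

variable {S S' S₂ S'' : Scheme.{u}} {g : S' ⟶ S} {g' : S'' ⟶ S'} {h : S₂ ⟶ S} {h' : S'' ⟶ S₂}
  {𝒮 : RelProj.QCGrAlg S} {𝒮' : RelProj.QCGrAlg S'} {𝒮₂ : RelProj.QCGrAlg S₂}
  {𝒮'' : RelProj.QCGrAlg S''} {u : RelProj.QGrHom g 𝒮 𝒮'} {v : RelProj.QGrHom g' 𝒮' 𝒮''}
  {u₂ : RelProj.QGrHom h 𝒮 𝒮₂} {v₂ : RelProj.QGrHom h' 𝒮₂ 𝒮''}

variable (u v u₂ v₂) in
/-- The two composites agree on enough affine quadruples. -/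
def Agree : Prop := ∀ s : S'', ∃ (U : S.Opens) (hU : IsAffineOpen U) (U' : S'.Opens) (hU' : IsAffineOpen U')
  (hle : U' ≤ g ⁻¹ᵁ U) (U₂ : S₂.Opens) (hU₂ : IsAffineOpen U₂) (hle₂ : U₂ ≤ h ⁻¹ᵁ U) (U'' : S''.Opens)
  (hU'' : IsAffineOpen U'') (hle' : U'' ≤ g' ⁻¹ᵁ U') (hle₂' : U'' ≤ h' ⁻¹ᵁ U₂), s ∈ U'' ∧
    gradedComp u v U hU U' hU' hle U'' hU'' hle' = gradedComp u₂ v₂ U hU U₂ hU₂ hle₂ U'' hU'' hle₂'

variable {P : Scheme.{u}} {p : P ⟶ S}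
  {chart : ∀ (U : S.Opens) (hU : IsAffineOpen U), (((p ⁻¹ᵁ U : P.Opens) : Scheme.{u}) ≅ Proj (𝒮.deg U hU))}
  {P' : Scheme.{u}} {p' : P' ⟶ S'}
  {chart' : ∀ (U' : S'.Opens) (hU' : IsAffineOpen U'), (((p' ⁻¹ᵁ U' : P'.Opens) : Scheme.{u}) ≅ Proj (𝒮'.deg U' hU'))}
  {P₂ : Scheme.{u}} {p₂ : P₂ ⟶ S₂}
  {chart₂ : ∀ (U₂ : S₂.Opens) (hU₂ : IsAffineOpen U₂), (((p₂ ⁻¹ᵁ U₂ : P₂.Opens) : Scheme.{u}) ≅ Proj (𝒮₂.deg U₂ hU₂))}
  {P'' : Scheme.{u}} {p'' : P'' ⟶ S''}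
  {chart'' : ∀ (U'' : S''.Opens) (hU'' : IsAffineOpen U''),
    (((p'' ⁻¹ᵁ U'' : P''.Opens) : Scheme.{u}) ≅ Proj (𝒮''.deg U'' hU''))}
  {ru : ((RelProj.domQ u p' chart' : P'.Opens) : Scheme.{u}) ⟶ P}
  (hru : RelProj.IsProjQMapOn u p chart p' chart' (RelProj.domQ u p' chart') ru)
  {rv : ((RelProj.domQ v p'' chart'' : P''.Opens) : Scheme.{u}) ⟶ P'}
  (hrv : RelProj.IsProjQMapOn v p' chart' p'' chart'' (RelProj.domQ v p'' chart'') rv)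
  {ru₂ : ((RelProj.domQ u₂ p₂ chart₂ : P₂.Opens) : Scheme.{u}) ⟶ P}
  (hru₂ : RelProj.IsProjQMapOn u₂ p chart p₂ chart₂ (RelProj.domQ u₂ p₂ chart₂) ru₂)
  {rv₂ : ((RelProj.domQ v₂ p'' chart'' : P''.Opens) : Scheme.{u}) ⟶ P₂}
  (hrv₂ : RelProj.IsProjQMapOn v₂ p₂ chart₂ p'' chart'' (RelProj.domQ v₂ p'' chart'') rv₂)
  (hP' : RelProj.IsRelProj 𝒮' p' chart') (hP₂ : RelProj.IsRelProj 𝒮₂ p₂ chart₂)
  (hP'' : RelProj.IsRelProj 𝒮'' p'' chart'')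
  (H : Agree u v u₂ v₂)

include hrv hrv₂ hP' hP₂ hP'' H in
/-- The open where `Proj(u) ∘ Proj(v)` is defined depends only on the composite. -/
theorem image_preimage_eq : (RelProj.domQ v p'' chart'').ι ''ᵁ (rv ⁻¹ᵁ RelProj.domQ u p' chart') =
    (RelProj.domQ v₂ p'' chart'').ι ''ᵁ (rv₂ ⁻¹ᵁ RelProj.domQ u₂ p₂ chart₂) := by
  ext x
  constructor
  · rintro ⟨y, hy, rfl⟩
    obtain ⟨U, hU, U', hU', hle, U₂, hU₂, hle₂, U'', hU'', hle', hle₂', hs, e⟩ := H (p''.base y.1)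
    obtain ⟨d, hd, f, hf, hm⟩ := (mem_iff u v hrv hP' hP'' U hU U' hU' hle U'' hU'' hle' y hs).mp hy
    rw [e] at hm
    have hv₂ := mem_domQ_of_mem u₂ v₂ hP'' U hU U₂ hU₂ hle₂ U'' hU'' hle₂' y.1 hd f hf hm
    exact ⟨⟨y.1, hv₂⟩, (mem_iff u₂ v₂ hrv₂ hP₂ hP'' U hU U₂ hU₂ hle₂ U'' hU'' hle₂' ⟨y.1, hv₂⟩ hs).mpr
      ⟨d, hd, f, hf, hm⟩, rfl⟩
  · rintro ⟨y, hy, rfl⟩
    obtain ⟨U, hU, U', hU', hle, U₂, hU₂, hle₂, U'', hU'', hle', hle₂', hs, e⟩ := H (p''.base y.1)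
    obtain ⟨d, hd, f, hf, hm⟩ := (mem_iff u₂ v₂ hrv₂ hP₂ hP'' U hU U₂ hU₂ hle₂ U'' hU'' hle₂' y hs).mp hy
    rw [← e] at hm
    have hv := mem_domQ_of_mem u v hP'' U hU U' hU' hle U'' hU'' hle' y.1 hd f hf hm
    exact ⟨⟨y.1, hv⟩, (mem_iff u v hrv hP' hP'' U hU U' hU' hle U'' hU'' hle' ⟨y.1, hv⟩ hs).mpr
      ⟨d, hd, f, hf, hm⟩, rfl⟩

include hru hrv hru₂ hrv₂ hP' hP'' H in
/-- Two chains with the same composite agree on `T`-points. -/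
theorem comp_eq_comp {T : Scheme.{u}}
    (a : T ⟶ ((RelProj.domQ v p'' chart'' : P''.Opens) : Scheme.{u}))
    (b : T ⟶ ((RelProj.domQ u p' chart' : P'.Opens) : Scheme.{u}))
    (hab : a ≫ rv = b ≫ (RelProj.domQ u p' chart').ι)
    (a₂ : T ⟶ ((RelProj.domQ v₂ p'' chart'' : P''.Opens) : Scheme.{u}))
    (b₂ : T ⟶ ((RelProj.domQ u₂ p₂ chart₂ : P₂.Opens) : Scheme.{u}))
    (hab₂ : a₂ ≫ rv₂ = b₂ ≫ (RelProj.domQ u₂ p₂ chart₂).ι)
    (haa : a ≫ (RelProj.domQ v p'' chart'').ι = a₂ ≫ (RelProj.domQ v₂ p'' chart'').ι) :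
    b ≫ ru = b₂ ≫ ru₂ := by
  refine K40.GlueHom.hom_ext_local fun t => ?_
  obtain ⟨U, hU, U', hU', hle, U₂, hU₂, hle₂, U'', hU'', hle', hle₂', hs, e⟩ := H (p''.base (a.base t).1)
  have h1 : rv.base (a.base t) ∈ RelProj.domQ u p' chart' := by
    have h2 : (a ≫ rv).base t = (b ≫ (RelProj.domQ u p' chart').ι).base t := by rw [hab]
    have h3 : rv.base (a.base t) = (b.base t).1 := h2
    rw [h3]; exact (b.base t).2
  obtain ⟨d, hd, f, hf, hm⟩ := (mem_iff u v hrv hP' hP'' U hU U' hU' hle U'' hU'' hle' (a.base t) hs).mp h1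
  let O : T.Opens := (a ≫ (RelProj.domQ v p'' chart'').ι) ⁻¹ᵁ
    std p'' chart'' U'' hU'' (gradedComp u v U hU U' hU' hle U'' hU'' hle' f)
  refine ⟨O, O.ι, inferInstance, ⟨⟨t, hm⟩, rfl⟩, ?_⟩
  have hO : ∀ s : O, ((O.ι ≫ a) ≫ (RelProj.domQ v p'' chart'').ι).base s ∈
    std p'' chart'' U'' hU'' (gradedComp u v U hU U' hU' hle U'' hU'' hle' f) := fun s => s.2
  have hO₂ : ∀ s : O, ((O.ι ≫ a₂) ≫ (RelProj.domQ v₂ p'' chart'').ι).base s ∈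
    std p'' chart'' U'' hU'' (gradedComp u₂ v₂ U hU U₂ hU₂ hle₂ U'' hU'' hle₂' f) := by
    intro s
    rw [Category.assoc, ← haa, ← Category.assoc, ← e]; exact hO s
  rw [← Category.assoc, ← Category.assoc,
    comp_eq_toP u v hru hrv U hU U' hU' hle U'' hU'' hle' hd f hf (O.ι ≫ a) (O.ι ≫ b)
      (by rw [Category.assoc, hab, Category.assoc]) hO,
    comp_eq_toP u₂ v₂ hru₂ hrv₂ U hU U₂ hU₂ hle₂ U'' hU'' hle₂' hd f hf (O.ι ≫ a₂) (O.ι ≫ b₂)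
      (by rw [Category.assoc, hab₂, Category.assoc]) hO₂]
  exact toP_congr _ _ _ _ _ _ e _ _ _ _ _ (by rw [Category.assoc, haa, Category.assoc]) _ _

end four

end K41.ProjComp
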