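import Groth.Agent.EGA2.K41.RComp

/-!
# `r_{L,ψ}` everywhere defined and filtered colimits
-/

set_option autoImplicit false
set_option linter.unusedSectionVars false
universe u
open CategoryTheory CategoryTheory.Limits AlgebraicGeometry TopologicalSpace Opposite
open scoped HomogeneousIdeal

noncomputable section

namespace K41.RColim
open K41.LineAlg K41.LineRing K41.NV K41.PLine K41.RPhi K41.RComp K42.DomQ K42.DomMap

/-- Homogeneous lifts. -/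
theorem exists_homog_lift {Y : Scheme.{u}} {𝒮 𝒯 : RelProj.QCGrAlg Y} (v : 𝒯.toQCAlg ⟶ 𝒮.toQCAlg)
    (hv : RelProj.IsGradedHom v) {U : Y.Opens} (hU : IsAffineOpen U) {d : ℕ} {s : 𝒮.presheaf.obj (op U)}
    (hs : s ∈ 𝒮.deg U hU d) {y : 𝒯.presheaf.obj (op U)} (hy : (v.hom.app (op U)).hom y = s) :
    ∃ y' ∈ 𝒯.deg U hU d, (v.hom.app (op U)).hom y' = s := by
  classical
  refine ⟨_, SetLike.coe_mem (DirectSum.decompose (𝒯.deg U hU) y d), ?_⟩
  have h1 : RelProj.gradedHomAt v hv U hU (DirectSum.decompose (𝒯.deg U hU) y d : 𝒯.presheaf.obj (op U)) =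
      (DirectSum.decompose (𝒮.deg U hU) (RelProj.gradedHomAt v hv U hU y) d : 𝒮.presheaf.obj (op U)) := by
    rw [GradedRingHom.map_directSumDecompose]
  have h2 : RelProj.gradedHomAt v hv U hU y = s := hy
  rw [h2, DirectSum.decompose_of_mem_same _ hs] at h1
  exact h1

variable {X Y : Scheme.{u}} {q : X ⟶ Y} {𝒮 : RelProj.QCGrAlg Y} {ℬ : RelProj.QCGrAlg X}
  (u : RelProj.QGrHom q 𝒮 ℬ)
  {PL : Scheme.{u}} {pL : PL ⟶ X}
  {chartL : ∀ (U : X.Opens) (hU : IsAffineOpen U), (((pL ⁻¹ᵁ U : PL.Opens) : Scheme.{u}) ≅ Proj (ℬ.deg U hU))}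
  (hPL : RelProj.IsRelProj ℬ pL chartL) (hB : IsLineAlg ℬ)

include hPL hB in
/-- `G(ψ')` lies in `G(ψ)` when `ψ'` factors through `ψ`. -/
theorem domQ_mono {𝒯 : RelProj.QCGrAlg Y} (v : 𝒯.toQCAlg ⟶ 𝒮.toQCAlg) (hv : RelProj.IsGradedHom v)
    (u' : RelProj.QGrHom q 𝒯 ℬ) (hu' : ∀ U : Y.Opens, u'.app U = v.hom.app (op U) ≫ u.app U) :
    RelProj.domQ u' pL chartL ≤ RelProj.domQ u pL chartL := by
  intro x hx
  obtain ⟨U, hU, hxU, -⟩ := exists_isAffineOpen_mem_and_subset (x := q.base (pL.base x)) (U := ⊤) trivial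
  obtain ⟨d, hd, s, hs, h⟩ := (mem_domQ_iff u' hPL hB hU hxU).mp hx
  refine (mem_domQ_iff u hPL hB hU hxU).mpr ⟨d, hd, _, hv U hU _ _ hs, ?_⟩
  rw [← nvs_comp u v u' hu']; exact h

variable {Λ : Type u} [Preorder Λ] [IsDirected Λ (· ≤ ·)] [Nonempty Λ]
    {𝒮i : Λ → RelProj.QCGrAlg Y} (φ : ∀ i, (𝒮i i).toQCAlg ⟶ 𝒮.toQCAlg) (hφ : ∀ i, RelProj.IsGradedHom (φ i))
    (t : ∀ i j, i ≤ j → ((𝒮i i).toQCAlg ⟶ (𝒮i j).toQCAlg)) (ht : ∀ i j (h : i ≤ j), RelProj.IsGradedHom (t i j h))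
    (hφt : ∀ i j (h : i ≤ j), t i j h ≫ φ j = φ i)
    (hsurj : ∀ (U : Y.Opens), IsAffineOpen U → ∀ x : 𝒮.presheaf.obj (op U),
      ∃ (i : Λ) (y : (𝒮i i).presheaf.obj (op U)), ((φ i).hom.app (op U)).hom y = x)
    (ui : ∀ i, RelProj.QGrHom q (𝒮i i) ℬ) (hui : ∀ i (U : Y.Opens), (ui i).app U = (φ i).hom.app (op U) ≫ u.app U)

include hφt hui in
theorem ui_comp (i j : Λ) (h : i ≤ j) (U : Y.Opens) :
    (ui i).app U = (t i j h).hom.app (op U) ≫ (ui j).app U := by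
  rw [hui, hui, ← hφt i j h]
  exact Category.assoc _ _ _

include hPL hB hφ ht hφt hsurj hui in
theorem exists_of_top [CompactSpace X] (h : RelProj.domQ u pL chartL = ⊤) : ∃ i, RelProj.domQ (ui i) pL chartL = ⊤ := by
  classical
  have hiso := isIso_p hPL hB
  have H : ∀ x : X, ∃ (U : Y.Opens) (hU : IsAffineOpen U) (d : ℕ) (_ : 0 < d) (i : Λ)
      (y : (𝒮i i).presheaf.obj (op U)) (_ : y ∈ (𝒮i i).deg U hU d),
      x ∈ nvs u U (((φ i).hom.app (op U)).hom y) d := by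
    intro x
    obtain ⟨y, rfl⟩ : ∃ y, pL.base y = x := pL.homeomorph.surjective x
    obtain ⟨U, hU, hxU, -⟩ := exists_isAffineOpen_mem_and_subset (x := q.base (pL.base y)) (U := ⊤) trivial
    obtain ⟨d, hd, s, hs, h⟩ := (mem_domQ_iff u hPL hB hU hxU).mp (h.ge (show y ∈ (⊤ : PL.Opens) from trivial))
    obtain ⟨i, z, hz⟩ := hsurj U hU s
    obtain ⟨z', hz', e⟩ := exists_homog_lift (φ i) (hφ i) hU hs hz
    exact ⟨U, hU, d, hd, i, z', hz', by rw [e]; exact h⟩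
  choose U hU d hd i y hy hx using H
  obtain ⟨F, hF⟩ := isCompact_univ.elim_finite_subcover
    (fun x : X => ((nvs u (U x) (((φ (i x)).hom.app (op (U x))).hom (y x)) (d x) : X.Opens) : Set X))
    (fun x => Opens.isOpen _) (fun x _ => Set.mem_iUnion.mpr ⟨x, hx x⟩)
  obtain ⟨M, hM⟩ := (F.image i).exists_le
  refine ⟨M, top_le_iff.mp fun z _ => ?_⟩
  obtain ⟨x, hx'⟩ := Set.mem_iUnion.mp (hF (Set.mem_univ (pL.base z)))
  obtain ⟨hxF, hzx⟩ := Set.mem_iUnion.mp hx'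
  have hle : i x ≤ M := hM _ (Finset.mem_image_of_mem i hxF)
  refine preimage_nvs_le (ui M) hPL hB (hU x) (hd x) (ht _ _ hle _ (hU x) _ _ (hy x)) ?_
  rw [Scheme.Hom.mem_preimage]
  have e1 := nvs_comp (ui M) (t _ _ hle) (ui (i x)) (ui_comp u φ t hφt ui hui _ _ hle) (U x) (y x) (d x)
  have e2 := nvs_comp u (φ (i x)) (ui (i x)) (hui (i x)) (U x) (y x) (d x)
  rw [← e1, e2]
  exact hzx

end K41.RColim
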