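import Groth.Agent.EGA2.K41.RFin

/-!
# `r_{L,ψ}` an immersion and filtered colimits
-/

set_option autoImplicit false
set_option linter.unusedSectionVars false
universe u
open CategoryTheory CategoryTheory.Limits AlgebraicGeometry TopologicalSpace Opposite
open scoped HomogeneousIdeal

noncomputable section

namespace K41.RColim2
open K41.LineAlg K41.LineRing K41.NV K41.PLine K41.RPhi K41.RComp K41.RImm K41.RColim K41.RFin K42.DomQ K42.DomMap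

variable {X Y : Scheme.{u}} {q : X ⟶ Y} {𝒮 : RelProj.QCGrAlg Y} {ℬ : RelProj.QCGrAlg X}
  (u : RelProj.QGrHom q 𝒮 ℬ)

/-- A finite affine cover of a quasi-compact scheme. -/
theorem exists_finite_affine_cover (Y : Scheme.{u}) [CompactSpace Y] :
    ∃ F : Set Y.Opens, F.Finite ∧ (∀ U ∈ F, IsAffineOpen U) ∧ ∀ y : Y, ∃ U ∈ F, y ∈ U := by
  classical
  have h : ∀ y : Y, ∃ (U : Y.Opens) (_ : IsAffineOpen U), y ∈ U := fun y => by
    obtain ⟨U, hU, hy, -⟩ := exists_isAffineOpen_mem_and_subset (x := y) (U := ⊤) trivial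
    exact ⟨U, hU, hy⟩
  choose U hU hy using h
  obtain ⟨F, hF⟩ := isCompact_univ.elim_finite_subcover (fun y : Y => ((U y : Y.Opens) : Set Y))
    (fun y => Opens.isOpen _) (fun y _ => Set.mem_iUnion.mpr ⟨y, hy y⟩)
  refine ⟨U '' (F : Set Y), F.finite_toSet.image _, ?_, fun y => ?_⟩
  · rintro _ ⟨y, -, rfl⟩; exact hU y
  · obtain ⟨x, hx⟩ := Set.mem_iUnion.mp (hF (Set.mem_univ y))
    obtain ⟨hxF, hyx⟩ := Set.mem_iUnion.mp hx
    exact ⟨U x, ⟨x, hxF, rfl⟩, hyx⟩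

variable {P : Scheme.{u}} {p : P ⟶ Y}
  {chart : ∀ (U : Y.Opens) (hU : IsAffineOpen U), (((p ⁻¹ᵁ U : P.Opens) : Scheme.{u}) ≅ Proj (𝒮.deg U hU))}
  (hP : RelProj.IsRelProj 𝒮 p chart)
  {PL : Scheme.{u}} {pL : PL ⟶ X}
  {chartL : ∀ (U : X.Opens) (hU : IsAffineOpen U), (((pL ⁻¹ᵁ U : PL.Opens) : Scheme.{u}) ≅ Proj (ℬ.deg U hU))}
  (hPL : RelProj.IsRelProj ℬ pL chartL) (hB : IsLineAlg ℬ)
  {r : ((RelProj.domQ u pL chartL : PL.Opens) : Scheme.{u}) ⟶ P}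
  (hr : RelProj.IsProjQMapOn u p chart pL chartL (RelProj.domQ u pL chartL) r)

variable {Λ : Type u} [Preorder Λ] [IsDirected Λ (· ≤ ·)] [Nonempty Λ]
    {𝒮i : Λ → RelProj.QCGrAlg Y} (φ : ∀ i, (𝒮i i).toQCAlg ⟶ 𝒮.toQCAlg) (hφ : ∀ i, RelProj.IsGradedHom (φ i))
    (t : ∀ i j, i ≤ j → ((𝒮i i).toQCAlg ⟶ (𝒮i j).toQCAlg)) (ht : ∀ i j (h : i ≤ j), RelProj.IsGradedHom (t i j h))
    (hφt : ∀ i j (h : i ≤ j), t i j h ≫ φ j = φ i)
    (hsurj : ∀ (U : Y.Opens), IsAffineOpen U → ∀ x : 𝒮.presheaf.obj (op U),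
      ∃ (i : Λ) (y : (𝒮i i).presheaf.obj (op U)), ((φ i).hom.app (op U)).hom y = x)
    (ui : ∀ i, RelProj.QGrHom q (𝒮i i) ℬ) (hui : ∀ i (U : Y.Opens), (ui i).app U = (φ i).hom.app (op U) ≫ u.app U)

include hφ ht hφt hsurj in
/-- A finite set of homogeneous elements lifts to all large stages. -/
theorem exists_index {U : Y.Opens} (hU : IsAffineOpen U) (G : Set (ℕ × 𝒮.presheaf.obj (op U))) (hG : G.Finite)
    (hG' : ∀ g ∈ G, g.2 ∈ 𝒮.deg U hU g.1) :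
    ∃ i, ∀ j, i ≤ j → ∀ g ∈ G, ∃ y ∈ (𝒮i j).deg U hU g.1, ((φ j).hom.app (op U)).hom y = g.2 := by
  classical
  have h1 : ∀ g : G, ∃ i, ∀ j, i ≤ j → ∃ y ∈ (𝒮i j).deg U hU g.1.1, ((φ j).hom.app (op U)).hom y = g.1.2 := by
    intro g
    obtain ⟨i, y, hy⟩ := hsurj U hU g.1.2
    obtain ⟨y', hy', e⟩ := exists_homog_lift (φ i) (hφ i) hU (hG' _ g.2) hy
    refine ⟨i, fun j hij => ⟨((t i j hij).hom.app (op U)).hom y', ht i j hij U hU _ _ hy', ?_⟩⟩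
    rw [← e, ← hφt i j hij]; rfl
  choose I hI using h1
  have := hG.fintype
  obtain ⟨M, hM⟩ := (Finset.univ.image I).exists_le
  exact ⟨M, fun j hj g hg => hI ⟨g, hg⟩ j ((hM _ (Finset.mem_image_of_mem I (Finset.mem_univ _))).trans hj)⟩

include hP hPL hB hr hφ ht hφt hsurj hui in
/-- Descent of immersion families to a finite stage. -/
theorem exists_fam_stage [CompactSpace Y] [QuasiCompact q] [LocallyOfFiniteType q]
    (htop : RelProj.domQ u pL chartL = ⊤) (himm : IsImmersion r) :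
    ∃ i, ∀ y : Y, ∃ (U : Y.Opens) (hU : IsAffineOpen U) (ι : Type u) (n : ι → ℕ)
      (s : ι → (𝒮i i).presheaf.obj (op U)), y ∈ U ∧ Fam (ui i) U hU n s := by
  classical
  obtain ⟨F, hF, hFa, hFc⟩ := exists_finite_affine_cover Y
  have h1 : ∀ U : F, ∃ i, ∀ j, i ≤ j → ∃ (ι : Type u) (n : ι → ℕ)
      (s : ι → (𝒮i j).presheaf.obj (op U.1)), Fam (ui j) U.1 (hFa _ U.2) n s := by
    intro U
    obtain ⟨ι, n, s, hs⟩ := exists_fam_imm u hP hPL hB hr htop himm U.1 (hFa _ U.2)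
    obtain ⟨F', hF'⟩ := exists_finite_sub u hs
    obtain ⟨G, hGf, hG, hG'⟩ := exists_finite_data u hF'
    obtain ⟨i, hi⟩ := exists_index φ hφ t ht hφt hsurj (hFa _ U.2) G hGf hG
    refine ⟨i, fun j hij => ?_⟩
    obtain ⟨s', -, hs'⟩ := hG' (𝒮i j) (φ j) (hφ j) (ui j) (hui j) (hi j hij)
    exact ⟨_, _, s', hs'⟩
  choose I hI using h1
  have := hF.fintype
  obtain ⟨M, hM⟩ := (Finset.univ.image I).exists_le
  refine ⟨M, fun y => ?_⟩
  obtain ⟨U, hU, hy⟩ := hFc y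
  obtain ⟨ι, n, s, h⟩ := hI ⟨U, hU⟩ M (hM _ (Finset.mem_image_of_mem I (Finset.mem_univ _)))
  exact ⟨U, hFa _ hU, ι, n, s, hy, h⟩

end K41.RColim2
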