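import Groth.Agent.EGA2.K41.RImm

/-!
# Families and composition with a graded homomorphism `v : 𝒯 ⟶ 𝒮`
-/

set_option autoImplicit false
set_option linter.unusedSectionVars false
universe u
open CategoryTheory CategoryTheory.Limits AlgebraicGeometry TopologicalSpace Opposite
open scoped HomogeneousIdeal

noncomputable section

namespace K41.RComp
open K41.LineAlg K41.LineRing K41.NV K41.PLine K41.RPhi K41.RImm K42.DomQ K42.DomMap

section ring

variable {A B : Type u} [CommRing A] [CommRing B] {σ τ : Type u} [SetLike σ A] [AddSubgroupClass σ A]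
  [SetLike τ B] [AddSubgroupClass τ B] {𝒜 : ℕ → σ} {ℬ : ℕ → τ} [GradedRing 𝒜] [GradedRing ℬ] (f : 𝒜 →+*ᵍ ℬ)

/-- If `f` is surjective in large degrees, the image of a family of elements whose `D₊` cover is such a family. -/
theorem iSup_basicOpen_map {N : ℕ} (hf : ∀ k, N ≤ k → ∀ y ∈ ℬ k, ∃ x ∈ 𝒜 k, f x = y) {ι : Type*} (t : ι → A)
    (h : (⨆ a, Proj.basicOpen 𝒜 (t a)) = ⊤) : (⨆ a, Proj.basicOpen ℬ (f (t a))) = ⊤ := by
  refine top_le_iff.mp fun z _ => ?_
  let w : Proj 𝒜 := ⟨z.asHomogeneousIdeal.comap f, z.isPrime.comap f, fun hle => by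
    obtain ⟨d, hd, g, hg, hz⟩ := K42.DomQ.exists_notMem z
    have hk : N ≤ (N + 1) * d := by nlinarith
    obtain ⟨x, hx, hxg⟩ := hf _ hk (g ^ (N + 1)) (by simpa using SetLike.pow_mem_graded (N + 1) hg)
    have h1 : x ∈ z.asHomogeneousIdeal.comap f := hle (HomogeneousIdeal.mem_irrelevant_of_mem _ (by positivity) hx)
    have h2 : f x ∈ z.asHomogeneousIdeal := h1
    rw [hxg] at h2
    exact hz (z.isPrime.mem_of_pow_mem _ h2)⟩
  obtain ⟨a, ha⟩ := Opens.mem_iSup.mp (h.ge (show w ∈ (⊤ : (Proj 𝒜).Opens) from trivial))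
  exact Opens.mem_iSup.mpr ⟨a, fun h => ha h⟩

end ring

variable {X Y : Scheme.{u}} {q : X ⟶ Y} {𝒮 𝒯 : RelProj.QCGrAlg Y} {ℬ : RelProj.QCGrAlg X}
  (u : RelProj.QGrHom q 𝒮 ℬ) (v : 𝒯.toQCAlg ⟶ 𝒮.toQCAlg) (hv : RelProj.IsGradedHom v)
  (u' : RelProj.QGrHom q 𝒯 ℬ) (hu' : ∀ U : Y.Opens, u'.app U = v.hom.app (op U) ≫ u.app U)

include hu' in
theorem us_comp (U : Y.Opens) (t : 𝒯.presheaf.obj (op U)) : us u' U t = us u U ((v.hom.app (op U)).hom t) := by
  rw [us, hu']; rfl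

include hu' in
theorem nvs_comp (U : Y.Opens) (t : 𝒯.presheaf.obj (op U)) (d : ℕ) :
    nvs u' U t d = nvs u U ((v.hom.app (op U)).hom t) d := by
  rw [nvs, nvs, us_comp u v u' hu']

include hu' in
theorem appLE_comp (U : Y.Opens) (V : X.Opens) (h : V ≤ q ⁻¹ᵁ U) (t : 𝒯.presheaf.obj (op U)) :
    (u'.appLE U V h).hom t = (u.appLE U V h).hom ((v.hom.app (op U)).hom t) := by
  rw [RelSpec.QHom.appLE, RelSpec.QHom.appLE, hu']; rfl

variable {U : Y.Opens} {hU : IsAffineOpen U} {ι : Type*} {n : ι → ℕ} {t : ι → 𝒯.presheaf.obj (op U)}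

include hv hu' in
/-- The image of a family for `u'` is a family for `u`. -/
theorem fam_comp (h : Fam u' U hU n t) : Fam u U hU n (fun a => (v.hom.app (op U)).hom (t a)) := by
  have key : ∀ (d : ℕ) (x : 𝒯.presheaf.obj (op U)) (W : X.Opens) (hW : W = nvs u' U x d)
    (f : Γ(X, W)), (∃ (m : ℕ) (_ : 0 < m) (s' : 𝒯.presheaf.obj (op U)) (_ : s' ∈ 𝒯.deg U hU (m * d)),
      (ℬ.str.app (op W)).hom f * ((u'.appLE U W (hW.le.trans (nvs_le u' U x d))).hom x) ^ m =
        (u'.appLE U W (hW.le.trans (nvs_le u' U x d))).hom s') →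
    ∃ (m : ℕ) (_ : 0 < m) (s' : 𝒮.presheaf.obj (op U)) (_ : s' ∈ 𝒮.deg U hU (m * d)),
      (ℬ.str.app (op W)).hom f * ((u.appLE U W (hW.le.trans (nvs_le u' U x d))).hom
        ((v.hom.app (op U)).hom x)) ^ m = (u.appLE U W (hW.le.trans (nvs_le u' U x d))).hom s' := by
    rintro d x W rfl f ⟨m, hm, s', hs', e⟩
    refine ⟨m, hm, (v.hom.app (op U)).hom s', hv U hU _ _ hs', ?_⟩
    rw [← appLE_comp u v u' hu', ← appLE_comp u v u' hu', e]
  refine ⟨h.pos, fun a => hv U hU _ _ (h.mem a), fun x hx => ?_, fun a => ?_, fun a f => ?_⟩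
  · obtain ⟨a, ha⟩ := h.cov x hx
    exact ⟨a, by rw [← nvs_comp u v u' hu']; exact ha⟩
  · rw [← nvs_comp u v u' hu']; exact h.aff a
  · have hW := (nvs_comp u v u' hu' U (t a) (n a)).symm
    refine key (n a) (t a) _ hW f ?_
    clear key
    have key : ∀ (W : X.Opens) (hW : W = nvs u' U (t a) (n a)) (f : Γ(X, W)),
        ∃ (m : ℕ) (_ : 0 < m) (s' : 𝒯.presheaf.obj (op U)) (_ : s' ∈ 𝒯.deg U hU (m * n a)),
      (ℬ.str.app (op W)).hom f * ((u'.appLE U W (hW.le.trans (nvs_le u' U (t a) (n a)))).hom (t a)) ^ m =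
        (u'.appLE U W (hW.le.trans (nvs_le u' U (t a) (n a)))).hom s' := by
      rintro W rfl f
      exact h.surj a f
    exact key _ hW f

include hu' hv in
/-- The kernel condition is inherited when `v` is (TN)-surjective. -/
theorem famInj_comp (hF : Fam u' U hU n t) (h : FamInj u' U hU n t) {N : ℕ}
    (hTN : ∀ k, N ≤ k → ∀ y ∈ 𝒮.deg U hU k, ∃ x ∈ 𝒯.deg U hU k, (v.hom.app (op U)).hom x = y) :
    FamInj u U hU n (fun a => (v.hom.app (op U)).hom (t a)) := by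
  intro a m hm s' hs' h0
  have hmem : ((v.hom.app (op U)).hom (t a)) ^ N * s' ∈ 𝒮.deg U hU ((N + m) * n a) := by
    have h1 := SetLike.mul_mem_graded (SetLike.pow_mem_graded N (hv U hU _ _ (hF.mem a))) hs'
    rwa [show N • n a + m * n a = (N + m) * n a by simp only [smul_eq_mul]; ring] at h1
  have hpos := hF.pos a
  obtain ⟨x, hx, hxs⟩ := hTN _ (by nlinarith) _ hmem
  have h2 : ∀ (W : X.Opens) (h' : W ≤ q ⁻¹ᵁ U) (_ : (u.appLE U W h').hom s' = 0), (u'.appLE U W h').hom x = 0 := by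
    intro W h' hz
    rw [appLE_comp u v u' hu', hxs, map_mul, hz, mul_zero]
  have h3 : (u'.appLE U _ (nvs_le u' U (t a) (n a))).hom x = 0 := by
    refine h2 _ _ ?_
    have h4 : ∀ (W : X.Opens) (h' : W ≤ q ⁻¹ᵁ U) (_ : W = nvs u U ((v.hom.app (op U)).hom (t a)) (n a)),
      (u.appLE U W h').hom s' = 0 := by
      rintro W h' rfl; exact h0
    exact h4 _ _ (nvs_comp u v u' hu' U (t a) (n a))
  obtain ⟨k, hk, e⟩ := h a (N + m) (by omega) x hx h3
  refine ⟨k + N, by omega, ?_⟩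
  have h5 := congrArg (v.hom.app (op U)).hom e
  rw [map_mul, map_pow, map_zero, hxs] at h5
  rw [pow_add, mul_assoc]; exact h5

end K41.RComp
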