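import Groth.Agent.EGA2.K41.RKappa2

/-!
# Generic lemmas: morphisms given over a family of opens of the target; morphisms to affine schemes
-/

set_option autoImplicit false
set_option linter.unusedSectionVars false
universe u
open CategoryTheory CategoryTheory.Limits AlgebraicGeometry TopologicalSpace Opposite

noncomputable section

namespace K41.RCrit
open K41.RKappa K42.DomMap

/-- If `Q` holds over a family of opens of the target containing the image, then the morphism factors through an open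
immersion with `Q` for the first factor. -/
theorem exists_factor {Q : MorphismProperty Scheme.{u}} [IsZariskiLocalAtTarget Q] {X Y : Scheme.{u}} (f : X ⟶ Y)
    (H : ∀ x : X, ∃ (V W : Scheme.{u}) (k : W ⟶ V) (iW : W ⟶ X) (iV : V ⟶ Y),
      IsOpenImmersion iV ∧ f.base x ∈ Set.range iV.base ∧ IsPullback k iW iV f ∧ Q k) :
    ∃ (O : Y.Opens) (g : X ⟶ O), g ≫ O.ι = f ∧ Q g := by
  choose V W k iW iV h1 h2 h3 h4 using H
  let O : Y.Opens := ⨆ x, (iV x).opensRange
  have hO : Set.range f.base ⊆ Set.range O.ι.base := by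
    rw [Scheme.Opens.range_ι]
    rintro _ ⟨x, rfl⟩
    exact Opens.mem_iSup.mpr ⟨x, h2 x⟩
  have hO' : ∀ x, Set.range (iV x).base ⊆ Set.range O.ι.base := by
    intro x
    rw [Scheme.Opens.range_ι]
    exact fun y hy => Opens.mem_iSup.mpr ⟨x, hy⟩
  refine ⟨O, IsOpenImmersion.lift O.ι f hO, IsOpenImmersion.lift_fac _ _ _, ?_⟩
  refine of_forall_isPullback _ fun y => ?_
  obtain ⟨x, hx⟩ := Opens.mem_iSup.mp y.2
  refine ⟨V x, W x, k x, iW x, IsOpenImmersion.lift O.ι (iV x) (hO' x), ?_, ?_, ?_, h4 x⟩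
  · have : IsOpenImmersion (IsOpenImmersion.lift O.ι (iV x) (hO' x) ≫ O.ι) := by
      rw [IsOpenImmersion.lift_fac]; infer_instance
    exact IsOpenImmersion.of_comp _ O.ι
  · obtain ⟨v, hv⟩ := hx
    refine ⟨v, O.ι.isOpenEmbedding.injective ?_⟩
    change (IsOpenImmersion.lift O.ι (iV x) (hO' x) ≫ O.ι).base v = _
    rw [IsOpenImmersion.lift_fac]; exact hv
  · have h5 := h3 x
    refine ⟨⟨?_⟩, ⟨PullbackCone.IsLimit.mk _ (fun s => h5.lift s.fst s.snd ?_) ?_ ?_ ?_⟩⟩
    · rw [← cancel_mono O.ι, Category.assoc, Category.assoc, IsOpenImmersion.lift_fac, IsOpenImmersion.lift_fac]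
      exact h5.w
    · have := s.condition
      rw [← cancel_mono O.ι, Category.assoc, Category.assoc, IsOpenImmersion.lift_fac, IsOpenImmersion.lift_fac] at this
      exact this
    · intro s; exact h5.lift_fst _ _ _
    · intro s; exact h5.lift_snd _ _ _
    · intro s m hm1 hm2
      refine h5.hom_ext ?_ ?_
      · rw [hm1, h5.lift_fst]
      · rw [hm2, h5.lift_snd]

section affine

variable {X : Scheme.{u}} {W : X.Opens} {R : Type u} [CommRing R] (κ : R →+* Γ(X, W))

theorem isIso_toSpecΓ (hW : IsAffineOpen W) : IsIso W.toSpecΓ := by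
  rw [← hW.isoSpec_hom]; infer_instance

theorem isAffineOpen_of_isAffineHom (k : (W : Scheme.{u}) ⟶ Spec (CommRingCat.of R)) [IsAffineHom k] :
    IsAffineOpen W := by
  have : IsAffine (W : Scheme.{u}) := isAffine_of_isAffineHom k
  exact this

theorem isClosedImmersion_iff :
    IsClosedImmersion (W.toSpecΓ ≫ Spec.map (CommRingCat.ofHom κ)) ↔ IsAffineOpen W ∧ Function.Surjective κ := by
  constructor
  · intro h
    have hW : IsAffineOpen W := isAffineOpen_of_isAffineHom (W.toSpecΓ ≫ Spec.map (CommRingCat.ofHom κ))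
    refine ⟨hW, ?_⟩
    have h1 := isIso_toSpecΓ hW
    have h2 : IsClosedImmersion (Spec.map (CommRingCat.ofHom κ)) :=
      (MorphismProperty.cancel_left_of_respectsIso @IsClosedImmersion W.toSpecΓ _).mp h
    have h4 := Scheme.Hom.app_surjective (Spec.map (CommRingCat.ofHom κ)) ⊤ (isAffineOpen_top _)
    intro y
    obtain ⟨z, hz⟩ := h4 ((Scheme.ΓSpecIso (CommRingCat.of Γ(X, W))).inv.hom y)
    refine ⟨(Scheme.ΓSpecIso (CommRingCat.of R)).hom.hom z, ?_⟩
    have h5 := ConcreteCategory.congr_hom (Scheme.ΓSpecIso_naturality (CommRingCat.ofHom κ)) z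
    have h6 : (Scheme.ΓSpecIso (CommRingCat.of Γ(X, W))).hom.hom ((Spec.map (CommRingCat.ofHom κ)).appTop.hom z) = y := by
      have h7 : (Spec.map (CommRingCat.ofHom κ)).appTop.hom z = (Scheme.ΓSpecIso (CommRingCat.of Γ(X, W))).inv.hom y := hz
      rw [h7]
      exact ConcreteCategory.congr_hom (Scheme.ΓSpecIso (CommRingCat.of Γ(X, W))).inv_hom_id y
    exact h5.symm.trans h6
  · rintro ⟨hW, hs⟩
    have h1 := isIso_toSpecΓ hW
    have h2 : IsClosedImmersion (Spec.map (CommRingCat.ofHom κ)) := IsClosedImmersion.spec_of_surjective _ hs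
    infer_instance

theorem isIso_iff :
    IsIso (W.toSpecΓ ≫ Spec.map (CommRingCat.ofHom κ)) ↔ IsAffineOpen W ∧ Function.Bijective κ := by
  constructor
  · intro h
    have hW : IsAffineOpen W := isAffineOpen_of_isAffineHom (W.toSpecΓ ≫ Spec.map (CommRingCat.ofHom κ))
    refine ⟨hW, ?_⟩
    have h1 := isIso_toSpecΓ hW
    have h2 : IsIso (Spec.map (CommRingCat.ofHom κ)) := IsIso.of_isIso_comp_left W.toSpecΓ _
    have h3 : IsIso (CommRingCat.ofHom κ) := by
      have : IsIso (Scheme.Spec.map (CommRingCat.ofHom κ).op) := h2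
      have h4 : IsIso (CommRingCat.ofHom κ).op := isIso_of_reflects_iso _ Scheme.Spec
      exact (isIso_op_iff _).mp h4
    exact (ConcreteCategory.isIso_iff_bijective (CommRingCat.ofHom κ)).mp h3
  · rintro ⟨hW, hs⟩
    have h1 := isIso_toSpecΓ hW
    have h2 : IsIso (CommRingCat.ofHom κ) := (ConcreteCategory.isIso_iff_bijective (CommRingCat.ofHom κ)).mpr hs
    infer_instance

end affine

end K41.RCrit
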