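import Groth.Agent.EGA2.K41.RColim
import Mathlib.AlgebraicGeometry.Morphisms.FiniteType

/-!
# Immersion families and finiteness

* `ratSub`: the subring of functions `f` on `W` with `f u(t)^m = u(s')`.
* `Fam.finite`: a finite subfamily suffices when `q` is quasi-compact.
* `exists_finite_data`: when `q` is locally of finite type, a finite family lifts along `v : 𝒯 ⟶ 𝒮` as soon as finitely
  many homogeneous elements lift.
-/

set_option autoImplicit false
set_option linter.unusedSectionVars false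
universe u
open CategoryTheory CategoryTheory.Limits AlgebraicGeometry TopologicalSpace Opposite
open scoped HomogeneousIdeal

noncomputable section

namespace K41.RFin
open K41.LineAlg K41.LineRing K41.NV K41.PLine K41.RPhi K41.RComp K41.RImm K41.RColim K42.DomQ K42.DomMap

/-- A generating finite set for a ring homomorphism of finite type. -/
theorem exists_finset_of_finiteType {R A : Type*} [CommRing R] [CommRing A] {φ : R →+* A} (hφ : φ.FiniteType) :
    ∃ T : Finset A, ∀ S : Subring A, (∀ r, φ r ∈ S) → (∀ t ∈ T, t ∈ S) → S = ⊤ := by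
  algebraize [φ]
  obtain ⟨T, hT⟩ := (‹Algebra.FiniteType R A›).out
  refine ⟨T, fun S h1 h2 => ?_⟩
  let S' : Subalgebra R A := { S with algebraMap_mem' := h1 }
  have h3 : Algebra.adjoin R (T : Set A) ≤ S' := Algebra.adjoin_le h2
  rw [hT] at h3
  exact top_le_iff.mp fun x _ => h3 (Algebra.mem_top : x ∈ (⊤ : Subalgebra R A))

variable {X Y : Scheme.{u}} {q : X ⟶ Y} {𝒮 : RelProj.QCGrAlg Y} {ℬ : RelProj.QCGrAlg X}
  (u : RelProj.QGrHom q 𝒮 ℬ)

/-- The subring of functions on `W` of the form `u(s') / u(t)^m`. -/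
def ratSub {U : Y.Opens} (hU : IsAffineOpen U) (W : X.Opens) (hW : W ≤ q ⁻¹ᵁ U) {n : ℕ} {t : 𝒮.presheaf.obj (op U)}
    (ht : t ∈ 𝒮.deg U hU n) : Subring Γ(X, W) where
  carrier := {f | ∃ (m : ℕ) (s' : 𝒮.presheaf.obj (op U)) (_ : s' ∈ 𝒮.deg U hU (m * n)),
    (ℬ.str.app (op W)).hom f * ((u.appLE U W hW).hom t) ^ m = (u.appLE U W hW).hom s'}
  mul_mem' := by
    rintro f g ⟨m, s, hs, e⟩ ⟨m', s', hs', e'⟩
    refine ⟨m + m', s * s', ?_, ?_⟩
    · rw [add_mul]; exact SetLike.mul_mem_graded hs hs'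
    · rw [map_mul, map_mul, ← e, ← e', pow_add]; ring
  one_mem' := ⟨0, 1, by rw [zero_mul]; exact SetLike.one_mem_graded _, by rw [pow_zero, mul_one, map_one, map_one]⟩
  add_mem' := by
    rintro f g ⟨m, s, hs, e⟩ ⟨m', s', hs', e'⟩
    refine ⟨m + m', s * t ^ m' + s' * t ^ m, add_mem ?_ ?_, ?_⟩
    · rw [add_mul]
      exact SetLike.mul_mem_graded hs (by simpa using SetLike.pow_mem_graded m' ht)
    · rw [add_mul, add_comm (m * n)]
      exact SetLike.mul_mem_graded hs' (by simpa using SetLike.pow_mem_graded m ht)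
    · rw [map_add, map_add, map_mul, map_mul, map_pow, map_pow, ← e, ← e', pow_add]; ring
  zero_mem' := ⟨0, 0, zero_mem _, by rw [map_zero, map_zero, zero_mul]⟩
  neg_mem' := by
    rintro f ⟨m, s, hs, e⟩
    exact ⟨m, -s, neg_mem hs, by rw [map_neg, map_neg, neg_mul, e]⟩

theorem mem_ratSub_iff {U : Y.Opens} (hU : IsAffineOpen U) (W : X.Opens) (hW : W ≤ q ⁻¹ᵁ U) {n : ℕ}
    {t : 𝒮.presheaf.obj (op U)} (ht : t ∈ 𝒮.deg U hU n) (f : Γ(X, W)) : f ∈ ratSub u hU W hW ht ↔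
    ∃ (m : ℕ) (_ : 0 < m) (s' : 𝒮.presheaf.obj (op U)) (_ : s' ∈ 𝒮.deg U hU (m * n)),
      (ℬ.str.app (op W)).hom f * ((u.appLE U W hW).hom t) ^ m = (u.appLE U W hW).hom s' := by
  constructor
  · rintro ⟨m, s, hs, e⟩
    refine ⟨m + 1, Nat.succ_pos m, s * t, ?_, ?_⟩
    · rw [add_mul, one_mul]; exact SetLike.mul_mem_graded hs ht
    · rw [map_mul, ← e, pow_succ, mul_assoc]
  · rintro ⟨m, -, s, hs, e⟩; exact ⟨m, s, hs, e⟩

theorem app_mem_ratSub {U : Y.Opens} (hU : IsAffineOpen U) (W : X.Opens) (hW : W ≤ q ⁻¹ᵁ U) {n : ℕ}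
    {t : 𝒮.presheaf.obj (op U)} (ht : t ∈ 𝒮.deg U hU n) (a : Γ(Y, U)) :
    (q.appLE U W hW).hom a ∈ ratSub u hU W hW ht := by
  refine ⟨0, (𝒮.str.app (op U)).hom a, ?_, ?_⟩
  · rw [zero_mul]; exact 𝒮.str_mem U hU a
  · rw [pow_zero, mul_one]
    exact congr($(u.toQHom.str_appLE U W hW) a).symm

variable {U : Y.Opens} {hU : IsAffineOpen U} {ι : Type*} {n : ι → ℕ} {s : ι → 𝒮.presheaf.obj (op U)}

/-- A finite subfamily suffices. -/
theorem exists_finite_sub [QuasiCompact q] (h : Fam u U hU n s) :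
    ∃ F : Finset ι, Fam u U hU (fun a : F => n a) (fun a : F => s a) := by
  have hc : IsCompact ((q ⁻¹ᵁ U : X.Opens) : Set X) := q.isCompact_preimage hU.isCompact
  obtain ⟨F, hF⟩ := hc.elim_finite_subcover (fun a : ι => ((nvs u U (s a) (n a) : X.Opens) : Set X))
    (fun a => Opens.isOpen _) (fun x hx => by
      obtain ⟨a, ha⟩ := h.cov x hx
      exact Set.mem_iUnion.mpr ⟨a, ha⟩)
  refine ⟨F, fun a => h.pos a, fun a => h.mem a, fun x hx => ?_, fun a => h.aff a, fun a t => h.surj a t⟩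
  obtain ⟨a, ha⟩ := Set.mem_iUnion.mp (hF hx)
  obtain ⟨haF, hx'⟩ := Set.mem_iUnion.mp ha
  exact ⟨⟨a, haF⟩, hx'⟩

/-- A finite family lifts along `v : 𝒯 ⟶ 𝒮` as soon as finitely many homogeneous elements lift. -/
theorem exists_finite_data [LocallyOfFiniteType q] [Finite ι] (h : Fam u U hU n s) :
    ∃ G : Set (ℕ × 𝒮.presheaf.obj (op U)), G.Finite ∧ (∀ g ∈ G, g.2 ∈ 𝒮.deg U hU g.1) ∧
      ∀ (𝒯 : RelProj.QCGrAlg Y) (v : 𝒯.toQCAlg ⟶ 𝒮.toQCAlg) (_ : RelProj.IsGradedHom v) (u' : RelProj.QGrHom q 𝒯 ℬ)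
        (_ : ∀ U : Y.Opens, u'.app U = v.hom.app (op U) ≫ u.app U),
        (∀ g ∈ G, ∃ t ∈ 𝒯.deg U hU g.1, (v.hom.app (op U)).hom t = g.2) →
        ∃ t : ι → 𝒯.presheaf.obj (op U), (∀ a, (v.hom.app (op U)).hom (t a) = s a) ∧ Fam u' U hU n t := by
  classical
  have h1 : ∀ a, ∃ T : Finset Γ(X, nvs u U (s a) (n a)), ∀ S : Subring Γ(X, nvs u U (s a) (n a)),
      (∀ r, (q.appLE U _ (nvs_le u U (s a) (n a))).hom r ∈ S) → (∀ t ∈ T, t ∈ S) → S = ⊤ := fun a =>
    exists_finset_of_finiteType (q.finiteType_appLE hU (h.aff a) (nvs_le u U (s a) (n a)))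
  choose T hT using h1
  choose m hm g hg e using h.surj
  refine ⟨Set.range (fun a => (n a, s a)) ∪ ⋃ a, (fun t => (m a t * n a, g a t)) '' (T a : Set _),
    (Set.finite_range _).union (Set.finite_iUnion fun a => (T a).finite_toSet.image _), ?_, ?_⟩
  · rintro x (⟨a, rfl⟩ | hx)
    · exact h.mem a
    · obtain ⟨a, t, -, rfl⟩ := Set.mem_iUnion.mp hx
      exact hg a t
  · intro 𝒯 v hv u' hu' hlift
    have h2 : ∀ a, ∃ t ∈ 𝒯.deg U hU (n a), (v.hom.app (op U)).hom t = s a := fun a =>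
      hlift (n a, s a) (Or.inl ⟨a, rfl⟩)
    choose t ht hvt using h2
    have hnv : ∀ a, nvs u U (s a) (n a) = nvs u' U (t a) (n a) := fun a => by
      rw [nvs_comp u v u' hu', hvt]
    refine ⟨t, hvt, h.pos, ht, fun x hx => ?_, fun a => (hnv a) ▸ h.aff a, fun a => ?_⟩
    · obtain ⟨a, ha⟩ := h.cov x hx
      exact ⟨a, (hnv a) ▸ ha⟩
    · have key : ∀ (W : X.Opens) (hW : W = nvs u U (s a) (n a)),
          ratSub u' hU W (hW.le.trans (nvs_le u U (s a) (n a))) (ht a) = ⊤ := by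
        rintro W rfl
        refine hT a _ (fun r => app_mem_ratSub u' hU _ _ (ht a) r) fun f hf => ?_
        obtain ⟨y, hy, hvy⟩ := hlift (m a f * n a, g a f) (Or.inr (Set.mem_iUnion.mpr ⟨a, f, hf, rfl⟩))
        refine ⟨m a f, y, hy, ?_⟩
        rw [appLE_comp u v u' hu', appLE_comp u v u' hu', hvt, hvy]
        exact e a f
      intro f
      have h3 : f ∈ ratSub u' hU (nvs u' U (t a) (n a)) ((hnv a).symm.le.trans (nvs_le u U (s a) (n a))) (ht a) := by
        rw [key _ (hnv a).symm]; trivial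
      exact (mem_ratSub_iff u' hU _ _ (ht a) f).mp h3

end K41.RFin
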