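import Groth.Agent.EGA2.K41.RCrit
import Groth.Agent.EGA2.K42.Dominant
import Groth.Agent.EGA2.K42.DomHom

/-!
# Immersion criteria for `r_{L,ψ}`, over an arbitrary base
-/

set_option autoImplicit false
set_option linter.unusedSectionVars false
universe u
open CategoryTheory CategoryTheory.Limits AlgebraicGeometry TopologicalSpace Opposite
open scoped HomogeneousIdeal

noncomputable section

namespace K41.RImm
open K41.LineAlg K41.LineRing K41.NV K41.PLine K41.RPhi K41.RKappa K41.RKappa2 K41.RCrit K42.DomQ K42.DomMap K42.Dominant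

variable {X Y : Scheme.{u}} {q : X ⟶ Y} {𝒮 : RelProj.QCGrAlg Y} {ℬ : RelProj.QCGrAlg X}
  (u : RelProj.QGrHom q 𝒮 ℬ)

/-- A family of homogeneous sections over `U` of positive degree whose nonvanishing opens cover `q⁻¹(U)`, are affine, and
such that every function on such an open is `u(s') / u(s)^m`. -/
structure Fam (U : Y.Opens) (hU : IsAffineOpen U) {ι : Type*} (n : ι → ℕ) (s : ι → 𝒮.presheaf.obj (op U)) : Prop where
  pos : ∀ a, 0 < n a
  mem : ∀ a, s a ∈ 𝒮.deg U hU (n a)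
  cov : ∀ x : X, q.base x ∈ U → ∃ a, x ∈ nvs u U (s a) (n a)
  aff : ∀ a, IsAffineOpen (nvs u U (s a) (n a))
  surj : ∀ a (t : Γ(X, nvs u U (s a) (n a))), ∃ (m : ℕ) (_ : 0 < m) (s' : 𝒮.presheaf.obj (op U))
    (_ : s' ∈ 𝒮.deg U hU (m * n a)),
      (ℬ.str.app (op (nvs u U (s a) (n a)))).hom t * ((u.appLE U _ (nvs_le u U (s a) (n a))).hom (s a)) ^ m =
        (u.appLE U _ (nvs_le u U (s a) (n a))).hom s'

/-- Condition (iv): the kernel condition. -/
def FamInj (U : Y.Opens) (hU : IsAffineOpen U) {ι : Type*} (n : ι → ℕ) (s : ι → 𝒮.presheaf.obj (op U)) : Prop :=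
  ∀ a (m : ℕ), 0 < m → ∀ s' ∈ 𝒮.deg U hU (m * n a),
    (u.appLE U _ (nvs_le u U (s a) (n a))).hom s' = 0 → ∃ (k : ℕ), 0 < k ∧ (s a) ^ k * s' = 0

section ring

variable {A σ : Type u} [CommRing A] [SetLike σ A] [AddSubgroupClass σ A] {𝒜 : ℕ → σ} [GradedRing 𝒜]

theorem mk_succ {d : ℕ} {f : A} (hf : f ∈ 𝒜 d) (m : ℕ) (x : A) (hx : x ∈ 𝒜 (m • d)) (hx' : f * x ∈ 𝒜 ((m + 1) • d)) :
    HomogeneousLocalization.Away.mk 𝒜 hf (m + 1) (f * x) hx' = HomogeneousLocalization.Away.mk 𝒜 hf m x hx := by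
  refine HomogeneousLocalization.val_injective _ ?_
  rw [HomogeneousLocalization.Away.val_mk, HomogeneousLocalization.Away.val_mk, Localization.mk_eq_mk_iff,
    Localization.r_iff_exists]
  exact ⟨1, by simp [pow_succ]; ring⟩

theorem mk_eq_zero_iff {d : ℕ} {f : A} (hf : f ∈ 𝒜 d) (m : ℕ) (x : A) (hx : x ∈ 𝒜 (m • d)) :
    HomogeneousLocalization.Away.mk 𝒜 hf m x hx = 0 ↔ ∃ k, f ^ k * x = 0 := by
  rw [← HomogeneousLocalization.val_injective _ |>.eq_iff, HomogeneousLocalization.val_zero,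
    HomogeneousLocalization.Away.val_mk, ← Localization.mk_zero 1, Localization.mk_eq_mk_iff,
    Localization.r_iff_exists]
  constructor
  · rintro ⟨⟨_, k, rfl⟩, hk⟩
    exact ⟨k, by simpa using hk⟩
  · rintro ⟨k, hk⟩
    exact ⟨⟨_, k, rfl⟩, by simpa using hk⟩

end ring

variable
  {P : Scheme.{u}} {p : P ⟶ Y}
  {chart : ∀ (U : Y.Opens) (hU : IsAffineOpen U), (((p ⁻¹ᵁ U : P.Opens) : Scheme.{u}) ≅ Proj (𝒮.deg U hU))}
  (hP : RelProj.IsRelProj 𝒮 p chart)
  {PL : Scheme.{u}} {pL : PL ⟶ X}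
  {chartL : ∀ (U : X.Opens) (hU : IsAffineOpen U), (((pL ⁻¹ᵁ U : PL.Opens) : Scheme.{u}) ≅ Proj (ℬ.deg U hU))}
  (hPL : RelProj.IsRelProj ℬ pL chartL) (hB : IsLineAlg ℬ)
  {r : ((RelProj.domQ u pL chartL : PL.Opens) : Scheme.{u}) ⟶ P}
  (hr : RelProj.IsProjQMapOn u p chart pL chartL (RelProj.domQ u pL chartL) r)

section one

variable [IsIso pL] {U : Y.Opens} (hU : IsAffineOpen U) {d : ℕ} (hd : 0 < d) {s : 𝒮.presheaf.obj (op U)}
  (hs : s ∈ 𝒮.deg U hU d)

/-- `κ` is surjective iff every function on `X_s` is `u(s')/u(s)^m`. -/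
theorem kappa_surjective_iff :
    Function.Surjective (kappa u hP hPL hB hr hU hd hs (le_refl (nvs u U s d))) ↔
      ∀ t : Γ(X, nvs u U s d), ∃ (m : ℕ) (_ : 0 < m) (s' : 𝒮.presheaf.obj (op U))
        (_ : s' ∈ 𝒮.deg U hU (m * d)),
          (ℬ.str.app (op (nvs u U s d))).hom t * ((u.appLE U _ (nvs_le u U s d)).hom s) ^ m =
            (u.appLE U _ (nvs_le u U s d)).hom s' := by
  constructor
  · intro h t
    obtain ⟨x, hx⟩ := h t
    obtain ⟨m, s', hs', rfl⟩ := HomogeneousLocalization.Away.mk_surjective _ hs x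
    have hm : s * s' ∈ 𝒮.deg U hU ((m + 1) • d) := by
      have := SetLike.mul_mem_graded hs hs'
      rwa [show d + m • d = (m + 1) • d by simp only [smul_eq_mul]; ring] at this
    rw [← mk_succ hs m s' hs' hm] at hx
    exact ⟨m + 1, Nat.succ_pos m, s * s', hm, (kappa_eq_iff u hP hPL hB hr hU hd hs _ (m + 1) (s * s') hm
      (nvs_le u U s d) t).mp hx⟩
  · intro h t
    obtain ⟨m, _, s', hs', e⟩ := h t
    exact ⟨_, (kappa_eq_iff u hP hPL hB hr hU hd hs _ m s' hs' (nvs_le u U s d) t).mpr e⟩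

/-- `κ` is injective iff (iv) holds. -/
theorem kappa_injective_iff :
    Function.Injective (kappa u hP hPL hB hr hU hd hs (le_refl (nvs u U s d))) ↔
      ∀ (m : ℕ), 0 < m → ∀ s' ∈ 𝒮.deg U hU (m * d),
        (u.appLE U _ (nvs_le u U s d)).hom s' = 0 → ∃ (k : ℕ), 0 < k ∧ s ^ k * s' = 0 := by
  rw [injective_iff_map_eq_zero]
  constructor
  · intro h m _ s' hs' h0
    have h1 := h (HomogeneousLocalization.Away.mk _ hs m s' hs') ((kappa_eq_iff u hP hPL hB hr hU hd hs _ m s' hs'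
      (nvs_le u U s d) 0).mpr (by rw [map_zero, zero_mul]; exact h0.symm))
    obtain ⟨k, hk⟩ := (mk_eq_zero_iff hs m s' hs').mp h1
    exact ⟨k + 1, Nat.succ_pos k, by rw [pow_succ', mul_assoc, hk, mul_zero]⟩
  · intro h x hx
    obtain ⟨m, s', hs', rfl⟩ := HomogeneousLocalization.Away.mk_surjective _ hs x
    have hm : s * s' ∈ 𝒮.deg U hU ((m + 1) • d) := by
      have := SetLike.mul_mem_graded hs hs'
      rwa [show d + m • d = (m + 1) • d by simp only [smul_eq_mul]; ring] at this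
    rw [← mk_succ hs m s' hs' hm] at hx ⊢
    have h1 := (kappa_eq_iff u hP hPL hB hr hU hd hs _ (m + 1) (s * s') hm (nvs_le u U s d) 0).mp hx
    rw [map_zero, zero_mul] at h1
    obtain ⟨k, -, hk⟩ := h (m + 1) (Nat.succ_pos m) (s * s') hm h1.symm
    exact (mk_eq_zero_iff hs _ _ hm).mpr ⟨k, hk⟩

theorem isClosedImmersion_kmor_iff : IsClosedImmersion (kmor u hP hPL hB hr hU hd hs (le_refl (nvs u U s d))) ↔
    IsAffineOpen (nvs u U s d) ∧ Function.Surjective (kappa u hP hPL hB hr hU hd hs (le_refl (nvs u U s d))) := by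
  rw [← toSpecΓ_kappa, K41.RCrit.isClosedImmersion_iff]

theorem isIso_kmor_iff : IsIso (kmor u hP hPL hB hr hU hd hs (le_refl (nvs u U s d))) ↔
    IsAffineOpen (nvs u U s d) ∧ Function.Bijective (kappa u hP hPL hB hr hU hd hs (le_refl (nvs u U s d))) := by
  rw [← toSpecΓ_kappa, K41.RCrit.isIso_iff]

end one

section of_fam

include hPL hB in
/-- Covering families force `G(ψ) = X`. -/
theorem domQ_eq_top (H : ∀ y : Y, ∃ (U : Y.Opens) (hU : IsAffineOpen U) (ι : Type u) (n : ι → ℕ)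
    (s : ι → 𝒮.presheaf.obj (op U)), y ∈ U ∧ (∀ a, 0 < n a) ∧ (∀ a, s a ∈ 𝒮.deg U hU (n a)) ∧
      ∀ x : X, q.base x ∈ U → ∃ a, x ∈ nvs u U (s a) (n a)) : RelProj.domQ u pL chartL = ⊤ := by
  refine top_le_iff.mp fun y _ => ?_
  obtain ⟨U, hU, ι, n, s, hy, hpos, hmem, hcov⟩ := H (q.base (pL.base y))
  obtain ⟨a, ha⟩ := hcov _ hy
  exact (mem_domQ_iff u hPL hB hU hy).mpr ⟨n a, hpos a, s a, hmem a, ha⟩

include hP hPL hB hr in
/-- A property holding for `κ` over a covering family. -/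
theorem exists_factor_of_fam {Q : MorphismProperty Scheme.{u}} [IsZariskiLocalAtTarget Q] [IsIso pL]
    (H : ∀ x : X, ∃ (U : Y.Opens) (hU : IsAffineOpen U) (d : ℕ) (hd : 0 < d)
      (s : 𝒮.presheaf.obj (op U)) (hs : s ∈ 𝒮.deg U hU d), x ∈ nvs u U s d ∧
        Q (kmor u hP hPL hB hr hU hd hs (le_refl (nvs u U s d)))) :
    ∃ (O : P.Opens) (g : ((RelProj.domQ u pL chartL : PL.Opens) : Scheme.{u}) ⟶ O), g ≫ O.ι = r ∧ Q g := by
  refine exists_factor r fun x => ?_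
  obtain ⟨U, hU, d, hd, s, hs, hx, hQ⟩ := H (pL.base x.1)
  refine ⟨_, _, kmor u hP hPL hB hr hU hd hs (le_refl _), _, aff p chart U hU hd s hs, inferInstance, ?_,
    isPullback_kmor u hP hPL hB hr hU hd hs, hQ⟩
  have h1 : x ∈ r ⁻¹ᵁ std p chart U hU s := by
    rw [preimage_std u hP hPL hB hr hU hd hs]; exact hx
  rw [← opensRange_aff U hU hd s hs] at h1
  exact h1

include hP hPL hB hr in
/-- **Immersion criterion**, sufficiency. -/
theorem isImmersion_of_fam (H : ∀ y : Y, ∃ (U : Y.Opens) (hU : IsAffineOpen U) (ι : Type u) (n : ι → ℕ)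
    (s : ι → 𝒮.presheaf.obj (op U)), y ∈ U ∧ Fam u U hU n s) :
    RelProj.domQ u pL chartL = ⊤ ∧ IsImmersion r := by
  refine ⟨domQ_eq_top u hPL hB fun y => ?_, ?_⟩
  · obtain ⟨U, hU, ι, n, s, hy, hF⟩ := H y
    exact ⟨U, hU, ι, n, s, hy, hF.pos, hF.mem, hF.cov⟩
  · have := isIso_p hPL hB
    obtain ⟨O, g, hg, hQ⟩ := exists_factor_of_fam (Q := @IsClosedImmersion) u hP hPL hB hr fun x => by
      obtain ⟨U, hU, ι, n, s, hy, hF⟩ := H (q.base x)
      obtain ⟨a, ha⟩ := hF.cov x hy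
      exact ⟨U, hU, n a, hF.pos a, s a, hF.mem a, ha, (isClosedImmersion_kmor_iff u hP hPL hB hr hU _ _).mpr
        ⟨hF.aff a, (kappa_surjective_iff u hP hPL hB hr hU _ _).mpr (hF.surj a)⟩⟩
    have : IsClosedImmersion g := hQ
    rw [← hg]
    infer_instance

include hP hPL hB hr in
/-- **Open immersion criterion**, sufficiency. -/
theorem isOpenImmersion_of_fam (H : ∀ y : Y, ∃ (U : Y.Opens) (hU : IsAffineOpen U) (ι : Type u) (n : ι → ℕ)
    (s : ι → 𝒮.presheaf.obj (op U)), y ∈ U ∧ Fam u U hU n s ∧ FamInj u U hU n s) :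
    RelProj.domQ u pL chartL = ⊤ ∧ IsOpenImmersion r := by
  refine ⟨domQ_eq_top u hPL hB fun y => ?_, ?_⟩
  · obtain ⟨U, hU, ι, n, s, hy, hF, -⟩ := H y
    exact ⟨U, hU, ι, n, s, hy, hF.pos, hF.mem, hF.cov⟩
  · have := isIso_p hPL hB
    obtain ⟨O, g, hg, hQ⟩ := exists_factor_of_fam (Q := MorphismProperty.isomorphisms Scheme.{u}) u hP hPL hB hr fun x => by
      obtain ⟨U, hU, ι, n, s, hy, hF, hI⟩ := H (q.base x)
      obtain ⟨a, ha⟩ := hF.cov x hy
      exact ⟨U, hU, n a, hF.pos a, s a, hF.mem a, ha, (isIso_kmor_iff u hP hPL hB hr hU _ _).mpr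
        ⟨hF.aff a, (kappa_injective_iff u hP hPL hB hr hU _ _).mpr (hI a),
          (kappa_surjective_iff u hP hPL hB hr hU _ _).mpr (hF.surj a)⟩⟩
    have : IsIso g := hQ
    rw [← hg]
    infer_instance

include hP hPL hB hr in
/-- **Closed immersion criterion**, sufficiency. -/
theorem isClosedImmersion_of_fam (H : ∀ y : Y, ∃ (U : Y.Opens) (hU : IsAffineOpen U) (ι : Type u) (n : ι → ℕ)
    (s : ι → 𝒮.presheaf.obj (op U)), y ∈ U ∧ Fam u U hU n s ∧ (⨆ a, Proj.basicOpen (𝒮.deg U hU) (s a)) = ⊤) :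
    RelProj.domQ u pL chartL = ⊤ ∧ IsClosedImmersion r := by
  refine ⟨domQ_eq_top u hPL hB fun y => ?_, ?_⟩
  · obtain ⟨U, hU, ι, n, s, hy, hF, -⟩ := H y
    exact ⟨U, hU, ι, n, s, hy, hF.pos, hF.mem, hF.cov⟩
  · have := isIso_p hPL hB
    refine of_forall_isPullback (Q := @IsClosedImmersion) r fun z => ?_
    obtain ⟨U, hU, ι, n, s, hy, hF, hc⟩ := H (p.base z)
    obtain ⟨w, hw⟩ := exists_emb_eq p chart U hU z hy
    have hw' : w ∈ (⨆ a, Proj.basicOpen (𝒮.deg U hU) (s a)) := hc ▸ trivial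
    obtain ⟨a, ha⟩ := Opens.mem_iSup.mp hw'
    refine ⟨_, _, kmor u hP hPL hB hr hU (hF.pos a) (hF.mem a) (le_refl _), _,
      aff p chart U hU (hF.pos a) (s a) (hF.mem a), inferInstance, ?_,
      isPullback_kmor u hP hPL hB hr hU (hF.pos a) (hF.mem a), (isClosedImmersion_kmor_iff u hP hPL hB hr hU _ _).mpr
        ⟨hF.aff a, (kappa_surjective_iff u hP hPL hB hr hU _ _).mpr (hF.surj a)⟩⟩
    have h1 : z ∈ std p chart U hU (s a) := by
      rw [← hw, emb_mem_std_iff]; exact ha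
    rw [← opensRange_aff U hU (hF.pos a) (s a) (hF.mem a)] at h1
    exact h1

end of_fam

section exists_fam

include hP hPL hB hr in
/-- Base change of `r` to `D₊(s)` inside an open where `r` has `Q`. -/
theorem kmor_of_restrict [IsIso pL] {Q : MorphismProperty Scheme.{u}} [Q.IsStableUnderBaseChange]
    {O : P.Opens} (hQ : Q (r ∣_ O)) {U : Y.Opens} (hU : IsAffineOpen U) {d : ℕ} (hd : 0 < d)
    {s : 𝒮.presheaf.obj (op U)} (hs : s ∈ 𝒮.deg U hU d) (hle : std p chart U hU s ≤ O) :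
    Q (kmor u hP hPL hB hr hU hd hs (le_refl (nvs u U s d))) := by
  have h1 := isPullback_kmor u hP hPL hB hr hU hd hs
  have h2 := isPullback_morphismRestrict r O
  have hO : Set.range (aff p chart U hU hd s hs).base ⊆ Set.range O.ι.base := by
    rw [Scheme.Opens.range_ι]
    intro x hx
    exact hle ((opensRange_aff U hU hd s hs).le hx)
  let j := IsOpenImmersion.lift O.ι (aff p chart U hU hd s hs) hO
  have hj : j ≫ O.ι = aff p chart U hU hd s hs := IsOpenImmersion.lift_fac _ _ _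
  rw [← hj] at h1
  have h3 : kmor u hP hPL hB hr hU hd hs (le_refl (nvs u U s d)) ≫ j ≫ O.ι =
      lft u pL chartL (nvs u U s d) (preimage_le u hPL hB hU hd hs (le_refl _)) ≫ r := h1.w
  let b := h2.lift (kmor u hP hPL hB hr hU hd hs (le_refl (nvs u U s d)) ≫ j) (lft u pL chartL (nvs u U s d)
    (preimage_le u hPL hB hU hd hs (le_refl _))) (by rw [Category.assoc]; exact h3)
  have hb1 : b ≫ (r ∣_ O) = kmor u hP hPL hB hr hU hd hs (le_refl (nvs u U s d)) ≫ j := h2.lift_fst _ _ _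
  have hb2 : b ≫ (r ⁻¹ᵁ O).ι = lft u pL chartL (nvs u U s d) (preimage_le u hPL hB hU hd hs (le_refl _)) :=
    h2.lift_snd _ _ _
  have h4 : IsPullback (kmor u hP hPL hB hr hU hd hs (le_refl (nvs u U s d))) b j (r ∣_ O) := by
    refine (IsPullback.of_right (h₁₂ := (r ⁻¹ᵁ O).ι) (h₂₂ := O.ι) (v₁₃ := r) ?_ hb1 h2.flip).flip
    rw [hb2]; exact h1.flip
  exact MorphismProperty.of_isPullback h4.flip hQ

theorem restrict_of_factor {Q : MorphismProperty Scheme.{u}} [Q.RespectsIso] {A B : Scheme.{u}} {f : A ⟶ B}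
    {O : B.Opens} {g : A ⟶ O} (hg : g ≫ O.ι = f) (hQ : Q g) : Q (f ∣_ O) := by
  have h1 : f ∣_ O = (f ⁻¹ᵁ O).ι ≫ g := by
    rw [← cancel_mono O.ι, morphismRestrict_ι, Category.assoc, hg]
  have h2 : f ⁻¹ᵁ O = ⊤ := by
    rw [← hg]
    refine top_le_iff.mp fun x _ => ?_
    exact (g.base x).2
  have h3 : IsIso (f ⁻¹ᵁ O).ι := K42.DomHom.isIso_ι_of_eq_top h2
  rw [h1]
  exact (MorphismProperty.cancel_left_of_respectsIso Q _ _).mpr hQ

include hP hPL hB hr in
/-- If `r` has `Q` over an open `O` containing its image, there are enough sections `s` with `D₊(s) ≤ O`. -/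
theorem exists_kmor [IsIso pL] (htop : RelProj.domQ u pL chartL = ⊤) {Q : MorphismProperty Scheme.{u}}
    [Q.IsStableUnderBaseChange] {O : P.Opens} {g : ((RelProj.domQ u pL chartL : PL.Opens) : Scheme.{u}) ⟶ O}
    (hg : g ≫ O.ι = r) (hQ : Q g) {U : Y.Opens} (hU : IsAffineOpen U) (x : X) (hx : q.base x ∈ U) :
    ∃ (d : ℕ) (hd : 0 < d) (s : 𝒮.presheaf.obj (op U)) (hs : s ∈ 𝒮.deg U hU d), x ∈ nvs u U s d ∧
      Q (kmor u hP hPL hB hr hU hd hs (le_refl (nvs u U s d))) := by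
  obtain ⟨y, rfl⟩ : ∃ y, pL.base y = x := pL.homeomorph.surjective x
  have hy : y ∈ RelProj.domQ u pL chartL := htop ▸ trivial
  let y' : ((RelProj.domQ u pL chartL : PL.Opens) : Scheme.{u}) := ⟨y, hy⟩
  have h1 : r.base y' ∈ p ⁻¹ᵁ U := by
    have h2 : y' ∈ r ⁻¹ᵁ (p ⁻¹ᵁ U) := by
      rw [preimage_p u hP hPL hr]; exact hx
    exact h2
  have h3 : r.base y' ∈ O := by rw [← hg]; exact (g.base y').2
  obtain ⟨d, hd, s, hs, hys, hle⟩ := exists_std_le p chart U hU (r.base y') h1 O h3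
  refine ⟨d, hd, s, hs, ?_, kmor_of_restrict u hP hPL hB hr (restrict_of_factor hg hQ) hU hd hs hle⟩
  have h4 : y' ∈ r ⁻¹ᵁ std p chart U hU s := hys
  rw [preimage_std u hP hPL hB hr hU hd hs] at h4
  exact h4

include hP hPL hB hr in
/-- **Immersion criterion**, necessity. -/
theorem exists_fam_imm (htop : RelProj.domQ u pL chartL = ⊤) (himm : IsImmersion r) (U : Y.Opens)
    (hU : IsAffineOpen U) : ∃ (ι : Type u) (n : ι → ℕ) (s : ι → 𝒮.presheaf.obj (op U)), Fam u U hU n s := by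
  have := isIso_p hPL hB
  have H := fun x : {x : X // q.base x ∈ U} => exists_kmor (Q := @IsClosedImmersion) u hP hPL hB hr htop
    r.liftCoborder_ι (show IsClosedImmersion r.liftCoborder from inferInstance) hU x.1 x.2
  choose d hd s hs hx hQ using H
  refine ⟨{x : X // q.base x ∈ U}, d, s, hd, hs, fun x hxU => ⟨⟨x, hxU⟩, hx ⟨x, hxU⟩⟩, fun a => ?_, fun a => ?_⟩
  · exact ((isClosedImmersion_kmor_iff u hP hPL hB hr hU _ _).mp (hQ a)).1
  · exact (kappa_surjective_iff u hP hPL hB hr hU _ _).mp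
      ((isClosedImmersion_kmor_iff u hP hPL hB hr hU _ _).mp (hQ a)).2

include hP hPL hB hr in
/-- **Open immersion criterion**, necessity. -/
theorem exists_fam_open (htop : RelProj.domQ u pL chartL = ⊤) (himm : IsOpenImmersion r) (U : Y.Opens)
    (hU : IsAffineOpen U) : ∃ (ι : Type u) (n : ι → ℕ) (s : ι → 𝒮.presheaf.obj (op U)),
      Fam u U hU n s ∧ FamInj u U hU n s := by
  have := isIso_p hPL hB
  have H := fun x : {x : X // q.base x ∈ U} => exists_kmor (Q := MorphismProperty.isomorphisms Scheme.{u})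
    u hP hPL hB hr htop
    r.isoOpensRange_hom_ι (show IsIso r.isoOpensRange.hom from inferInstance) hU x.1 x.2
  choose d hd s hs hx hQ using H
  refine ⟨{x : X // q.base x ∈ U}, d, s, ⟨hd, hs, fun x hxU => ⟨⟨x, hxU⟩, hx ⟨x, hxU⟩⟩, fun a => ?_, fun a => ?_⟩,
    fun a => ?_⟩
  · exact ((isIso_kmor_iff u hP hPL hB hr hU _ _).mp (hQ a)).1
  · exact (kappa_surjective_iff u hP hPL hB hr hU _ _).mp
      ((isIso_kmor_iff u hP hPL hB hr hU _ _).mp (hQ a)).2.2
  · exact (kappa_injective_iff u hP hPL hB hr hU _ _).mp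
      ((isIso_kmor_iff u hP hPL hB hr hU _ _).mp (hQ a)).2.1

include hP hPL hB hr in
/-- **Closed immersion criterion**, necessity. -/
theorem exists_fam_closed (htop : RelProj.domQ u pL chartL = ⊤) (himm : IsClosedImmersion r) (U : Y.Opens)
    (hU : IsAffineOpen U) : ∃ (ι : Type u) (n : ι → ℕ) (s : ι → 𝒮.presheaf.obj (op U)),
      Fam u U hU n s ∧ (⨆ a, Proj.basicOpen (𝒮.deg U hU) (s a)) = ⊤ := by
  have := isIso_p hPL hB
  have hQ : ∀ a : {a : ℕ × 𝒮.presheaf.obj (op U) // 0 < a.1 ∧ a.2 ∈ 𝒮.deg U hU a.1},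
      IsClosedImmersion (kmor u hP hPL hB hr hU a.2.1 a.2.2 (le_refl (nvs u U a.1.2 a.1.1))) := fun a =>
    MorphismProperty.of_isPullback (P := @IsClosedImmersion)
      (isPullback_kmor u hP hPL hB hr hU a.2.1 a.2.2).flip himm
  refine ⟨{a : ℕ × 𝒮.presheaf.obj (op U) // 0 < a.1 ∧ a.2 ∈ 𝒮.deg U hU a.1}, fun a => a.1.1, fun a => a.1.2,
    ⟨fun a => a.2.1, fun a => a.2.2, fun x hxU => ?_, fun a => ?_, fun a => ?_⟩, ?_⟩
  · obtain ⟨y, rfl⟩ : ∃ y, pL.base y = x := pL.homeomorph.surjective x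
    obtain ⟨d, hd, s, hs, h⟩ := (mem_domQ_iff u hPL hB hU hxU).mp (htop ▸ trivial)
    exact ⟨⟨(d, s), hd, hs⟩, h⟩
  · exact ((isClosedImmersion_kmor_iff u hP hPL hB hr hU _ _).mp (hQ a)).1
  · exact (kappa_surjective_iff u hP hPL hB hr hU _ _).mp
      ((isClosedImmersion_kmor_iff u hP hPL hB hr hU _ _).mp (hQ a)).2
  · refine top_le_iff.mp fun z _ => ?_
    obtain ⟨d, hd, f, hf, hz⟩ := K42.DomQ.exists_notMem z
    exact Opens.mem_iSup.mpr ⟨⟨(d, f), hd, hf⟩, hz⟩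

end exists_fam

end K41.RImm
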