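import Groth.Agent.EGA2.K41.RPhi

/-!
# The case of an affine base, in the spelling of the statements
-/

set_option autoImplicit false
set_option linter.unusedSectionVars false
universe u
open CategoryTheory CategoryTheory.Limits AlgebraicGeometry TopologicalSpace Opposite
open scoped HomogeneousIdeal

noncomputable section

namespace K41.RPhiTop
open K41.LineAlg K41.LineRing K41.NV K41.PLine K41.RPhi K42.DomQ K42.DomMap

variable {X Y : Scheme.{u}} {q : X ⟶ Y} {𝒮 : RelProj.QCGrAlg Y} {ℬ : RelProj.QCGrAlg X}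
  (u : RelProj.QGrHom q 𝒮 ℬ)

theorem mem_nvs_top (f : 𝒮.presheaf.obj (op ⊤)) (d : ℕ) (x : X) :
    x ∈ nvs u ⊤ f d ↔ ∃ (V : X.Opens) (hV : IsAffineOpen V), x ∈ V ∧
      ((ℬ.deg V hV d : AddSubgroup (ℬ.presheaf.obj (op V))) : Set (ℬ.presheaf.obj (op V))) ⊆
        (Ideal.span {(u.appLE ⊤ V (le_top.trans (Scheme.Hom.preimage_top q).ge)).hom f} : Set (ℬ.presheaf.obj (op V))) := by
  rw [nvs, mem_nv]
  constructor
  · rintro ⟨V, hV, h, hx, H⟩; exact ⟨V, hV, hx, H⟩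
  · rintro ⟨V, hV, hx, H⟩; exact ⟨V, hV, _, hx, H⟩

theorem nvs_top (f : 𝒮.presheaf.obj (op ⊤)) (d : ℕ) :
    (⨆ V : {V : X.affineOpens //
          ((ℬ.deg V.1 V.2 d : AddSubgroup (ℬ.presheaf.obj (op (V.1 : X.Opens)))) : Set (ℬ.presheaf.obj (op (V.1 : X.Opens)))) ⊆
            (Ideal.span {(u.appLE ⊤ (V.1 : X.Opens) (le_top.trans (Scheme.Hom.preimage_top q).ge)).hom f} : Set (ℬ.presheaf.obj (op (V.1 : X.Opens))))},
          (V.1.1 : X.Opens)) = nvs u ⊤ f d := by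
  ext x
  rw [SetLike.mem_coe, SetLike.mem_coe, mem_nvs_top, Opens.mem_iSup]
  constructor
  · rintro ⟨⟨⟨V, hV⟩, H⟩, hx⟩; exact ⟨V, hV, hx, H⟩
  · rintro ⟨V, hV, hx, H⟩; exact ⟨⟨⟨V, hV⟩, H⟩, hx⟩

variable {P : Scheme.{u}} {p : P ⟶ Y}
  {chart : ∀ (U : Y.Opens) (hU : IsAffineOpen U), (((p ⁻¹ᵁ U : P.Opens) : Scheme.{u}) ≅ Proj (𝒮.deg U hU))}
  (hP : RelProj.IsRelProj 𝒮 p chart)
  {PL : Scheme.{u}} {pL : PL ⟶ X}
  {chartL : ∀ (U : X.Opens) (hU : IsAffineOpen U), (((pL ⁻¹ᵁ U : PL.Opens) : Scheme.{u}) ≅ Proj (ℬ.deg U hU))}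
  (hPL : RelProj.IsRelProj ℬ pL chartL) (hB : IsLineAlg ℬ)
  {r : ((RelProj.domQ u pL chartL : PL.Opens) : Scheme.{u}) ⟶ P}
  (hr : RelProj.IsProjQMapOn u p chart pL chartL (RelProj.domQ u pL chartL) r)
  (hY : IsAffineOpen (⊤ : Y.Opens))

include hPL hB in
theorem domQ_eq_top_iff_top :
    RelProj.domQ u pL chartL = ⊤ ↔
      ∀ x : X, ∃ (n : ℕ) (_ : 0 < n) (s : 𝒮.presheaf.obj (op ⊤)) (_ : s ∈ 𝒮.deg ⊤ hY n), x ∈ nvs u ⊤ s n := by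
  rw [domQ_eq_top_iff u hPL hB (fun _ : Unit => (⊤ : Y.Opens)) (fun _ => hY) (fun x => ⟨(), trivial⟩)]
  exact ⟨fun h x => h x () trivial, fun h x _ _ => h x⟩

end K41.RPhiTop
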