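import Groth.Agent.EGA2.K41.RImm
import Groth.Agent.EGA2.K41.RPhiTop

/-!
# Immersion criteria for `r_{L,ψ}`, affine base, in the spelling of the statements
-/

set_option autoImplicit false
set_option linter.unusedSectionVars false
universe u
open CategoryTheory CategoryTheory.Limits AlgebraicGeometry TopologicalSpace Opposite
open scoped HomogeneousIdeal

noncomputable section

namespace K41.RImmTop
open K41.LineAlg K41.LineRing K41.NV K41.PLine K41.RPhi K41.RPhiTop K41.RImm K42.DomQ K42.DomMap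

variable {X Y : Scheme.{u}} {q : X ⟶ Y} {𝒮 : RelProj.QCGrAlg Y} {ℬ : RelProj.QCGrAlg X}
  (u : RelProj.QGrHom q 𝒮 ℬ) (hY : IsAffineOpen (⊤ : Y.Opens))

/-- Conditions (i)-(iii) in the spelling of the statements. -/
def FamTop {ι : Type u} (n : ι → ℕ) (s : ι → 𝒮.presheaf.obj (op ⊤)) (XT : ι → X.Opens) : Prop :=
  (∀ a, 0 < n a ∧ s a ∈ 𝒮.deg ⊤ hY (n a)) ∧
    (∀ a, XT a = (⨆ V : {V : X.affineOpens //
      ((ℬ.deg V.1 V.2 (n a) : AddSubgroup (ℬ.presheaf.obj (op (V.1 : X.Opens)))) : Set (ℬ.presheaf.obj (op (V.1 : X.Opens)))) ⊆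
        (Ideal.span {(u.appLE ⊤ (V.1 : X.Opens) (le_top.trans (Scheme.Hom.preimage_top q).ge)).hom (s a)} : Set (ℬ.presheaf.obj (op (V.1 : X.Opens))))},
      (V.1.1 : X.Opens))) ∧
    (⨆ a, XT a) = ⊤ ∧ (∀ a, IsAffineOpen (XT a)) ∧
    (∀ (a : ι) (t : X.presheaf.obj (op (XT a))), ∃ (m : ℕ) (_ : 0 < m) (s' : 𝒮.presheaf.obj (op ⊤)) (_ : s' ∈ 𝒮.deg ⊤ hY (m * n a)),
      (ℬ.str.app (op (XT a))).hom t * ((u.appLE ⊤ (XT a) (le_top.trans (Scheme.Hom.preimage_top q).ge)).hom (s a)) ^ m =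
        (u.appLE ⊤ (XT a) (le_top.trans (Scheme.Hom.preimage_top q).ge)).hom s')

theorem famTop_iff {ι : Type u} (n : ι → ℕ) (s : ι → 𝒮.presheaf.obj (op ⊤)) (XT : ι → X.Opens) :
    FamTop u hY n s XT ↔ (XT = fun a => nvs u ⊤ (s a) (n a)) ∧ Fam u ⊤ hY n s := by
  constructor
  · rintro ⟨h1, h2, h3, h4, h5⟩
    obtain rfl : XT = fun a => nvs u ⊤ (s a) (n a) := funext fun a => (h2 a).trans (nvs_top u _ _)
    refine ⟨rfl, fun a => (h1 a).1, fun a => (h1 a).2, fun x _ => ?_, h4, h5⟩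
    exact Opens.mem_iSup.mp (h3.ge (show x ∈ (⊤ : X.Opens) from trivial))
  · rintro ⟨rfl, h⟩
    exact ⟨fun a => ⟨h.pos a, h.mem a⟩, fun a => (nvs_top u _ _).symm,
      top_le_iff.mp fun x _ => Opens.mem_iSup.mpr (h.cov x trivial), h.aff, h.surj⟩

variable {P : Scheme.{u}} {p : P ⟶ Y}
  {chart : ∀ (U : Y.Opens) (hU : IsAffineOpen U), (((p ⁻¹ᵁ U : P.Opens) : Scheme.{u}) ≅ Proj (𝒮.deg U hU))}
  (hP : RelProj.IsRelProj 𝒮 p chart)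
  {PL : Scheme.{u}} {pL : PL ⟶ X}
  {chartL : ∀ (U : X.Opens) (hU : IsAffineOpen U), (((pL ⁻¹ᵁ U : PL.Opens) : Scheme.{u}) ≅ Proj (ℬ.deg U hU))}
  (hPL : RelProj.IsRelProj ℬ pL chartL) (hB : IsLineAlg ℬ)
  {r : ((RelProj.domQ u pL chartL : PL.Opens) : Scheme.{u}) ⟶ P}
  (hr : RelProj.IsProjQMapOn u p chart pL chartL (RelProj.domQ u pL chartL) r)

include hP hPL hB hr in
theorem isImmersion_iff : (RelProj.domQ u pL chartL = ⊤ ∧ IsImmersion r) ↔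
    ∃ (ι : Type u) (n : ι → ℕ) (s : ι → 𝒮.presheaf.obj (op ⊤)) (XT : ι → X.Opens), FamTop u hY n s XT := by
  constructor
  · rintro ⟨h1, h2⟩
    obtain ⟨ι, n, s, h⟩ := exists_fam_imm u hP hPL hB hr h1 h2 ⊤ hY
    exact ⟨ι, n, s, _, (famTop_iff u hY n s _).mpr ⟨rfl, h⟩⟩
  · rintro ⟨ι, n, s, XT, h⟩
    exact isImmersion_of_fam u hP hPL hB hr fun y => ⟨⊤, hY, ι, n, s, trivial, ((famTop_iff u hY n s _).mp h).2⟩

include hP hPL hB hr in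
theorem isOpenImmersion_iff : (RelProj.domQ u pL chartL = ⊤ ∧ IsOpenImmersion r) ↔
    ∃ (ι : Type u) (n : ι → ℕ) (s : ι → 𝒮.presheaf.obj (op ⊤)) (XT : ι → X.Opens), FamTop u hY n s XT ∧
        (∀ (a : ι) (m : ℕ), 0 < m → ∀ s' ∈ 𝒮.deg ⊤ hY (m * n a),
            (u.appLE ⊤ (XT a) (le_top.trans (Scheme.Hom.preimage_top q).ge)).hom s' = 0 → ∃ (k : ℕ), 0 < k ∧ (s a) ^ k * s' = 0) := by
  constructor
  · rintro ⟨h1, h2⟩
    obtain ⟨ι, n, s, h, h'⟩ := exists_fam_open u hP hPL hB hr h1 h2 ⊤ hY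
    exact ⟨ι, n, s, _, (famTop_iff u hY n s _).mpr ⟨rfl, h⟩, h'⟩
  · rintro ⟨ι, n, s, XT, h, h'⟩
    obtain ⟨rfl, h2⟩ := (famTop_iff u hY n s _).mp h
    exact isOpenImmersion_of_fam u hP hPL hB hr fun y => ⟨⊤, hY, ι, n, s, trivial, h2, h'⟩

include hP hPL hB hr in
theorem isClosedImmersion_iff : (RelProj.domQ u pL chartL = ⊤ ∧ IsClosedImmersion r) ↔
    ∃ (ι : Type u) (n : ι → ℕ) (s : ι → 𝒮.presheaf.obj (op ⊤)) (XT : ι → X.Opens), FamTop u hY n s XT ∧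
        (⨆ a, Proj.basicOpen (𝒮.deg ⊤ hY) (s a)) = ⊤ := by
  constructor
  · rintro ⟨h1, h2⟩
    obtain ⟨ι, n, s, h, h'⟩ := exists_fam_closed u hP hPL hB hr h1 h2 ⊤ hY
    exact ⟨ι, n, s, _, (famTop_iff u hY n s _).mpr ⟨rfl, h⟩, h'⟩
  · rintro ⟨ι, n, s, XT, h, h'⟩
    exact isClosedImmersion_of_fam u hP hPL hB hr fun y =>
      ⟨⊤, hY, ι, n, s, trivial, ((famTop_iff u hY n s _).mp h).2, h'⟩

end K41.RImmTop
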