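import Groth.Agent.EGA2.K41.RPhi

/-!
# The morphism `r_{L,ψ}` over a standard open: the ring homomorphism `𝒮(U)_(s) → Γ(X, X_s)`
-/

set_option autoImplicit false
set_option linter.unusedSectionVars false
universe u
open CategoryTheory CategoryTheory.Limits AlgebraicGeometry TopologicalSpace Opposite
open scoped HomogeneousIdeal

noncomputable section

namespace K41.RKappa
open K41.LineAlg K41.LineRing K41.NV K41.PLine K41.RPhi K42.DomQ K42.DomMap

section general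

variable {X : Scheme.{u}}

/-- The ring homomorphism attached to a morphism from an open subscheme to an affine scheme. -/
def homOfMor {W : X.Opens} {R : Type u} [CommRing R] (k : (W : Scheme.{u}) ⟶ Spec (CommRingCat.of R)) :
    R →+* Γ(X, W) :=
  ((Scheme.ΓSpecIso (CommRingCat.of R)).inv ≫ k.appTop ≫ W.topIso.hom).hom

theorem toSpecΓ_homOfMor {W : X.Opens} {R : Type u} [CommRing R] (k : (W : Scheme.{u}) ⟶ Spec (CommRingCat.of R)) :
    W.toSpecΓ ≫ Spec.map (CommRingCat.ofHom (homOfMor k)) = k := by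
  rw [homOfMor, CommRingCat.ofHom_hom, Scheme.Opens.toSpecΓ, Category.assoc, ← Spec.map_comp, Category.assoc,
    Category.assoc, Iso.hom_inv_id, Category.comp_id, Spec.map_comp, ← Scheme.toSpecΓ_naturality_assoc,
    toSpecΓ_SpecMap_ΓSpecIso_inv, Category.comp_id]

/-- The inclusion of an affine open `V ≤ W`, as a morphism from `Spec`. -/
def jV {V W : X.Opens} (hV : IsAffineOpen V) (h : V ≤ W) : Spec Γ(X, V) ⟶ (W : Scheme.{u}) :=
  hV.isoSpec.inv ≫ X.homOfLE h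

theorem jV_ι {V W : X.Opens} (hV : IsAffineOpen V) (h : V ≤ W) : jV hV h ≫ W.ι = hV.fromSpec := by
  rw [jV, Category.assoc, Scheme.homOfLE_ι, IsAffineOpen.isoSpec_inv_ι]

theorem jV_toSpecΓ {V W : X.Opens} (hV : IsAffineOpen V) (h : V ≤ W) :
    jV hV h ≫ W.toSpecΓ = Spec.map (X.presheaf.map (homOfLE h).op) := by
  rw [jV, Category.assoc, ← Scheme.Opens.toSpecΓ_SpecMap_presheaf_map, IsAffineOpen.isoSpec_inv_toSpecΓ_assoc]

end general

variable {X Y : Scheme.{u}} {q : X ⟶ Y} {𝒮 : RelProj.QCGrAlg Y} {ℬ : RelProj.QCGrAlg X}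
  (u : RelProj.QGrHom q 𝒮 ℬ)
  {P : Scheme.{u}} {p : P ⟶ Y}
  {chart : ∀ (U : Y.Opens) (hU : IsAffineOpen U), (((p ⁻¹ᵁ U : P.Opens) : Scheme.{u}) ≅ Proj (𝒮.deg U hU))}
  (hP : RelProj.IsRelProj 𝒮 p chart)
  {PL : Scheme.{u}} {pL : PL ⟶ X}
  {chartL : ∀ (U : X.Opens) (hU : IsAffineOpen U), (((pL ⁻¹ᵁ U : PL.Opens) : Scheme.{u}) ≅ Proj (ℬ.deg U hU))}
  (hPL : RelProj.IsRelProj ℬ pL chartL) (hB : IsLineAlg ℬ)
  {r : ((RelProj.domQ u pL chartL : PL.Opens) : Scheme.{u}) ⟶ P}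
  (hr : RelProj.IsProjQMapOn u p chart pL chartL (RelProj.domQ u pL chartL) r)

section lift

variable (pL chartL) [IsIso pL]

/-- An open `W` of `X` whose inverse image in `Proj ℬ` lies in `G(ψ)`, mapped to `G(ψ)`. -/
def lft (W : X.Opens) (hW : pL ⁻¹ᵁ W ≤ RelProj.domQ u pL chartL) :
    (W : Scheme.{u}) ⟶ ((RelProj.domQ u pL chartL : PL.Opens) : Scheme.{u}) :=
  IsOpenImmersion.lift (RelProj.domQ u pL chartL).ι (W.ι ≫ inv pL) (by
    rw [Scheme.Opens.range_ι]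
    rintro _ ⟨x, rfl⟩
    refine hW ?_
    change pL.base ((inv pL).base (W.ι.base x)) ∈ W
    have e : pL.base ((inv pL).base (W.ι.base x)) = W.ι.base x := by
      change (inv pL ≫ pL).base (W.ι.base x) = _
      rw [IsIso.inv_hom_id]; rfl
    rw [e]; exact x.2)

theorem lft_ι (W : X.Opens) (hW : pL ⁻¹ᵁ W ≤ RelProj.domQ u pL chartL) :
    lft u pL chartL W hW ≫ (RelProj.domQ u pL chartL).ι = W.ι ≫ inv pL :=
  IsOpenImmersion.lift_fac _ _ _

theorem lft_ι_pL (W : X.Opens) (hW : pL ⁻¹ᵁ W ≤ RelProj.domQ u pL chartL) :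
    lft u pL chartL W hW ≫ (RelProj.domQ u pL chartL).ι ≫ pL = W.ι := by
  rw [← Category.assoc, lft_ι, Category.assoc, IsIso.inv_hom_id, Category.comp_id]

instance isOpenImmersion_lft (W : X.Opens) (hW : pL ⁻¹ᵁ W ≤ RelProj.domQ u pL chartL) :
    IsOpenImmersion (lft u pL chartL W hW) := by
  have : IsOpenImmersion (lft u pL chartL W hW ≫ (RelProj.domQ u pL chartL).ι) := by
    rw [lft_ι]; infer_instance
  exact IsOpenImmersion.of_comp _ (RelProj.domQ u pL chartL).ι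

theorem opensRange_lft (W : X.Opens) (hW : pL ⁻¹ᵁ W ≤ RelProj.domQ u pL chartL) :
    (lft u pL chartL W hW).opensRange = (RelProj.domQ u pL chartL).ι ⁻¹ᵁ (pL ⁻¹ᵁ W) := by
  ext x
  constructor
  · rintro ⟨w, rfl⟩
    change ((lft u pL chartL W hW ≫ (RelProj.domQ u pL chartL).ι ≫ pL).base w) ∈ W
    rw [lft_ι_pL]; exact w.2
  · intro hx
    refine ⟨⟨pL.base x.1, hx⟩, ?_⟩
    apply ((RelProj.domQ u pL chartL).ι ≫ pL).isOpenEmbedding.injective
    change (lft u pL chartL W hW ≫ (RelProj.domQ u pL chartL).ι ≫ pL).base _ = _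
    rw [lft_ι_pL]; rfl

theorem homOfLE_lft {W W' : X.Opens} (h : W' ≤ W) (hW : pL ⁻¹ᵁ W ≤ RelProj.domQ u pL chartL)
    (hW' : pL ⁻¹ᵁ W' ≤ RelProj.domQ u pL chartL) :
    X.homOfLE h ≫ lft u pL chartL W hW = lft u pL chartL W' hW' := by
  rw [← cancel_mono ((RelProj.domQ u pL chartL).ι ≫ pL), Category.assoc, lft_ι_pL, lft_ι_pL, Scheme.homOfLE_ι]

end lift

/-- The ring homomorphism `Γ(X, V) → ℬ(V)_(f)`. -/
def iotaV (V : X.Opens) (hV : IsAffineOpen V) (f : ℬ.presheaf.obj (op V)) :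
    Γ(X, V) →+* HomogeneousLocalization.Away (ℬ.deg V hV) f :=
  (HomogeneousLocalization.fromZeroRingHom (ℬ.deg V hV) (Submonoid.powers f)).comp
      (toZero (ℬ.deg V hV) (LineAlg.str ℬ V) (fun r => ℬ.str_mem V hV r))

include hPL in
theorem awayEmb_pL (U : Y.Opens) (hU : IsAffineOpen U) (V : X.Opens) (hV : IsAffineOpen V) (hle : V ≤ q ⁻¹ᵁ U)
    {d : ℕ} (hd : 0 < d) (s : 𝒮.presheaf.obj (op U)) (hs : s ∈ 𝒮.deg U hU d) :
    RelProj.awayEmb u pL chartL U hU V hV hle hd s hs ≫ pL =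
      Spec.map (CommRingCat.ofHom (iotaV V hV (u.gradedAt U hU V hV hle s))) ≫ hV.fromSpec := by
  rw [RelProj.awayEmb, Category.assoc, emb_toSpec hPL, toSpec, Category.assoc, Proj.awayι_toSpecZero_assoc,
    ← Category.assoc, ← Spec.map_comp]
  rfl

variable (chartL) in
include hPL in
theorem affOn_eq [IsIso pL] (U : Y.Opens) (hU : IsAffineOpen U) (V : X.Opens) (hV : IsAffineOpen V)
    (hle : V ≤ q ⁻¹ᵁ U) {d : ℕ} (hd : 0 < d) (s : 𝒮.presheaf.obj (op U)) (hs : s ∈ 𝒮.deg U hU d) {W : X.Opens} (h : V ≤ W)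
    (hW : pL ⁻¹ᵁ W ≤ RelProj.domQ u pL chartL) :
    affOn u pL chartL U hU V hV hle hd s hs =
      Spec.map (CommRingCat.ofHom (iotaV V hV (u.gradedAt U hU V hV hle s))) ≫ jV hV h ≫ lft u pL chartL W hW := by
  rw [← cancel_mono ((RelProj.domQ u pL chartL).ι ≫ pL), Category.assoc, Category.assoc, lft_ι_pL, jV_ι,
    ← awayEmb_pL u hPL, ← Category.assoc, affOn_ι]

/-- In `ℬ(V)_(f)` with `f` regular, `t / 1 = x / f ^ m` means `t f ^ m = x`. -/
theorem iotaV_eq_mk_iff (V : X.Opens) (hV : IsAffineOpen V) {d : ℕ} {f : ℬ.presheaf.obj (op V)} (hf : f ∈ ℬ.deg V hV d)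
    (hreg : ∀ (x : ℬ.presheaf.obj (op V)) (n : ℕ), x * f ^ n = 0 → x = 0) (t : Γ(X, V)) (m : ℕ)
    (x : ℬ.presheaf.obj (op V)) (hx : x ∈ ℬ.deg V hV (m • d)) :
    iotaV V hV f t = HomogeneousLocalization.Away.mk (ℬ.deg V hV) hf m x hx ↔ LineAlg.str ℬ V t * f ^ m = x := by
  have h2 : (iotaV V hV f t).val = Localization.mk (LineAlg.str ℬ V t) 1 := rfl
  rw [← HomogeneousLocalization.val_injective _ |>.eq_iff, h2, HomogeneousLocalization.Away.val_mk,
    Localization.mk_eq_mk_iff, Localization.r_iff_exists]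
  constructor
  · rintro ⟨⟨_, k, rfl⟩, hk⟩
    have h3 : (LineAlg.str ℬ V t * f ^ m - x) * f ^ k = 0 := by
      simp only [OneMemClass.coe_one, one_mul] at hk
      rw [sub_mul, sub_eq_zero]
      calc LineAlg.str ℬ V t * f ^ m * f ^ k = f ^ k * (f ^ m * LineAlg.str ℬ V t) := by ring
        _ = f ^ k * x := hk
        _ = x * f ^ k := by ring
    exact sub_eq_zero.mp (hreg _ _ h3)
  · intro h
    refine ⟨1, ?_⟩
    simp only [OneMemClass.coe_one, one_mul]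
    rw [← h]; ring

/-- A nonvanishing section is regular on line charts. -/
theorem regular_of_line {V : X.Opens} {hV : IsAffineOpen V} {T : ℬ.presheaf.obj (op V)} (hT : LineOn ℬ V hV T)
    {W : X.Opens} (h : V ≤ W) {t : ℬ.presheaf.obj (op W)} {d : ℕ} (ht : IsHom t d) (hnv : V ≤ nv t d)
    (x : ℬ.presheaf.obj (op V)) (n : ℕ) (hx : x * LineAlg.res ℬ h t ^ n = 0) : x = 0 := by
  obtain ⟨a, ha⟩ := hT.surj d _ (ht V hV h)
  have h1 := nv_inf_line hT h t d a ha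
  rw [inf_eq_right.mpr hnv] at h1
  have hu : IsUnit a := by
    have h2 := isUnit_resO V a
    have h3 : ∀ (W : X.Opens) (e : W = V) (i : W ≤ V), IsUnit (resO i a) → IsUnit a := by
      rintro W rfl i hi
      rwa [resO_self] at hi
    exact h3 _ h1.symm (X.basicOpen_le a) h2
  rw [ha, mul_pow, ← pow_mul, mul_comm (LineAlg.str ℬ V a ^ n), ← mul_assoc] at hx
  have h4 := ((hu.map (LineAlg.str ℬ V)).pow n).mul_left_eq_zero.mp hx
  exact hT.mul_pow_cancel h4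

end K41.RKappa
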