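import Groth.Agent.EGA2.K41.RKappa

/-!
# The ring homomorphism `κ : 𝒮(U)_(s) → Γ(X, W)` for `W ≤ X_s`, and the cartesian square over `D₊(s)`
-/

set_option autoImplicit false
set_option linter.unusedSectionVars false
universe u
open CategoryTheory CategoryTheory.Limits AlgebraicGeometry TopologicalSpace Opposite
open scoped HomogeneousIdeal

noncomputable section

namespace K41.RKappa2
open K41.LineAlg K41.LineRing K41.NV K41.PLine K41.RPhi K41.RKappa K42.DomQ K42.DomMap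

variable {X Y : Scheme.{u}} {q : X ⟶ Y} {𝒮 : RelProj.QCGrAlg Y} {ℬ : RelProj.QCGrAlg X}

section sheaf

/-- Sections of `ℬ` agreeing on the line charts inside `W` are equal. -/
theorem ext_line (hB : IsLineAlg ℬ) {W : X.Opens} {a b : ℬ.presheaf.obj (op W)}
    (h : ∀ (V : X.Opens) (hV : IsAffineOpen V) (T : ℬ.presheaf.obj (op V)) (_ : LineOn ℬ V hV T) (i : V ≤ W),
      LineAlg.res ℬ i a = LineAlg.res ℬ i b) : a = b := by
  have H : ∀ x : W, ∃ (V : X.Opens) (i : V ≤ W), x.1 ∈ V ∧ LineAlg.res ℬ i a = LineAlg.res ℬ i b := fun x => by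
    obtain ⟨V, hV, T, hxV, hVW, hT⟩ := exists_lineOn_le hB x.2
    exact ⟨V, hVW, hxV, h V hV T hT hVW⟩
  choose V i hx he using H
  let F : TopCat.Sheaf CommRingCat.{u} X.carrier := ⟨ℬ.presheaf, ℬ.isSheaf⟩
  exact TopCat.Sheaf.eq_of_locally_eq' F V W (fun x => homOfLE (i x))
    (fun x hxW => Opens.mem_iSup.mpr ⟨⟨x, hxW⟩, hx ⟨x, hxW⟩⟩) _ _ he

/-- Functions agreeing on the line charts inside `W` are equal. -/
theorem ext_lineO (hB : IsLineAlg ℬ) {W : X.Opens} {a b : Γ(X, W)}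
    (h : ∀ (V : X.Opens) (hV : IsAffineOpen V) (T : ℬ.presheaf.obj (op V)) (_ : LineOn ℬ V hV T) (i : V ≤ W),
      resO i a = resO i b) : a = b := by
  have H : ∀ x : W, ∃ (V : X.Opens) (i : V ≤ W), x.1 ∈ V ∧ resO i a = resO i b := fun x => by
    obtain ⟨V, hV, T, hxV, hVW, hT⟩ := exists_lineOn_le hB x.2
    exact ⟨V, hVW, hxV, h V hV T hT hVW⟩
  choose V i hx he using H
  exact TopCat.Sheaf.eq_of_locally_eq' X.sheaf V W (fun x => homOfLE (i x))
    (fun x hxW => Opens.mem_iSup.mpr ⟨⟨x, hxW⟩, hx ⟨x, hxW⟩⟩) _ _ he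

/-- Multiplication by a power of a nonvanishing section is injective on functions. -/
theorem str_mul_inj (hB : IsLineAlg ℬ) {W W' : X.Opens} (i : W ≤ W') {t : ℬ.presheaf.obj (op W')} {d : ℕ}
    (ht : IsHom t d) (hW : W ≤ nv t d) (m : ℕ) {a b : Γ(X, W)}
    (h : LineAlg.str ℬ W a * LineAlg.res ℬ i t ^ m = LineAlg.str ℬ W b * LineAlg.res ℬ i t ^ m) : a = b := by
  refine ext_lineO hB fun V hV T hT j => ?_
  have h1 := congrArg (LineAlg.res ℬ j) h
  rw [map_mul, map_mul, map_pow, res_res, res_str, res_str] at h1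
  have h2 := regular_of_line hT (j.trans i) ht (j.trans hW)
    (LineAlg.str ℬ V (resO j a) - LineAlg.str ℬ V (resO j b)) m (by rw [sub_mul, h1, sub_self])
  exact hT.φ_injective (sub_eq_zero.mp h2)

end sheaf

variable (u : RelProj.QGrHom q 𝒮 ℬ)
  {P : Scheme.{u}} {p : P ⟶ Y}
  {chart : ∀ (U : Y.Opens) (hU : IsAffineOpen U), (((p ⁻¹ᵁ U : P.Opens) : Scheme.{u}) ≅ Proj (𝒮.deg U hU))}
  (hP : RelProj.IsRelProj 𝒮 p chart)
  {PL : Scheme.{u}} {pL : PL ⟶ X} [IsIso pL]
  {chartL : ∀ (U : X.Opens) (hU : IsAffineOpen U), (((pL ⁻¹ᵁ U : PL.Opens) : Scheme.{u}) ≅ Proj (ℬ.deg U hU))}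
  (hPL : RelProj.IsRelProj ℬ pL chartL) (hB : IsLineAlg ℬ)
  {r : ((RelProj.domQ u pL chartL : PL.Opens) : Scheme.{u}) ⟶ P}
  (hr : RelProj.IsProjQMapOn u p chart pL chartL (RelProj.domQ u pL chartL) r)
  {U : Y.Opens} (hU : IsAffineOpen U) {d : ℕ} (hd : 0 < d) {s : 𝒮.presheaf.obj (op U)} (hs : s ∈ 𝒮.deg U hU d)
  {W : X.Opens} (hW : W ≤ nvs u U s d)

include hPL hB hU hd hs hW in
theorem preimage_le : pL ⁻¹ᵁ W ≤ RelProj.domQ u pL chartL :=
  (Scheme.Hom.preimage_mono pL hW).trans (preimage_nvs_le u hPL hB hU hd hs)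

/-- The morphism `W ⟶ Spec 𝒮(U)_(s)` given by `r_{L,ψ}` for `W ≤ X_s`. -/
def kmor : (W : Scheme.{u}) ⟶ Spec (CommRingCat.of (HomogeneousLocalization.Away (𝒮.deg U hU) s)) :=
  IsOpenImmersion.lift (aff p chart U hU hd s hs) (lft u pL chartL W (preimage_le u hPL hB hU hd hs hW) ≫ r) (by
    have e : (Set.range (aff p chart U hU hd s hs).base) = (std p chart U hU s : Set P) :=
      congrArg (fun O : P.Opens => (O : Set P)) (opensRange_aff U hU hd s hs)
    rw [e]
    rintro _ ⟨x, rfl⟩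
    have h1 : (lft u pL chartL W (preimage_le u hPL hB hU hd hs hW)).base x ∈ r ⁻¹ᵁ std p chart U hU s := by
      rw [preimage_std u hP hPL hB hr hU hd hs]
      have h2 : (lft u pL chartL W (preimage_le u hPL hB hU hd hs hW)).base x ∈
          (lft u pL chartL W (preimage_le u hPL hB hU hd hs hW)).opensRange := ⟨x, rfl⟩
      rw [opensRange_lft] at h2
      exact Scheme.Hom.preimage_mono _ (Scheme.Hom.preimage_mono pL hW) h2
    exact h1)

theorem kmor_aff : kmor u hP hPL hB hr hU hd hs hW ≫ aff p chart U hU hd s hs =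
    lft u pL chartL W (preimage_le u hPL hB hU hd hs hW) ≫ r := IsOpenImmersion.lift_fac _ _ _

/-- The ring homomorphism `𝒮(U)_(s) → Γ(X, W)` given by `r_{L,ψ}` for `W ≤ X_s`. -/
def kappa : HomogeneousLocalization.Away (𝒮.deg U hU) s →+* Γ(X, W) :=
  homOfMor (kmor u hP hPL hB hr hU hd hs hW)

theorem toSpecΓ_kappa : W.toSpecΓ ≫ Spec.map (CommRingCat.ofHom (kappa u hP hPL hB hr hU hd hs hW)) =
    kmor u hP hPL hB hr hU hd hs hW := toSpecΓ_homOfMor _

theorem kappa_chart {V : X.Opens} (hV : IsAffineOpen V) (h : V ≤ W) (hle : V ≤ q ⁻¹ᵁ U) :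
    (iotaV V hV (u.gradedAt U hU V hV hle s)).comp ((resO h).comp (kappa u hP hPL hB hr hU hd hs hW)) =
      HomogeneousLocalization.Away.map (u.gradedAt U hU V hV hle) s := by
  have h1 := affOn_comp hr U hU V hV hle hd s hs
  rw [affOn_eq u chartL hPL U hU V hV hle hd s hs h (preimage_le u hPL hB hU hd hs hW), Category.assoc, Category.assoc,
    ← kmor_aff u hP hPL hB hr hU hd hs hW, ← Category.assoc, ← Category.assoc, cancel_mono,
    ← toSpecΓ_kappa u hP hPL hB hr hU hd hs hW, Category.assoc, ← Category.assoc (jV hV h), jV_toSpecΓ,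
    ← Spec.map_comp, ← Spec.map_comp] at h1
  exact congrArg CommRingCat.Hom.hom (Spec.map_injective h1)

/-- **The characterization of `κ`**: `κ(s'/s^m) u(s)^m = u(s')`. -/
theorem kappa_mk (m : ℕ) (s' : 𝒮.presheaf.obj (op U)) (hs' : s' ∈ 𝒮.deg U hU (m • d)) (i : W ≤ q ⁻¹ᵁ U) :
    LineAlg.str ℬ W (kappa u hP hPL hB hr hU hd hs hW (HomogeneousLocalization.Away.mk (𝒮.deg U hU) hs m s' hs')) *
      LineAlg.res ℬ i (us u U s) ^ m = LineAlg.res ℬ i (us u U s') := by
  refine ext_line hB fun V hV T hT j => ?_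
  rw [map_mul, map_pow, res_res, res_res, res_str]
  have h1 := RingHom.congr_fun (kappa_chart u hP hPL hB hr hU hd hs hW hV j (j.trans i))
    (HomogeneousLocalization.Away.mk (𝒮.deg U hU) hs m s' hs')
  rw [HomogeneousLocalization.Away.map_mk] at h1
  exact (iotaV_eq_mk_iff V hV ((u.gradedAt U hU V hV (j.trans i)).map_mem hs)
    (fun x n hx => regular_of_line hT (j.trans i) (isHom_us u hU hs) (j.trans hW) x n hx) _ m _ _).mp h1

theorem kappa_eq_iff (m : ℕ) (s' : 𝒮.presheaf.obj (op U)) (hs' : s' ∈ 𝒮.deg U hU (m • d)) (i : W ≤ q ⁻¹ᵁ U)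
    (t : Γ(X, W)) :
    kappa u hP hPL hB hr hU hd hs hW (HomogeneousLocalization.Away.mk (𝒮.deg U hU) hs m s' hs') = t ↔
      LineAlg.str ℬ W t * LineAlg.res ℬ i (us u U s) ^ m = LineAlg.res ℬ i (us u U s') := by
  constructor
  · rintro rfl; exact kappa_mk u hP hPL hB hr hU hd hs hW m s' hs' i
  · intro h
    exact str_mul_inj hB i (isHom_us u hU hs) hW m ((kappa_mk u hP hPL hB hr hU hd hs hW m s' hs' i).trans h.symm)

theorem isPullback_kmor : IsPullback (kmor u hP hPL hB hr hU hd hs (le_refl (nvs u U s d)))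
    (lft u pL chartL (nvs u U s d) (preimage_le u hPL hB hU hd hs (le_refl _))) (aff p chart U hU hd s hs) r := by
  refine IsOpenImmersion.isPullback _ _ _ _ (kmor_aff u hP hPL hB hr hU hd hs _).symm ?_
  rw [opensRange_aff, opensRange_lft, preimage_std u hP hPL hB hr hU hd hs]

end K41.RKappa2
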