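import Groth.Agent.EGA2.K41.PLine
import Groth.Agent.EGA2.K42.DomMap

/-!
# The morphism `r_{L,ψ}`: inverse images of the standard opens

`ℬ` is a line algebra on `X` (locally `O[T]`, e.g. `⊕ L^n` for `L` invertible), `u : 𝒮 → q_* ℬ` a graded `q`-morphism.
For `U` affine in `Y` and `s ∈ 𝒮(U)_d`, `nvs u U s d` is the open of `q⁻¹(U)` where `u(s)` does not vanish.
-/

set_option autoImplicit false
set_option linter.unusedSectionVars false
universe u
open CategoryTheory CategoryTheory.Limits AlgebraicGeometry TopologicalSpace Opposite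
open scoped HomogeneousIdeal

noncomputable section

namespace K41.RPhi
open K41.LineAlg K41.LineRing K41.NV K41.PLine K42.DomQ K42.DomMap

variable {X Y : Scheme.{u}} {q : X ⟶ Y} {𝒮 : RelProj.QCGrAlg Y} {ℬ : RelProj.QCGrAlg X}
  (u : RelProj.QGrHom q 𝒮 ℬ)

/-- The section `u(s)` of `ℬ` over `q⁻¹(U)`. -/
def us (U : Y.Opens) (s : 𝒮.presheaf.obj (op U)) : ℬ.presheaf.obj (op (q ⁻¹ᵁ U)) := (u.app U).hom s

theorem res_us {U : Y.Opens} (s : 𝒮.presheaf.obj (op U)) {V : X.Opens} (h : V ≤ q ⁻¹ᵁ U) :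
    LineAlg.res ℬ h (us u U s) = (u.appLE U V h).hom s := rfl

theorem isHom_us {U : Y.Opens} (hU : IsAffineOpen U) {d : ℕ} {s : 𝒮.presheaf.obj (op U)} (hs : s ∈ 𝒮.deg U hU d) :
    IsHom (us u U s) d := fun V hV i => u.map_mem U hU V hV i hs

theorem us_mul {U : Y.Opens} (s t : 𝒮.presheaf.obj (op U)) : us u U (s * t) = us u U s * us u U t := map_mul _ _ _

theorem us_pow {U : Y.Opens} (s : 𝒮.presheaf.obj (op U)) (n : ℕ) : us u U (s ^ n) = us u U s ^ n := map_pow _ _ _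

/-- The open of `X` over `U` where `u(s)` does not vanish. -/
def nvs (U : Y.Opens) (s : 𝒮.presheaf.obj (op U)) (d : ℕ) : X.Opens := nv (us u U s) d

theorem nvs_le (U : Y.Opens) (s : 𝒮.presheaf.obj (op U)) (d : ℕ) : nvs u U s d ≤ q ⁻¹ᵁ U := nv_le _ _

variable {P : Scheme.{u}} {p : P ⟶ Y}
  {chart : ∀ (U : Y.Opens) (hU : IsAffineOpen U), (((p ⁻¹ᵁ U : P.Opens) : Scheme.{u}) ≅ Proj (𝒮.deg U hU))}
  (hP : RelProj.IsRelProj 𝒮 p chart)
  {PL : Scheme.{u}} {pL : PL ⟶ X}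
  {chartL : ∀ (U : X.Opens) (hU : IsAffineOpen U), (((pL ⁻¹ᵁ U : PL.Opens) : Scheme.{u}) ≅ Proj (ℬ.deg U hU))}
  (hPL : RelProj.IsRelProj ℬ pL chartL) (hB : IsLineAlg ℬ)
  {r : ((RelProj.domQ u pL chartL : PL.Opens) : Scheme.{u}) ⟶ P}
  (hr : RelProj.IsProjQMapOn u p chart pL chartL (RelProj.domQ u pL chartL) r)

include hPL in
/-- On a line chart `V` of `X`: the part of `Proj ℬ` over `V` and `nvs u U s` is `D₊(u s)`. -/
theorem mem_nvs_iff {V : X.Opens} {hV : IsAffineOpen V} {T : ℬ.presheaf.obj (op V)} (hT : LineOn ℬ V hV T)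
    {U : Y.Opens} (hU : IsAffineOpen U) (hle : V ≤ q ⁻¹ᵁ U) {d : ℕ} {s : 𝒮.presheaf.obj (op U)}
    (hs : s ∈ 𝒮.deg U hU d) {x : PL} (hx : x ∈ pL ⁻¹ᵁ V) :
    pL.base x ∈ nvs u U s d ↔ x ∈ std pL chartL V hV (u.gradedAt U hU V hV hle s) := by
  obtain ⟨z, rfl⟩ := exists_emb_eq pL chartL V hV x hx
  rw [emb_mem_std_iff, RelProj.QGrHom.gradedAt_apply, ← res_us u s hle, ← Proj.mem_basicOpen,
    ← emb_preimage_nv hPL hT hle (isHom_us u hU hs)]
  rfl

include hPL hB in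
/-- `pL⁻¹` of the nonvanishing open lies in `G(ψ)` (for `d > 0`). -/
theorem preimage_nvs_le {U : Y.Opens} (hU : IsAffineOpen U) {d : ℕ} (hd : 0 < d) {s : 𝒮.presheaf.obj (op U)}
    (hs : s ∈ 𝒮.deg U hU d) : pL ⁻¹ᵁ nvs u U s d ≤ RelProj.domQ u pL chartL := by
  intro x hx
  obtain ⟨V, hV, T, hxV, hVU, hT⟩ := exists_lineOn_le hB (nvs_le u U s d hx)
  have h1 := (mem_nvs_iff u hPL hT hU hVU hs hxV).mp hx
  exact std_le_domQ u U hU V hV hVU hd s hs h1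

include hPL hB in
/-- `G(ψ)` is the union of the parts over the nonvanishing opens. -/
theorem mem_domQ_iff {U : Y.Opens} (hU : IsAffineOpen U) {x : PL} (hx : pL.base x ∈ q ⁻¹ᵁ U) :
    x ∈ RelProj.domQ u pL chartL ↔
      ∃ (d : ℕ) (_ : 0 < d) (s : 𝒮.presheaf.obj (op U)) (_ : s ∈ 𝒮.deg U hU d), pL.base x ∈ nvs u U s d := by
  constructor
  · intro h
    obtain ⟨V, hV, T, hxV, hVU, hT⟩ := exists_lineOn_le hB hx
    obtain ⟨d, hd, s, hs, hxs⟩ := exists_mem_std_of_mem_domQ u hPL U hU V hV hVU x h hxV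
    exact ⟨d, hd, s, hs, (mem_nvs_iff u hPL hT hU hVU hs hxV).mpr hxs⟩
  · rintro ⟨d, hd, s, hs, h⟩
    exact preimage_nvs_le u hPL hB hU hd hs h

include hP hPL hB hr in
/-- **The inverse image of a standard open**: `r⁻¹(D₊(s))` is the part of `Proj ℬ = X` where `u(s)` does not vanish. -/
theorem preimage_std {U : Y.Opens} (hU : IsAffineOpen U) {d : ℕ} (hd : 0 < d) {s : 𝒮.presheaf.obj (op U)}
    (hs : s ∈ 𝒮.deg U hU d) :
    r ⁻¹ᵁ std p chart U hU s = (RelProj.domQ u pL chartL).ι ⁻¹ᵁ (pL ⁻¹ᵁ nvs u U s d) := by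
  ext x
  constructor
  · intro hx
    have h1 : pL.base x.1 ∈ q ⁻¹ᵁ U := by
      have h2 : x ∈ r ⁻¹ᵁ (p ⁻¹ᵁ U) := std_le U hU s hx
      rw [preimage_p u hP hPL hr] at h2
      exact h2
    obtain ⟨V, hV, T, hxV, hVU, hT⟩ := exists_lineOn_le hB h1
    have h3 : x ∈ (RelProj.domQ u pL chartL).ι ⁻¹ᵁ std pL chartL V hV (u.gradedAt U hU V hV hVU s) := by
      rw [← preimage_std_inf hr hPL U hU V hV hVU hd s hs]
      exact ⟨hx, hxV⟩
    exact (mem_nvs_iff u hPL hT hU hVU hs hxV).mpr h3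
  · intro hx
    have h1 : pL.base x.1 ∈ nvs u U s d := hx
    obtain ⟨V, hV, T, hxV, hVU, hT⟩ := exists_lineOn_le hB (nvs_le u U s d h1)
    have h3 : x ∈ (RelProj.domQ u pL chartL).ι ⁻¹ᵁ std pL chartL V hV (u.gradedAt U hU V hV hVU s) :=
      (mem_nvs_iff u hPL hT hU hVU hs hxV).mp h1
    rw [← preimage_std_inf hr hPL U hU V hV hVU hd s hs] at h3
    exact h3.1

include hP hPL hB hr in
theorem image_preimage_std {U : Y.Opens} (hU : IsAffineOpen U) {d : ℕ} (hd : 0 < d) {s : 𝒮.presheaf.obj (op U)}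
    (hs : s ∈ 𝒮.deg U hU d) :
    (RelProj.domQ u pL chartL).ι ''ᵁ (r ⁻¹ᵁ std p chart U hU s) = pL ⁻¹ᵁ nvs u U s d := by
  rw [preimage_std u hP hPL hB hr hU hd hs, Scheme.Hom.image_preimage_eq_opensRange_inf, Scheme.Opens.opensRange_ι,
    inf_eq_right]
  exact preimage_nvs_le u hPL hB hU hd hs

include hPL hB in
/-- `G(ψ)` is everything iff the nonvanishing opens of sections of positive degree cover `X`; the affine opens `U` of `Y`
may be taken in a cover. -/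
theorem domQ_eq_top_iff {ι : Type*} (U : ι → Y.Opens) (hU : ∀ i, IsAffineOpen (U i)) (hc : ∀ x : X, ∃ i, q.base x ∈ U i) :
    RelProj.domQ u pL chartL = ⊤ ↔ ∀ x : X, ∀ i, q.base x ∈ U i →
      ∃ (d : ℕ) (_ : 0 < d) (s : 𝒮.presheaf.obj (op (U i))) (_ : s ∈ 𝒮.deg (U i) (hU i) d), x ∈ nvs u (U i) s d := by
  have hiso := isIso_p hPL hB
  constructor
  · intro h x i hx
    obtain ⟨y, rfl⟩ : ∃ y, pL.base y = x := pL.homeomorph.surjective x
    exact (mem_domQ_iff u hPL hB (hU i) hx).mp (h ▸ trivial)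
  · intro h
    refine top_le_iff.mp fun y _ => ?_
    obtain ⟨i, hi⟩ := hc (pL.base y)
    exact (mem_domQ_iff u hPL hB (hU i) hi).mpr (h _ i hi)

end K41.RPhi
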