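import Groth.Agent.EGA2.K41.RFin
import Groth.Agent.EGA2.K41.SymLine
import Groth.Agent.EGA2.K43.VADef

/-!
# `r_{L,φ} : X ⟶ P(E)` is an everywhere defined immersion iff `VA q φ`

For `E` quasi-coherent with graded symmetric algebra `𝒯`, `φ : E ⟶ q_* L` and `u : 𝒯 → q_*(⊕ L^n)` the extension of `φ`.
-/

set_option autoImplicit false
set_option linter.unusedSectionVars false
universe u
open CategoryTheory CategoryTheory.Limits AlgebraicGeometry TopologicalSpace Opposite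
open scoped HomogeneousIdeal

noncomputable section

namespace K41.RVA
open K41.LineAlg K41.LineRing K41.NV K41.PLine K41.RPhi K41.RFin K41.RImm K41.RKappa K41.RKappa2 K42.DomQ K42.DomMap
open K36.SymAlg

section sym

variable {Y : Scheme.{u}} {E : Y.Modules} (hE : Coh.IsQCoh E) {𝒯 : RelProj.QCGrAlg Y} {jE : E ⟶ 𝒯.toModule}
  (h𝒯 : RelProj.IsGrSymAlg E 𝒯 jE)

include hE h𝒯 in
/-- A subring of `Sym(E)(U)` containing the functions and `E(U)` is everything. -/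
theorem subring_eq_top (U : Y.Opens) (hU : IsAffineOpen U) (D : Subring (𝒯.presheaf.obj (op U)))
    (h1 : ∀ a : Γ(Y, U), (𝒯.str.app (op U)).hom a ∈ D) (h2 : ∀ e : Γ(E, U), jE.app U e ∈ D) : D = ⊤ := by
  refine top_le_iff.mp fun x _ => ?_
  obtain ⟨y, rfl⟩ := (bijective_symHom hE h𝒯.1 U hU).2 x
  induction y using SymmetricAlgebra.induction with
  | algebraMap r => rw [symHom_algebraMap]; exact h1 r
  | ι m => rw [symHom_ι]; exact h2 m
  | mul a b ha hb => rw [map_mul]; exact D.mul_mem (ha trivial) (hb trivial)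
  | add a b ha hb => rw [map_add]; exact D.add_mem (ha trivial) (hb trivial)

include hE h𝒯 in
/-- Every point of `P(E)` over `U` lies in some `D₊(e)`. -/
theorem exists_degOne_notMem (U : Y.Opens) (hU : IsAffineOpen U) (z : Proj (𝒯.deg U hU)) :
    ∃ e : Γ(E, U), jE.app U e ∉ z.asHomogeneousIdeal := by
  classical
  by_contra! hcon
  obtain ⟨d, hd, f, hf, hfz⟩ := exists_notMem z
  let D : Subring (𝒯.presheaf.obj (op U)) :=
    { carrier := {x | ∃ a : Γ(Y, U), x - (𝒯.str.app (op U)).hom a ∈ z.asHomogeneousIdeal.toIdeal}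
      mul_mem' := by
        rintro x y ⟨a, ha⟩ ⟨b, hb⟩
        refine ⟨a * b, ?_⟩
        rw [map_mul]
        have h1 : x * y - (𝒯.str.app (op U)).hom a * (𝒯.str.app (op U)).hom b =
          (x - (𝒯.str.app (op U)).hom a) * y + (𝒯.str.app (op U)).hom a * (y - (𝒯.str.app (op U)).hom b) := by ring
        rw [h1]
        exact add_mem (Ideal.mul_mem_right _ _ ha) (Ideal.mul_mem_left _ _ hb)
      one_mem' := ⟨1, by rw [map_one, sub_self]; exact zero_mem _⟩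
      add_mem' := by
        rintro x y ⟨a, ha⟩ ⟨b, hb⟩
        refine ⟨a + b, ?_⟩
        rw [map_add, add_sub_add_comm]
        exact add_mem ha hb
      zero_mem' := ⟨0, by rw [map_zero, sub_self]; exact zero_mem _⟩
      neg_mem' := by
        rintro x ⟨a, ha⟩
        refine ⟨-a, ?_⟩
        rw [map_neg, ← neg_sub_neg, neg_neg, neg_neg, ← neg_sub]
        exact neg_mem ha }
  have hD := subring_eq_top hE h𝒯 U hU D (fun a => ⟨a, by rw [sub_self]; exact zero_mem _⟩)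
    (fun e => ⟨0, by rw [map_zero, sub_zero]; exact hcon e⟩)
  obtain ⟨a, ha⟩ : f ∈ D := by rw [hD]; trivial
  have h1 := z.asHomogeneousIdeal.isHomogeneous d ha
  rw [DirectSum.decompose_sub] at h1
  have h2 : (DirectSum.decompose (𝒯.deg U hU) ((𝒯.str.app (op U)).hom a) d : 𝒯.presheaf.obj (op U)) = 0 :=
    DirectSum.decompose_of_mem_ne _ (𝒯.str_mem U hU a) hd.ne
  have h3 : (DirectSum.decompose (𝒯.deg U hU) f d : 𝒯.presheaf.obj (op U)) = f :=
    DirectSum.decompose_of_mem_same _ hf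
  have h4 : ((DirectSum.decompose (𝒯.deg U hU) f - DirectSum.decompose (𝒯.deg U hU) ((𝒯.str.app (op U)).hom a)) d :
      𝒯.presheaf.obj (op U)) = f := by
    rw [DirectSum.sub_apply, AddSubgroupClass.coe_sub, h2, h3, sub_zero]
  rw [h4] at h1
  exact hfz h1

end sym

variable {X Y : Scheme.{u}} {q : X ⟶ Y} {L : X.Modules} (hL : PicF.IsInvertible L) (hLq : Coh.IsQCoh L)
    {𝒮L : RelProj.QCGrAlg X} {jL : L ⟶ 𝒮L.toModule} (hjL : RelProj.IsGrSymAlg L 𝒮L jL)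

include hL hLq hjL in
/-- The two descriptions of the nonvanishing locus of a section of `L`. -/
theorem nv_jL {W : X.Opens} (s : Γ(L, W)) :
    K41.NV.nv (𝒜 := 𝒮L) (jApp L 𝒮L.toQCAlg jL W s) 1 = Groth.Agent.Ega2.Nv.nv L s := by
  have key : ∀ x ∈ W, (x ∈ K41.NV.nv (𝒜 := 𝒮L) (jApp L 𝒮L.toQCAlg jL W s) 1 ↔ x ∈ Groth.Agent.Ega2.Nv.nv L s) := by
    intro x hx
    obtain ⟨U, e, hxU, he⟩ := (Groth.Agent.Fdesc.LocGen.isInvertible_iff L).mp hL x
    obtain ⟨V, hV, hxV, hVU⟩ := exists_isAffineOpen_mem_and_subset (U := W ⊓ U) ⟨hx, hxU⟩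
    have hVU' : V ≤ W ⊓ U := hVU
    have hVW : V ≤ W := hVU'.trans inf_le_left
    have hVU2 : V ≤ U := hVU'.trans inf_le_right
    have he' := he.res hVU2
    obtain ⟨a, ha⟩ := he'.exists_eq (Groth.Agent.Fdesc.LocGen.res L hVW s)
    have h1 : LineOn 𝒮L V hV (jApp L 𝒮L.toQCAlg jL V (Groth.Agent.Fdesc.LocGen.res L hVU2 e)) :=
      K41.SymLine.lineOn hLq hjL V hV _ he'
    have h2 : LineAlg.res 𝒮L hVW (jApp L 𝒮L.toQCAlg jL W s) =
        LineAlg.str 𝒮L V a * (jApp L 𝒮L.toQCAlg jL V (Groth.Agent.Fdesc.LocGen.res L hVU2 e)) ^ 1 := by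
      have h3 : LineAlg.res 𝒮L hVW (jApp L 𝒮L.toQCAlg jL W s) =
        jApp L 𝒮L.toQCAlg jL V (Groth.Agent.Fdesc.LocGen.res L hVW s) := (jApp_res L 𝒮L.toQCAlg jL hVW s).symm
      rw [h3, ha, pow_one]
      exact jApp_smul L 𝒮L.toQCAlg jL V a _
    have h3 := mem_nv_iff_of_line h1 hVW (jApp L 𝒮L.toQCAlg jL W s) 1 a h2 hxV
    have h4 := Groth.Agent.Ega2.Nv.nv_inf_of_eq_smul s hVW he' a ha
    rw [h3, ← h4]
    exact ⟨fun h => h.2, fun h => ⟨hxV, h⟩⟩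
  ext x
  constructor
  · intro h; exact (key x (K41.NV.nv_le _ _ h)).mp h
  · intro h; exact (key x (Groth.Agent.Ega2.Nv.nv_le _ _ h)).mpr h

/-- The degree `m` part of `∑ c_k w^k` on an arbitrary open. -/
theorem eq_coeff_mul_pow {ℬ : RelProj.QCGrAlg X} (hB : IsLineAlg ℬ) {W : X.Opens} {w : ℬ.presheaf.obj (op W)}
    (hw : IsHom w 1) (p : Polynomial Γ(X, W)) (x : ℬ.presheaf.obj (op W)) (m : ℕ) (hx : IsHom x m)
    (e : x = Polynomial.eval₂ (LineAlg.str ℬ W) w p) : x = LineAlg.str ℬ W (p.coeff m) * w ^ m := by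
  classical
  refine ext_line hB fun V hV T hT i => ?_
  have hmem : ∀ (k : ℕ) (c : Γ(X, V)), LineAlg.str ℬ V c * LineAlg.res ℬ i w ^ k ∈ ℬ.deg V hV k := fun k c => by
    have h0 := SetLike.mul_mem_graded (A := ℬ.deg V hV) (str_mem (𝒜 := ℬ) hV c) (SetLike.pow_mem_graded k (hw V hV i))
    simpa using h0
  have h1 : LineAlg.res ℬ i x = ∑ k ∈ Finset.range (p.natDegree + 1),
      LineAlg.str ℬ V (resO i (p.coeff k)) * LineAlg.res ℬ i w ^ k := by
    rw [e, Polynomial.eval₂_eq_sum_range, map_sum]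
    refine Finset.sum_congr rfl fun k _ => ?_
    rw [map_mul, map_pow, res_str]
  have h2 : (DirectSum.decompose (ℬ.deg V hV) (LineAlg.res ℬ i x) m : ℬ.presheaf.obj (op V)) = LineAlg.res ℬ i x :=
    DirectSum.decompose_of_mem_same _ (hx V hV i)
  rw [← h2, h1, DirectSum.decompose_sum, DFinsupp.finsetSum_apply, AddSubmonoidClass.coe_finsetSum,
    Finset.sum_eq_single m, DirectSum.decompose_of_mem_same _ (hmem m _), map_mul, map_pow, res_str]
  · intro b _ hbm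
    rw [DirectSum.decompose_of_mem_ne _ (hmem b _) hbm]
  · intro hm
    have h3 : p.coeff m = 0 := Polynomial.coeff_eq_zero_of_natDegree_lt (by
      rw [Finset.mem_range] at hm; omega)
    rw [h3, map_zero, map_zero, zero_mul, DirectSum.decompose_zero]; rfl

open K43.VADef

variable {E : Y.Modules} (hE : Coh.IsQCoh E) {𝒯 : RelProj.QCGrAlg Y} {jE : E ⟶ 𝒯.toModule}
  (h𝒯 : RelProj.IsGrSymAlg E 𝒯 jE) (φ : E ⟶ (Scheme.Modules.pushforward q).obj L) (u : RelProj.QGrHom q 𝒯 𝒮L)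
  (hu : ∀ (U : Y.Opens) (x : Γ(E, U)),
    (u.app U).hom (jApp E 𝒯.toQCAlg jE U x) = jApp L 𝒮L.toQCAlg jL (q ⁻¹ᵁ U) (se q φ x))

include hL hLq hjL hu in
theorem nvs_eq_nz {U : Y.Opens} (e : Γ(E, U)) :
    nvs u U (jApp E 𝒯.toQCAlg jE U e) 1 = nz q φ e := by
  rw [nvs, us, hu, nv_jL hL hLq hjL]; rfl

include hu in
theorem appLE_jApp {U : Y.Opens} {W : X.Opens} (hW : W ≤ q ⁻¹ᵁ U) (e : Γ(E, U)) :
    (u.appLE U W hW).hom (jApp E 𝒯.toQCAlg jE U e) =
      jApp L 𝒮L.toQCAlg jL W (Groth.Agent.Fdesc.LocGen.res L hW (se q φ e)) := by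
  rw [RelSpec.QHom.appLE, CommRingCat.comp_apply, hu]
  exact (jApp_res L 𝒮L.toQCAlg jL hW _).symm

include h𝒯 hu in
/-- The ratios are of the form `u(s') / u(s)^m`. -/
theorem ratioRing_le {U : Y.Opens} (hU : IsAffineOpen U) (e : Γ(E, U))
    (hd : jApp E 𝒯.toQCAlg jE U e ∈ 𝒯.deg U hU 1) :
    ratioRing q φ e ≤ ratSub u hU (nz q φ e) (nz_le q φ e) hd := by
  refine Subring.closure_le.mpr ?_
  rintro b (⟨a, rfl⟩ | ⟨t, ht⟩)
  · exact app_mem_ratSub u hU _ _ hd a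
  · refine ⟨1, jApp E 𝒯.toQCAlg jE U t, by rw [one_mul]; exact h𝒯.2 U hU t, ?_⟩
    rw [pow_one, appLE_jApp φ u hu, appLE_jApp φ u hu, ht]
    exact (jApp_smul L 𝒮L.toQCAlg jL _ b _).symm

include hL hLq hjL hE h𝒯 hu in
/-- Functions of the form `u(s') / u(e)^m` are polynomials in the ratios. -/
theorem ratSub_le {U : Y.Opens} (hU : IsAffineOpen U) (e : Γ(E, U))
    (hd : jApp E 𝒯.toQCAlg jE U e ∈ 𝒯.deg U hU 1) :
    ratSub u hU (nz q φ e) (nz_le q φ e) hd ≤ ratioRing q φ e := by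
  have hB := K41.SymLine.isLineAlg hL hLq hjL
  have hIs : ∀ {m : ℕ} {x : 𝒯.presheaf.obj (op U)}, x ∈ 𝒯.deg U hU m →
      IsHom ((u.appLE U (nz q φ e) (nz_le q φ e)).hom x) m := by
    intro m x hx
    exact (isHom_us u hU hx).res (nz_le q φ e)
  let w : 𝒮L.presheaf.obj (op (nz q φ e)) := (u.appLE U (nz q φ e) (nz_le q φ e)).hom (jApp E 𝒯.toQCAlg jE U e)
  let ev : Polynomial (ratioRing q φ e) →+* 𝒮L.presheaf.obj (op (nz q φ e)) :=
    Polynomial.eval₂RingHom ((LineAlg.str 𝒮L (nz q φ e)).comp (ratioRing q φ e).subtype) w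
  have hD := subring_eq_top hE h𝒯 U hU (ev.range.comap (u.appLE U (nz q φ e) (nz_le q φ e)).hom)
    (fun a => by
      refine ⟨Polynomial.C ⟨_, app_mem_ratioRing q φ e a⟩, ?_⟩
      have h1 : ev (Polynomial.C ⟨_, app_mem_ratioRing q φ e a⟩) =
          LineAlg.str 𝒮L (nz q φ e) (Groth.Agent.Fdesc.LocGen.ores (nz_le q φ e) (q.app U a)) := by
        simp [ev]
      rw [h1]
      exact congr($(u.toQHom.str_appLE U (nz q φ e) (nz_le q φ e)) a).symm)
    (fun t => by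
      obtain ⟨ρ, hρ, e1⟩ := exists_ratio q φ e t
      refine ⟨Polynomial.C ⟨ρ, hρ⟩ * Polynomial.X, ?_⟩
      have h1 : ev (Polynomial.C ⟨ρ, hρ⟩ * Polynomial.X) = LineAlg.str 𝒮L (nz q φ e) ρ * w := by
        simp [ev]
      rw [h1]
      have h2 := appLE_jApp φ u hu (nz_le q φ e) t
      rw [e1, jApp_smul, ← appLE_jApp φ u hu] at h2
      exact h2.symm)
  rintro f ⟨m, s', hs', e1⟩
  obtain ⟨p, hp⟩ : s' ∈ ev.range.comap (u.appLE U (nz q φ e) (nz_le q φ e)).hom := by rw [hD]; trivial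
  have h1 : (u.appLE U (nz q φ e) (nz_le q φ e)).hom s' =
      Polynomial.eval₂ (LineAlg.str 𝒮L (nz q φ e)) w (p.map (ratioRing q φ e).subtype) := by
    rw [Polynomial.eval₂_map]; exact hp.symm
  rw [mul_one] at hs'
  have h2 := eq_coeff_mul_pow hB (hIs hd) _ _ m (hIs hs') h1
  rw [h2] at e1
  have h3 := str_mul_inj hB (nz_le q φ e) (isHom_us u hU hd)
    (nvs_eq_nz hL hLq hjL φ u hu e).ge m (a := f) (b := (p.map (ratioRing q φ e).subtype).coeff m) e1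
  rw [h3, Polynomial.coeff_map]
  exact (p.coeff m).2

include hL hLq hjL hE h𝒯 hu in
theorem ratSub_eq {U : Y.Opens} (hU : IsAffineOpen U) (e : Γ(E, U))
    (hd : jApp E 𝒯.toQCAlg jE U e ∈ 𝒯.deg U hU 1) :
    ratSub u hU (nz q φ e) (nz_le q φ e) hd = ratioRing q φ e :=
  le_antisymm (ratSub_le hL hLq hjL hE h𝒯 φ u hu hU e hd) (ratioRing_le h𝒯 φ u hu hU e hd)

section main

variable {P : Scheme.{u}} {p : P ⟶ Y}
  {chart : ∀ (U : Y.Opens) (hU : IsAffineOpen U), (((p ⁻¹ᵁ U : P.Opens) : Scheme.{u}) ≅ Proj (𝒯.deg U hU))}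
  (hP : RelProj.IsRelProj 𝒯 p chart)
  {PL : Scheme.{u}} {pL : PL ⟶ X}
  {chartL : ∀ (U : X.Opens) (hU : IsAffineOpen U), (((pL ⁻¹ᵁ U : PL.Opens) : Scheme.{u}) ≅ Proj (𝒮L.deg U hU))}
  (hPL : RelProj.IsRelProj 𝒮L pL chartL)
  {r : ((RelProj.domQ u pL chartL : PL.Opens) : Scheme.{u}) ⟶ P}
  (hr : RelProj.IsProjQMapOn u p chart pL chartL (RelProj.domQ u pL chartL) r)

open HomogeneousLocalization in
theorem range_kappa [IsIso pL] (hB : IsLineAlg 𝒮L) {U : Y.Opens} (hU : IsAffineOpen U) {d : ℕ} (hd : 0 < d)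
    {s : 𝒯.presheaf.obj (op U)} (hs : s ∈ 𝒯.deg U hU d) :
    (kappa u hP hPL hB hr hU hd hs (le_refl (nvs u U s d))).range = ratSub u hU (nvs u U s d) (nvs_le u U s d) hs := by
  ext f
  constructor
  · rintro ⟨x, hx⟩
    obtain ⟨m, s', hs', rfl⟩ := Away.mk_surjective _ hs x
    exact ⟨m, s', hs', (kappa_eq_iff u hP hPL hB hr hU hd hs _ m s' hs' (nvs_le u U s d) f).mp hx⟩
  · rintro ⟨m, s', hs', e⟩
    exact ⟨_, (kappa_eq_iff u hP hPL hB hr hU hd hs _ m s' hs' (nvs_le u U s d) f).mpr e⟩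

theorem ratSub_congr {U : Y.Opens} (hU : IsAffineOpen U) {W W' : X.Opens} (h : W = W') (hW : W ≤ q ⁻¹ᵁ U)
    (hW' : W' ≤ q ⁻¹ᵁ U) {n : ℕ} {t : 𝒯.presheaf.obj (op U)} (ht : t ∈ 𝒯.deg U hU n) :
    K43.HomImm.HImm W (ratSub u hU W hW ht) ↔ K43.HomImm.HImm W' (ratSub u hU W' hW' ht) := by
  subst h; rfl

include hL hLq hjL hE h𝒯 hu in
/-- `kmor` over `D₊(e)` is an immersion iff the `K43` condition `HImm` holds for `e`. -/
theorem isImmersion_kmor_iff [IsIso pL] (hB : IsLineAlg 𝒮L) {U : Y.Opens} (hU : IsAffineOpen U) (e : Γ(E, U))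
    (hd : jApp E 𝒯.toQCAlg jE U e ∈ 𝒯.deg U hU 1) :
    IsImmersion (kmor u hP hPL hB hr hU one_pos hd (le_refl (nvs u U (jApp E 𝒯.toQCAlg jE U e) 1))) ↔
      K43.HomImm.HImm (nz q φ e) (ratioRing q φ e) := by
  have h1 : K43.HomImm.mor (nvs u U (jApp E 𝒯.toQCAlg jE U e) 1)
      (kappa u hP hPL hB hr hU one_pos hd (le_refl (nvs u U (jApp E 𝒯.toQCAlg jE U e) 1))) =
      kmor u hP hPL hB hr hU one_pos hd (le_refl (nvs u U (jApp E 𝒯.toQCAlg jE U e) 1)) :=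
    toSpecΓ_kappa u hP hPL hB hr hU one_pos hd _
  rw [← h1, K43.HomImm.isImmersion_mor_iff, range_kappa u hP hPL hr hB hU one_pos hd,
    ratSub_congr u hU (nvs_eq_nz hL hLq hjL φ u hu e) _ (nz_le q φ e) hd,
    ratSub_eq hL hLq hjL hE h𝒯 φ u hu hU e hd]

include hL hLq hjL hE h𝒯 hu hP hPL hr in
/-- **`r_{L,φ}` is an everywhere defined immersion iff `VA q φ`.** -/
theorem isImmersion_iff_va : (RelProj.domQ u pL chartL = ⊤ ∧ IsImmersion r) ↔ VA q φ := by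
  have hB := K41.SymLine.isLineAlg hL hLq hjL
  have hiso := isIso_p hPL hB
  constructor
  · rintro ⟨htop, himm⟩ U hU x hx
    obtain ⟨y, rfl⟩ : ∃ y, pL.base y = x := pL.homeomorph.surjective x
    let y' : ((RelProj.domQ u pL chartL : PL.Opens) : Scheme.{u}) := ⟨y, htop ▸ trivial⟩
    have h1 : r.base y' ∈ p ⁻¹ᵁ U := by
      have h2 : y' ∈ r ⁻¹ᵁ (p ⁻¹ᵁ U) := by
        rw [preimage_p u hP hPL hr]; exact hx
      exact h2
    obtain ⟨w, hw⟩ := exists_emb_eq p chart U hU _ h1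
    obtain ⟨e, he⟩ := exists_degOne_notMem hE h𝒯 U hU w
    have hd : jApp E 𝒯.toQCAlg jE U e ∈ 𝒯.deg U hU 1 := h𝒯.2 U hU e
    have h3 : y' ∈ r ⁻¹ᵁ std p chart U hU (jApp E 𝒯.toQCAlg jE U e) := by
      change r.base y' ∈ std p chart U hU (jApp E 𝒯.toQCAlg jE U e)
      rw [← hw]; exact (emb_mem_std_iff U hU _ w).mpr he
    rw [preimage_std u hP hPL hB hr hU one_pos hd] at h3
    have h4 : pL.base y ∈ nvs u U (jApp E 𝒯.toQCAlg jE U e) 1 := h3
    rw [nvs_eq_nz hL hLq hjL φ u hu e] at h4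
    refine ⟨e, h4, (isImmersion_kmor_iff hL hLq hjL hE h𝒯 φ u hu hP hPL hr hB hU e hd).mp ?_⟩
    exact MorphismProperty.of_isPullback (P := @IsImmersion) (isPullback_kmor u hP hPL hB hr hU one_pos hd).flip himm
  · intro hva
    have H : ∀ x : X, ∃ (U : Y.Opens) (hU : IsAffineOpen U) (d : ℕ) (hd : 0 < d)
        (s : 𝒯.presheaf.obj (op U)) (hs : s ∈ 𝒯.deg U hU d), x ∈ nvs u U s d ∧
          IsImmersion (kmor u hP hPL hB hr hU hd hs (le_refl (nvs u U s d))) := by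
      intro x
      obtain ⟨U, hU, hxU, -⟩ := exists_isAffineOpen_mem_and_subset (x := q.base x) (U := ⊤) trivial
      obtain ⟨e, he, himm⟩ := hva U hU x hxU
      have hd : jApp E 𝒯.toQCAlg jE U e ∈ 𝒯.deg U hU 1 := h𝒯.2 U hU e
      exact ⟨U, hU, 1, one_pos, _, hd, by rw [nvs_eq_nz hL hLq hjL φ u hu e]; exact he,
        (isImmersion_kmor_iff hL hLq hjL hE h𝒯 φ u hu hP hPL hr hB hU e hd).mpr himm⟩
    refine ⟨top_le_iff.mp fun y _ => ?_, ?_⟩
    · obtain ⟨U, hU, d, hd, s, hs, hx, -⟩ := H (pL.base y)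
      exact preimage_nvs_le u hPL hB hU hd hs hx
    · obtain ⟨O, g, hg, hQ⟩ := exists_factor_of_fam (Q := @IsImmersion) u hP hPL hB hr H
      have : IsImmersion g := hQ
      rw [← hg]
      infer_instance

end main

end K41.RVA
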