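import Groth.Agent.EGA2.K41.SymExt2
import Groth.Agent.EGA2.K42.VALoc
import Groth.Agent.EGA2.K43.GrSym
import Groth.Agent.Mor.K386.QPVA
import Groth.Agent.EGA2.K35.RelProjBasic
import Groth.Agent.EGA2.K35.RelProjExists
import Groth.Agent.EGA2.K40.QGlue
import Groth.Agent.EGA2.K41.RColim2
import Groth.Agent.EGA2.K41.DegOne

/-!
# The finite type submodule of `E ⟶ q_* L` and its `r_{L,φ}`

* `surj_of_va`, `pack_of_va`: `VA q φ` gives the surjectivity of `q^* E → L` and the immersion;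
* `va_of_pack`: the converse;
* `degOneHom`: a graded `q`-morphism `Sym(E) → q_* Sym(L)` comes from some `φ : E ⟶ q_* L`.
-/

set_option autoImplicit false
set_option linter.unusedSectionVars false
universe u
open CategoryTheory CategoryTheory.Limits AlgebraicGeometry TopologicalSpace Opposite

noncomputable section

namespace K41.RVAPack
open K36.SymAlg K41.SymExt K41.RVA K41.SymExt2 K43.VADef K41.LineAlg K41.NV K41.PLine K41.RPhi

variable {X Y : Scheme.{u}} {q : X ⟶ Y} {L : X.Modules} (hL : PicF.IsInvertible L) (hLq : Coh.IsQCoh L)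
    {𝒮L : RelProj.QCGrAlg X} {jL : L ⟶ 𝒮L.toModule} (hjL : RelProj.IsGrSymAlg L 𝒮L jL)

variable {E : Y.Modules} (hE : Coh.IsQCoh E) {𝒯 : RelProj.QCGrAlg Y} {jE : E ⟶ 𝒯.toModule}
  (h𝒯 : RelProj.IsGrSymAlg E 𝒯 jE) (φ : E ⟶ (Scheme.Modules.pushforward q).obj L) (u : RelProj.QGrHom q 𝒯 𝒮L)
  (hu : ∀ (U : Y.Opens) (x : Γ(E, U)),
    (u.app U).hom (jApp E 𝒯.toQCAlg jE U x) = jApp L 𝒮L.toQCAlg jL (q ⁻¹ᵁ U) (se q φ x))

include hL hLq hjL hu in
/-- `VA q φ` gives the surjectivity of `q^* E → L`. -/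
theorem surj_of_va (hva : VA q φ) (x : X) :
    ∃ (U : Y.Opens) (hU : IsAffineOpen U) (e : Γ(E, U)) (V : X.Opens) (hV : IsAffineOpen V)
        (hVU : V ≤ q ⁻¹ᵁ U), x ∈ V ∧
          ((𝒮L.deg V hV 1 : AddSubgroup (𝒮L.presheaf.obj (op V))) : Set (𝒮L.presheaf.obj (op V))) ⊆
            (Ideal.span {(u.appLE U V hVU).hom (jApp E 𝒯.toQCAlg jE U e)} : Set (𝒮L.presheaf.obj (op V))) := by
  obtain ⟨U, hU, hxU, -⟩ := exists_isAffineOpen_mem_and_subset (x := q.base x) (U := ⊤) trivial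
  obtain ⟨e, he, -⟩ := hva U hU x hxU
  rw [← nvs_eq_nz hL hLq hjL φ u hu e] at he
  obtain ⟨V, hV, hVU, hxV, H⟩ := mem_nv.mp he
  exact ⟨U, hU, e, V, hV, hVU, hxV, H⟩

variable {PL : Scheme.{u}} {pL : PL ⟶ X}
  {chartL : ∀ (U : X.Opens) (hU : IsAffineOpen U), (((pL ⁻¹ᵁ U : PL.Opens) : Scheme.{u}) ≅ Proj (𝒮L.deg U hU))}
  (hPL : RelProj.IsRelProj 𝒮L pL chartL)

include hL hLq hjL hE h𝒯 hu hPL in
/-- If `r_{L,φ}` is an everywhere defined immersion for every `P(E)`, then `VA q φ`. -/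
theorem va_of_pack (h : ∀ (P : Scheme.{u}) (p : P ⟶ Y)
          (chart : ∀ (U : Y.Opens) (hU : IsAffineOpen U), (((p ⁻¹ᵁ U : P.Opens) : Scheme.{u}) ≅ Proj (𝒯.deg U hU)))
          (_ : RelProj.IsRelProj 𝒯 p chart)
          (r : ((RelProj.domQ u pL chartL : PL.Opens) : Scheme.{u}) ⟶ P)
          (_ : RelProj.IsProjQMapOn u p chart pL chartL (RelProj.domQ u pL chartL) r),
        RelProj.domQ u pL chartL = ⊤ ∧ IsImmersion r) : VA q φ := by
  have hP := K35.RelProjExists.isRelProj 𝒯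
  obtain ⟨r, hr⟩ := K40.QGlue.exists_isProjQMapOn (u := u) hP hPL
  exact (isImmersion_iff_va hL hLq hjL hE h𝒯 φ u hu hP hPL hr).mp (h _ _ _ hP r hr)

include h𝒯 hPL in
/-- Surjectivity of `q^* E → L` gives `G(φ) = PL`. -/
theorem domQ_eq_top_of_surj (hB : IsLineAlg 𝒮L) (h : ∀ x : X, ∃ (U : Y.Opens) (hU : IsAffineOpen U) (e : Γ(E, U))
        (V : X.Opens) (hV : IsAffineOpen V) (hVU : V ≤ q ⁻¹ᵁ U), x ∈ V ∧
          ((𝒮L.deg V hV 1 : AddSubgroup (𝒮L.presheaf.obj (op V))) : Set (𝒮L.presheaf.obj (op V))) ⊆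
              (Ideal.span {(u.appLE U V hVU).hom ((jE.app U) e)} : Set (𝒮L.presheaf.obj (op V)))) :
    RelProj.domQ u pL chartL = ⊤ := by
  refine top_le_iff.mp fun y _ => ?_
  obtain ⟨U, hU, e, V, hV, hVU, hyV, H⟩ := h (pL.base y)
  exact preimage_nvs_le u hPL hB hU one_pos (h𝒯.2 U hU e) (mem_nv.mpr ⟨V, hV, hVU, hyV, H⟩)

theorem qcqs_of {Y : Scheme.{u}} (hYs : (CompactSpace Y ∧ Y.IsSeparated) ∨ NoetherianSpace Y) :
    CompactSpace Y ∧ QuasiSeparatedSpace Y := by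
  rcases hYs with ⟨h1, h2⟩ | h
  · exact ⟨h1, inferInstance⟩
  · exact ⟨inferInstance, inferInstance⟩

theorem app_injective_of_mono {M N : Y.Modules} (φ : M ⟶ N) [Mono φ] (U : Y.Opens) :
    Function.Injective (φ.app U) := by
  have h1 : Mono ((Scheme.Modules.toPresheaf Y).map φ) := inferInstance
  have h2 : Mono (((Scheme.Modules.toPresheaf Y).map φ).app (op U)) := inferInstance
  exact (AddCommGrpCat.mono_iff_injective _).1 h2

include hL in
/-- A quasi-coherent submodule of finite type is enough. -/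
theorem exists_ft_sub (hYs : (CompactSpace Y ∧ Y.IsSeparated) ∨ NoetherianSpace Y) [QuasiCompact q]
    [LocallyOfFiniteType q] {F : Y.Modules} (hF : Coh.IsQCoh F) (ψ : F ⟶ (Scheme.Modules.pushforward q).obj L)
    (hva : VA q ψ) :
    ∃ (E : Y.Modules) (_ : Coh.IsQCoh E) (_ : CohB1.IsFT E) (ι : E ⟶ F) (_ : ∀ U : Y.Opens, Function.Injective (ι.app U)),
      VA q (ι ≫ ψ) := by
  obtain ⟨h1, h2⟩ := qcqs_of hYs
  obtain ⟨F', hF', haff, hcov⟩ := K41.RColim2.exists_finite_affine_cover Y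
  have : Finite F' := hF'
  obtain ⟨E, ι, hE, hft, hm, h⟩ := K386.QPVA.exists_ft_of_at q hL ψ hF (ι := F') (fun U => U.1) (fun U => haff _ U.2)
    (top_le_iff.mp fun y _ => by
      obtain ⟨U, hU, hy⟩ := hcov y
      exact Opens.mem_iSup.mpr ⟨⟨U, hU⟩, hy⟩) fun U x hx => hva U.1 (haff _ U.2) x hx
  exact ⟨E, hE, hft, ι, app_injective_of_mono ι, h⟩

end K41.RVAPack
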