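import Groth.Agent.EGA2.K41.AwayLaurent
import Groth.Agent.EGA2.K41.AwayPoly
import Groth.Agent.EGA2.K38.ConeGeo
import Groth.Agent.EGA2.K37.GenOne
import Groth.Agent.Ega2.H285.LaurentBC
import Mathlib.AlgebraicGeometry.ResidueField

/-!
# The fibres of the canonical retractions `Ê → Proj(𝒮)` and `E → Proj(𝒮)`, `𝒮` generated in degree one
-/

set_option autoImplicit false
set_option linter.unusedSectionVars false
universe u
open CategoryTheory CategoryTheory.Limits AlgebraicGeometry Opposite TopologicalSpace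
open HomogeneousLocalization K42.DomMap K42.DomQ K42.DomHom K38.Retr
open scoped HomogeneousIdeal

namespace K41.RetrFib

/-- Base change of the affine line along a ring map. -/
theorem isPushout_polynomial {L K : Type u} [CommRing L] [CommRing K] (ρ : L →+* K) :
    IsPushout (CommRingCat.ofHom (Polynomial.C : L →+* Polynomial L)) (CommRingCat.ofHom ρ)
      (CommRingCat.ofHom (Polynomial.mapRingHom ρ)) (CommRingCat.ofHom (Polynomial.C : K →+* Polynomial K)) := by
  algebraize [ρ, Polynomial.mapRingHom ρ]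
  exact (CommRingCat.isPushout_of_isPushout L K (Polynomial L) (Polynomial K)).flip

theorem exists_lift_residue {P : Scheme.{u}} {A : CommRingCat.{u}} (j : Spec A ⟶ P) [IsOpenImmersion j] (x : P)
    (hx : x ∈ j.opensRange) : ∃ ρ : A ⟶ P.residueField x, Spec.map ρ ≫ j = P.fromSpecResidueField x := by
  have hr : Set.range (P.fromSpecResidueField x).base ⊆ Set.range j.base := by
    rw [Scheme.range_fromSpecResidueField]
    rintro _ rfl
    exact hx
  obtain ⟨ρ, hρ⟩ := Spec.map_surjective (IsOpenImmersion.lift _ _ hr)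
  exact ⟨ρ, by rw [hρ]; exact IsOpenImmersion.lift_fac _ _ _⟩

theorem fibre_poly {E P : Scheme.{u}} (r : E ⟶ P) {A : CommRingCat.{u}} (j : Spec A ⟶ P) [IsOpenImmersion j]
    {c : Spec (CommRingCat.of (Polynomial A)) ⟶ E}
    (h : IsPullback c (Spec.map (CommRingCat.ofHom (Polynomial.C : A →+* Polynomial A))) r j)
    (x : P) (hx : x ∈ j.opensRange) :
    ∃ e : pullback r (P.fromSpecResidueField x) ≅ Spec (CommRingCat.of (Polynomial (P.residueField x))),
      e.hom ≫ Spec.map (CommRingCat.ofHom (algebraMap (P.residueField x) (Polynomial (P.residueField x)))) =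
        pullback.snd r (P.fromSpecResidueField x) := by
  obtain ⟨ρ, hρ⟩ := exists_lift_residue j x hx
  have h1 := isPullback_SpecMap_of_isPushout _ _ _ _ (isPushout_polynomial ρ.hom)
  have h2 := h1.paste_horiz h
  change IsPullback _ _ _ (Spec.map ρ ≫ j) at h2
  rw [hρ] at h2
  exact ⟨h2.isoPullback.symm, h2.isoPullback_inv_snd⟩

theorem fibre_laurent {E P : Scheme.{u}} (r : E ⟶ P) {A : CommRingCat.{u}} (j : Spec A ⟶ P) [IsOpenImmersion j]
    {c : Spec (CommRingCat.of (LaurentPolynomial A)) ⟶ E}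
    (h : IsPullback c (Spec.map (CommRingCat.ofHom (LaurentPolynomial.C : A →+* LaurentPolynomial A))) r j)
    (x : P) (hx : x ∈ j.opensRange) :
    ∃ e : pullback r (P.fromSpecResidueField x) ≅ Spec (CommRingCat.of (LaurentPolynomial (P.residueField x))),
      e.hom ≫ Spec.map (CommRingCat.ofHom (algebraMap (P.residueField x) (LaurentPolynomial (P.residueField x)))) =
        pullback.snd r (P.fromSpecResidueField x) := by
  obtain ⟨ρ, hρ⟩ := exists_lift_residue j x hx
  have h1 := (isPullback_SpecMap_of_isPushout _ _ _ _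
    (Groth.Agent.Ega2.H285.LaurentBC.isPushout_laurent ρ.hom)).flip
  have h2 := h1.paste_horiz h
  change IsPullback _ _ _ (Spec.map ρ ≫ j) at h2
  rw [hρ] at h2
  exact ⟨h2.isoPullback.symm, h2.isoPullback_inv_snd⟩

/-- Transport of a cartesian square along a ring isomorphism. -/
theorem isPullback_transport {E P : Scheme.{u}} {r : E ⟶ P} {A B B' : CommRingCat.{u}} {j : Spec A ⟶ P} {c : Spec B ⟶ E}
    {g : A ⟶ B} {g' : A ⟶ B'} (h : IsPullback c (Spec.map g) r j) (e : B' ≅ B) (he : g' ≫ e.hom = g) :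
    IsPullback (Spec.map e.inv ≫ c) (Spec.map g') r j := by
  refine h.of_iso (Scheme.Spec.mapIso e.symm.op).symm (Iso.refl _) (Iso.refl _) (Iso.refl _) ?_ ?_ ?_ ?_
  · simp only [Iso.symm_hom, Functor.mapIso_inv, Iso.op_inv, Iso.symm_inv, Iso.refl_hom, Category.comp_id]
    rw [← Category.assoc]
    change _ = (Spec.map e.hom ≫ Spec.map e.inv) ≫ _
    rw [← Spec.map_comp, e.inv_hom_id, Spec.map_id, Category.id_comp]
  · rw [← he]
    simp
  · simp
  · simp

section ring

variable {A B σ τ : Type u} [CommRing A] [CommRing B] [SetLike σ A] [AddSubgroupClass σ A]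
  [SetLike τ B] [AddSubgroupClass τ B] {𝒜 : ℕ → σ} [GradedRing 𝒜] {ℬ : ℕ → τ} [GradedRing ℬ]

/-- `A_(f)[T] ≅ A[z]_(f)` for `f` of degree one. -/
theorem exists_iso_poly (ψ : 𝒜 →+*ᵍ ℬ) {z : B} (hz : z ∈ ℬ 1)
    (hb : Function.Bijective (Polynomial.eval₂RingHom (ψ : A →+* B) z)) {f : A} (hf : f ∈ 𝒜 1) :
    ∃ e : CommRingCat.of (Polynomial (Away 𝒜 f)) ≅ CommRingCat.of (Away ℬ (ψ f)),
      CommRingCat.ofHom (Polynomial.C : Away 𝒜 f →+* Polynomial (Away 𝒜 f)) ≫ e.hom =
        CommRingCat.ofHom (Away.map ψ f) := by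
  let := (ψ : A →+* B).toAlgebra
  have hφ : ∀ a : A, ψ a = algebraMap A B a := fun a => rfl
  have hhat : Function.Bijective (Polynomial.aeval (R := A) z) := hb
  refine ⟨(RingEquiv.ofBijective (AwayPoly.polyMap ψ hz hf)
    ⟨AwayPoly.polyMap_injective ψ hφ hz hhat hf, AwayPoly.polyMap_surjective ψ hφ hz hhat hf⟩).toCommRingCatIso, ?_⟩
  ext x
  exact congrArg HomogeneousLocalization.val (AwayPoly.polyMap_C ψ hz hf x)

/-- `A_(f)[T;T⁻¹] ≅ A_f` for `f` of degree one. -/
theorem exists_iso_laurent {f : A} (hf : f ∈ 𝒜 1) :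
    ∃ e : CommRingCat.of (LaurentPolynomial (Away 𝒜 f)) ≅ CommRingCat.of (Localization.Away f),
      CommRingCat.ofHom (LaurentPolynomial.C : Away 𝒜 f →+* LaurentPolynomial (Away 𝒜 f)) ≫ e.hom =
        CommRingCat.ofHom (algebraMap (Away 𝒜 f) (Localization.Away f)) := by
  refine ⟨(AwayLaurent.awayEquiv 𝒜 hf).toCommRingCatIso, ?_⟩
  ext x
  exact AwayLaurent.awayEquiv_C 𝒜 hf x

end ring

variable {Y PC P : Scheme.{u}} {𝒮 𝒮h : RelProj.QCGrAlg Y} (hgen : 𝒮.IsGenDegOne)
    {ι : 𝒮.toQCAlg ⟶ 𝒮h.toQCAlg} {z : 𝒮h.presheaf.obj (op ⊤)} (hz : RelCone.IsPolyOver 𝒮 𝒮h ι z)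
    {pC : PC ⟶ Y}
    {chartC : ∀ (U : Y.Opens) (hU : IsAffineOpen U), (((pC ⁻¹ᵁ U : PC.Opens) : Scheme.{u}) ≅ Proj (𝒮h.deg U hU))}
    (hPC : RelProj.IsRelProj 𝒮h pC chartC)
    {p : P ⟶ Y}
    {chart : ∀ (U : Y.Opens) (hU : IsAffineOpen U), (((p ⁻¹ᵁ U : P.Opens) : Scheme.{u}) ≅ Proj (𝒮.deg U hU))}
    (hP : RelProj.IsRelProj 𝒮 p chart)
    {i : 𝒮.toQCAlg.spec ⟶ PC} (hi : RelCone.IsConeImm 𝒮 hz pC chartC i)

include hgen in
theorem exists_mem_std_one (x : P) : ∃ (U : Y.Opens) (hU : IsAffineOpen U) (f : 𝒮.presheaf.obj (op U))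
    (_ : f ∈ 𝒮.deg U hU 1), x ∈ std p chart U hU f := by
  obtain ⟨U, hU, hxU, -⟩ := exists_isAffineOpen_mem_and_subset (x := p.base x) (U := ⊤) trivial
  obtain ⟨y, rfl⟩ := exists_emb_eq p chart U hU x hxU
  obtain ⟨f, hf, hfy⟩ := K37.GenOne.exists_deg_one_notMem (hgen U hU) y
  exact ⟨U, hU, f, hf, (emb_mem_std_iff U hU f y).mpr hfy⟩

include hgen hPC hP in
theorem exists_line {r : ((RelProj.domQ (u hz) pC chartC : PC.Opens) : Scheme.{u}) ⟶ P}
    (hr : Q hz chart (chartC := chartC) _ r) (x : P) :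
    ∃ (A : CommRingCat.{u}) (j : Spec A ⟶ P) (_ : IsOpenImmersion j)
      (c : Spec (CommRingCat.of (Polynomial A)) ⟶ ((RelProj.domQ (u hz) pC chartC : PC.Opens) : Scheme.{u})),
      x ∈ j.opensRange ∧ IsPullback c (Spec.map (CommRingCat.ofHom (Polynomial.C : A →+* Polynomial A))) r j := by
  obtain ⟨U, hU, f, hf, hx⟩ := exists_mem_std_one hgen (p := p) (chart := chart) x
  have h1 := (isPullback (u hz) hP hPC (on_of_q hz hPC hP hr) U hU U hU le_rfl le_rfl one_pos f hf).flip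
  have key : ∀ ψ : 𝒮.deg U hU →+*ᵍ 𝒮h.deg U hU, ψ = RelProj.gradedHomAt ι hz.graded U hU →
      ∃ e : CommRingCat.of (Polynomial (Away (𝒮.deg U hU) f)) ≅ CommRingCat.of (Away (𝒮h.deg U hU) (ψ f)),
      CommRingCat.ofHom (Polynomial.C : Away (𝒮.deg U hU) f →+* Polynomial (Away (𝒮.deg U hU) f)) ≫ e.hom =
        CommRingCat.ofHom (Away.map ψ f) := by
    rintro ψ rfl
    exact exists_iso_poly (RelProj.gradedHomAt ι hz.graded U hU) (hz.deg_z U hU) (hz.bij U hU) hf
  obtain ⟨e, he⟩ := key _ (gradedAt_ofHom hz.graded U hU le_rfl)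
  refine ⟨_, aff p chart U hU one_pos f hf, inferInstance, _, ?_, isPullback_transport h1 e he⟩
  rw [opensRange_aff]; exact hx

include hPC hP hi in
/-- The square `Spec 𝒮(U)_f → E` over `Spec 𝒮(U)_(f) → Proj(𝒮)`. -/
theorem exists_isPullback_cone {r : ((RelProj.domQ (u hz) pC chartC : PC.Opens) : Scheme.{u}) ⟶ P}
    (hr : Q hz chart (chartC := chartC) _ r)
    (i' : ((RelCone.pointedCone 𝒮 : 𝒮.toQCAlg.spec.Opens) : Scheme.{u}) ⟶
      ((RelProj.domQ (u hz) pC chartC : PC.Opens) : Scheme.{u}))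
    (hi' : i' ≫ (RelProj.domQ (u hz) pC chartC).ι = (RelCone.pointedCone 𝒮).ι ≫ i)
    (U : Y.Opens) (hU : IsAffineOpen U) {d : ℕ} (hd : 0 < d) (f : 𝒮.presheaf.obj (op U)) (hf : f ∈ 𝒮.deg U hU d) :
    ∃ k : Spec (CommRingCat.of (Localization.Away f)) ⟶
        ((RelCone.pointedCone 𝒮 : 𝒮.toQCAlg.spec.Opens) : Scheme.{u}),
      IsPullback k (Spec.map (CommRingCat.ofHom (algebraMap (Away (𝒮.deg U hU) f) (Localization.Away f)))) (i' ≫ r)
        (aff p chart U hU hd f hf) := by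
  obtain ⟨g, hg, hg1, hg2⟩ := exists_lift hz (pC := pC) (chartC := chartC) U hU hd f hf
  have hk₀ : Set.range (Spec.map (CommRingCat.ofHom (algebraMap _ (Localization.Away f))) ≫ 𝒮.toQCAlg.ι U hU).base ⊆
      Set.range (RelCone.pointedCone 𝒮).ι.base := by
    rw [Scheme.Opens.range_ι]
    rintro _ ⟨v, rfl⟩
    refine (K37.ConePts.ι_mem_pointedCone_iff 𝒮 U hU _).mpr ?_
    rw [K38.ConeGeo.mem_vertexCompl_iff]
    refine ⟨d, hd, f, hf, fun hfv => v.2.ne_top ?_⟩
    have hfv' : algebraMap _ (Localization.Away f) f ∈ v.asIdeal := hfv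
    exact Ideal.eq_top_of_isUnit_mem _ hfv' (IsLocalization.Away.algebraMap_isUnit f)
  have hoi : IsOpenImmersion (Spec.map (CommRingCat.ofHom (algebraMap (𝒮.presheaf.obj (op U)) (Localization.Away f)))) :=
    AlgebraicGeometry.IsOpenImmersion.of_isLocalization f
  let k := IsOpenImmersion.lift (RelCone.pointedCone 𝒮).ι
    (Spec.map (CommRingCat.ofHom (algebraMap _ (Localization.Away f))) ≫ 𝒮.toQCAlg.ι U hU) hk₀
  have hk : k ≫ (RelCone.pointedCone 𝒮).ι =
    Spec.map (CommRingCat.ofHom (algebraMap _ (Localization.Away f))) ≫ 𝒮.toQCAlg.ι U hU := IsOpenImmersion.lift_fac _ _ _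
  have hkoi : IsOpenImmersion k := by
    have h1 : IsOpenImmersion (k ≫ (RelCone.pointedCone 𝒮).ι) := by rw [hk]; infer_instance
    exact IsOpenImmersion.of_comp k (RelCone.pointedCone 𝒮).ι
  have hu : IsUnit (algebraMap (𝒮.presheaf.obj (op U)) (Localization.Away f)
      (hz.evalOne U hU ((RelProj.gradedHomAt ι hz.graded U hU) f))) := by
    have := K37.ConeProj.evι hz U hU f
    rw [this]
    exact IsLocalization.Away.algebraMap_isUnit f
  have e1 : k ≫ i' = Spec.map (CommRingCat.ofHom (K38.ConeRing.lam (ℬ := 𝒮h.deg U hU) (hz.evalOne U hU) hu)) ≫ g := by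
    rw [← cancel_mono (RelProj.domQ (u hz) pC chartC).ι, Category.assoc, hi', reassoc_of% hk, hi U hU,
      Category.assoc, hg2]
    have h := K38.ConeRing.chart_eq (f := f) (hz.evalOne U hU) (hz.deg_z U hU) hd
      (g := (RelProj.gradedHomAt ι hz.graded U hU) f) ((RelProj.gradedHomAt ι hz.graded U hU).2 hf)
      (K37.ConeProj.thetaSpec hz U hU) (hz.evalOne_z U hU) hu
    exact (reassoc_of% h) (RelProj.emb pC chartC U hU)
  have e2 : k ≫ i' ≫ r = Spec.map (CommRingCat.ofHom (algebraMap (Away (𝒮.deg U hU) f) (Localization.Away f))) ≫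
      aff p chart U hU hd f hf := by
    rw [reassoc_of% e1, hr U hU d hd f hf g hg2, ← Category.assoc, ← Spec.map_comp, ← CommRingCat.ofHom_comp,
      K38.ConeRing.lam_comp_map (hz.evalOne U hU) (RelProj.gradedHomAt ι hz.graded U hU) (K37.ConeProj.evι hz U hU) hf hu]
    rfl
  refine ⟨k, (IsOpenImmersion.isPullback (Spec.map (CommRingCat.ofHom (algebraMap (Away (𝒮.deg U hU) f)
    (Localization.Away f)))) k (aff p chart U hU hd f hf) (i' ≫ r) e2 ?_).flip⟩
  rw [opensRange_aff]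
  symm
  apply le_antisymm
  · rintro c ⟨w, rfl⟩
    have h1 : (k ≫ i' ≫ r).base w ∈ (aff p chart U hU hd f hf).opensRange := by
      rw [e2]; exact ⟨_, rfl⟩
    rw [opensRange_aff] at h1
    exact h1
  · intro c hc
    have hc1 : i'.base c ∈ r ⁻¹ᵁ std p chart U hU f := hc
    have hcU : 𝒮.toQCAlg.π c.1 ∈ U := by
      have h0 : r.base (i'.base c) ∈ std p chart U hU f := hc1
      have h0' : r.base (i'.base c) ∈ p ⁻¹ᵁ U := std_le (p := p) (chart := chart) U hU f h0
      have h1 : (r ≫ p).base (i'.base c) ∈ U := h0'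
      rw [comp_p_of_q hz hPC hP hr] at h1
      have h2 : (i' ≫ (RelProj.domQ (u hz) pC chartC).ι ≫ pC).base c ∈ U := h1
      rw [reassoc_of% hi', K37.ConeProj.coneImm_p hz hPC hi] at h2
      exact h2
    obtain ⟨v, hv⟩ := K37.SpecBase.exists_of_mem 𝒮.toQCAlg U hU c.1 hcU
    rw [preimage_std (u hz) hP hPC (on_of_q hz hPC hP hr) U hU U hU le_rfl le_rfl hd f hf,
      gradedAt_ofHom hz.graded U hU le_rfl] at hc1
    have hc2 : i.base c.1 ∈ std pC chartC U hU ((RelProj.gradedHomAt ι hz.graded U hU) f) := by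
      have h3 : (i' ≫ (RelProj.domQ (u hz) pC chartC).ι).base c ∈
        std pC chartC U hU ((RelProj.gradedHomAt ι hz.graded U hU) f) := hc1
      rw [hi'] at h3
      exact h3
    rw [← hv] at hc2
    have e3 : i (𝒮.toQCAlg.ι U hU v) = RelProj.emb pC chartC U hU
        (Proj.awayι (𝒮h.deg U hU) (RelCone.restrictTop 𝒮h z U) (hz.deg_z U hU) one_pos
          (Spec.map (CommRingCat.ofHom (hz.awayZToBase U hU)) v)) := by
      rw [← Scheme.Hom.comp_apply, hi U hU]
      rfl
    change i (𝒮.toQCAlg.ι U hU v) ∈ _ at hc2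
    rw [e3] at hc2
    have hc3 := (emb_mem_std_iff U hU _ _).mp hc2
    have hc4 : f ∉ v.asIdeal := fun h => hc3 ((K37.ConeProj2.ι_mem_awayι_iff hz U hU v hd hf).mpr h)
    have hc5 : v ∈ Set.range (Spec.map (CommRingCat.ofHom (algebraMap (𝒮.presheaf.obj (op U))
        (Localization.Away f)))).base := by
      have h1 := PrimeSpectrum.localization_away_comap_range (Localization.Away f) f
      have h2 : v ∈ (PrimeSpectrum.basicOpen f : Set (PrimeSpectrum (𝒮.presheaf.obj (op U)))) := hc4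
      rw [← h1] at h2
      exact h2
    obtain ⟨w, hw⟩ := hc5
    refine ⟨w, ?_⟩
    apply (RelCone.pointedCone 𝒮).ι.isOpenEmbedding.injective
    change (k ≫ (RelCone.pointedCone 𝒮).ι).base w = c.1
    rw [hk, ← hv, ← hw]
    rfl

include hgen hPC hP hi in
theorem exists_punctured {r : ((RelProj.domQ (u hz) pC chartC : PC.Opens) : Scheme.{u}) ⟶ P}
    (hr : Q hz chart (chartC := chartC) _ r)
    (i' : ((RelCone.pointedCone 𝒮 : 𝒮.toQCAlg.spec.Opens) : Scheme.{u}) ⟶
      ((RelProj.domQ (u hz) pC chartC : PC.Opens) : Scheme.{u}))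
    (hi' : i' ≫ (RelProj.domQ (u hz) pC chartC).ι = (RelCone.pointedCone 𝒮).ι ≫ i) (x : P) :
    ∃ (A : CommRingCat.{u}) (j : Spec A ⟶ P) (_ : IsOpenImmersion j)
      (c : Spec (CommRingCat.of (LaurentPolynomial A)) ⟶
        ((RelCone.pointedCone 𝒮 : 𝒮.toQCAlg.spec.Opens) : Scheme.{u})),
      x ∈ j.opensRange ∧ IsPullback c (Spec.map (CommRingCat.ofHom
        (LaurentPolynomial.C : A →+* LaurentPolynomial A))) (i' ≫ r) j := by
  obtain ⟨U, hU, f, hf, hx⟩ := exists_mem_std_one hgen (p := p) (chart := chart) x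
  obtain ⟨k, h1⟩ := exists_isPullback_cone hz hPC hP hi hr i' hi' U hU one_pos f hf
  obtain ⟨e, he⟩ := exists_iso_laurent hf
  refine ⟨_, aff p chart U hU one_pos f hf, inferInstance, _, ?_, isPullback_transport h1 e he⟩
  rw [opensRange_aff]; exact hx

theorem locallyOfFiniteType_C (A : CommRingCat.{u}) :
    LocallyOfFiniteType (Spec.map (CommRingCat.ofHom (Polynomial.C : A →+* Polynomial A))) := by
  rw [HasRingHomProperty.Spec_iff (P := @LocallyOfFiniteType)]
  have : Algebra.FiniteType A (Polynomial A) := inferInstance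
  exact (RingHom.finiteType_algebraMap (A := A) (B := Polynomial A)).mpr this

theorem locallyOfFiniteType_laurent (A : CommRingCat.{u}) :
    LocallyOfFiniteType (Spec.map (CommRingCat.ofHom (LaurentPolynomial.C : A →+* LaurentPolynomial A))) := by
  rw [HasRingHomProperty.Spec_iff (P := @LocallyOfFiniteType)]
  have := Groth.Agent.Ega2.H285.LaurentBC.finiteType_laurent A
  exact (RingHom.finiteType_algebraMap (A := A) (B := LaurentPolynomial A)).mpr this

include hgen hPC hP hi in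
/-- **The fibres of the canonical retractions.** -/
theorem main (W : PC.Opens) (hW : W = RelProj.domQ (u hz) pC chartC) (hW' : W = RelCone.pointedProjCone 𝒮 hz pC chartC)
    (r : (W : Scheme.{u}) ⟶ P) (hr : Q hz chart (chartC := chartC) W r) :
    (LocallyOfFiniteType r ∧ QuasiCompact r ∧
        ∀ x : ↥P, ∃ e : pullback r (P.fromSpecResidueField x) ≅ Spec (CommRingCat.of (Polynomial (P.residueField x))),
          e.hom ≫ Spec.map (CommRingCat.ofHom (algebraMap (P.residueField x) (Polynomial (P.residueField x)))) =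
            pullback.snd r (P.fromSpecResidueField x)) ∧
      ∀ i' : ((RelCone.pointedCone 𝒮 : 𝒮.toQCAlg.spec.Opens) : Scheme.{u}) ⟶ (W : Scheme.{u}),
        i' ≫ W.ι = (RelCone.pointedCone 𝒮).ι ≫ i →
          LocallyOfFiniteType (i' ≫ r) ∧ QuasiCompact (i' ≫ r) ∧
        ∀ x : ↥P, ∃ e : pullback (i' ≫ r) (P.fromSpecResidueField x) ≅ Spec (CommRingCat.of (LaurentPolynomial (P.residueField x))),
          e.hom ≫ Spec.map (CommRingCat.ofHom (algebraMap (P.residueField x) (LaurentPolynomial (P.residueField x)))) =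
            pullback.snd (i' ≫ r) (P.fromSpecResidueField x) := by
  have hmain := (K38.ConeGeo.main hz hPC hP hi W hW hW' r hr).2
  subst hW
  constructor
  · have haff := isAffineHom_of_q hz hPC hP hr
    refine ⟨of_forall_isPullback r fun y => ?_, inferInstance, fun x => ?_⟩
    · obtain ⟨A, j, hj, c, hy, hc⟩ := exists_line hgen hz hPC hP hr y
      exact ⟨_, _, _, c, j, hj, hy, hc.flip, locallyOfFiniteType_C A⟩
    · obtain ⟨A, j, hj, c, hy, hc⟩ := exists_line hgen hz hPC hP hr x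
      exact fibre_poly r j hc x hy
  · intro i' hi'
    have haff := (hmain i' hi').1
    refine ⟨of_forall_isPullback (i' ≫ r) fun y => ?_, inferInstance, fun x => ?_⟩
    · obtain ⟨A, j, hj, c, hy, hc⟩ := exists_punctured hgen hz hPC hP hi hr i' hi' y
      exact ⟨_, _, _, c, j, hj, hy, hc.flip, locallyOfFiniteType_laurent A⟩
    · obtain ⟨A, j, hj, c, hy, hc⟩ := exists_punctured hgen hz hPC hP hi hr i' hi' x
      exact fibre_laurent (i' ≫ r) j hc x hy

end K41.RetrFib
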