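import Groth.Agent.EGA2.K41.SymExt
import Groth.Agent.EGA2.K41.RVA

/-!
# Graded extensions from the symmetric algebra

* `compHom`: precomposition of a graded `q`-morphism with a graded homomorphism.
* `isGradedHom_of_sym`, `exists_gradedHom`: graded homomorphisms out of `Sym(E)`.
* `exists_symExt_graded`: the graded `q`-morphism `Sym(E) → q_* ℬ` extending a map into degree one.
* `exists_symExt_line`: the case `φ : E ⟶ q_* L`.
-/

set_option autoImplicit false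
set_option linter.unusedSectionVars false
universe u
open CategoryTheory CategoryTheory.Limits AlgebraicGeometry TopologicalSpace Opposite

noncomputable section

namespace K41.SymExt2
open K36.SymAlg K41.SymExt K41.RVA

variable {X Y : Scheme.{u}} {q : X ⟶ Y}

/-- Precomposition of a graded `q`-morphism with a graded homomorphism. -/
def compHom {𝒯 𝒮 : RelProj.QCGrAlg Y} {ℬ : RelProj.QCGrAlg X} (v : 𝒯.toQCAlg ⟶ 𝒮.toQCAlg)
    (hv : RelProj.IsGradedHom v) (u : RelProj.QGrHom q 𝒮 ℬ) : RelProj.QGrHom q 𝒯 ℬ where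
  app U := v.hom.app (op U) ≫ u.app U
  naturality {U V} i := by
    rw [Category.assoc, u.naturality i, ← Category.assoc, ← Category.assoc]
    congr 1
    exact (v.hom.naturality (homOfLE i).op).symm
  str_app U := by
    have h := NatTrans.congr_app v.comm (op U)
    rw [NatTrans.comp_app] at h
    rw [← Category.assoc, h, u.str_app]
  map_mem U hU U' hU' hle {d x} hx := u.map_mem U hU U' hU' hle (hv U hU d x hx)

@[simp] theorem compHom_app {𝒯 𝒮 : RelProj.QCGrAlg Y} {ℬ : RelProj.QCGrAlg X} (v : 𝒯.toQCAlg ⟶ 𝒮.toQCAlg)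
    (hv : RelProj.IsGradedHom v) (u : RelProj.QGrHom q 𝒮 ℬ) (U : Y.Opens) :
    (compHom v hv u).app U = v.hom.app (op U) ≫ u.app U := rfl

section

variable {E : Y.Modules} (hE : Coh.IsQCoh E) {𝒯 : RelProj.QCGrAlg Y} {jE : E ⟶ 𝒯.toModule}
  (h𝒯 : RelProj.IsGrSymAlg E 𝒯 jE)

include hE h𝒯 in
/-- A homomorphism out of `Sym(E)` which maps `E` to degree one is graded. -/
theorem isGradedHom_of_sym {𝒮 : RelProj.QCGrAlg Y} (v : 𝒯.toQCAlg ⟶ 𝒮.toQCAlg)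
    (h : ∀ (U : Y.Opens) (hU : IsAffineOpen U) (e : Γ(E, U)),
      (v.hom.app (op U)).hom (jApp E 𝒯.toQCAlg jE U e) ∈ 𝒮.deg U hU 1) : RelProj.IsGradedHom v := by
  intro U hU d x hx
  refine map_mem_of_homogSub (𝒜 := 𝒯.deg U hU) (ℬ := 𝒮.deg U hU) (v.hom.app (op U)).hom ?_ hx
  have h3 : ∀ e : Γ(E, U), jApp E 𝒯.toQCAlg jE U e ∈ homogSub (𝒯.deg U hU) (𝒮.deg U hU) (v.hom.app (op U)).hom :=
    fun e => mem_homogSub _ (show jApp E 𝒯.toQCAlg jE U e ∈ 𝒯.deg U hU 1 from h𝒯.2 U hU e) (h U hU e)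
  refine subring_eq_top hE h𝒯 U hU _ (fun a => ?_) h3
  refine mem_homogSub _ (𝒯.str_mem U hU a) ?_
  have h1 := congr($(NatTrans.congr_app v.comm (op U)) a)
  have h2 : (v.hom.app (op U)).hom ((𝒯.str.app (op U)).hom a) = (𝒮.str.app (op U)).hom a := h1
  rw [h2]
  exact 𝒮.str_mem U hU a

include hE h𝒯 in
/-- A graded homomorphism out of `Sym(E)` from a map of `E` to degree one. -/
theorem exists_gradedHom {𝒮 : RelProj.QCGrAlg Y} (ψ : E ⟶ 𝒮.toModule)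
    (h : ∀ (U : Y.Opens) (hU : IsAffineOpen U) (e : Γ(E, U)), jApp E 𝒮.toQCAlg ψ U e ∈ 𝒮.deg U hU 1) :
    ∃ v : 𝒯.toQCAlg ⟶ 𝒮.toQCAlg, RelProj.IsGradedHom v ∧
      ∀ (U : Y.Opens) (e : Γ(E, U)), (v.hom.app (op U)).hom (jApp E 𝒯.toQCAlg jE U e) = jApp E 𝒮.toQCAlg ψ U e := by
  obtain ⟨v, hv, -⟩ := h𝒯.1 𝒮.toQCAlg ψ
  have h1 : ∀ (U : Y.Opens) (e : Γ(E, U)),
      (v.hom.app (op U)).hom (jApp E 𝒯.toQCAlg jE U e) = jApp E 𝒮.toQCAlg ψ U e := by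
    intro U e
    rw [← hv]; rfl
  exact ⟨v, isGradedHom_of_sym hE h𝒯 v fun U hU e => by rw [h1]; exact h U hU e, h1⟩

variable {ℬ : RelProj.QCGrAlg X} (ψ : ∀ U : Y.Opens, Γ(E, U) →+ ℬ.presheaf.obj (op (q ⁻¹ᵁ U)))
  (hψs : ∀ (U : Y.Opens) (a : Γ(Y, U)) (m : Γ(E, U)),
    ψ U (a • m) = (ℬ.str.app (op (q ⁻¹ᵁ U))).hom ((q.app U).hom a) * ψ U m)
  (hψr : ∀ {U V : Y.Opens} (h : V ≤ U) (m : Γ(E, U)), ψ V (E.presheaf.map (homOfLE h).op m) =
    (ℬ.presheaf.map (homOfLE (q.preimage_mono h)).op).hom (ψ U m))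
  (hψd : ∀ (U : Y.Opens) (_ : IsAffineOpen U) (V : X.Opens) (hV : IsAffineOpen V) (hle : V ≤ q ⁻¹ᵁ U) (m : Γ(E, U)),
    (ℬ.presheaf.map (homOfLE hle).op).hom (ψ U m) ∈ ℬ.deg V hV 1)

include hE h𝒯 hψs hψr hψd in
/-- The graded `q`-morphism `Sym(E) → q_* ℬ` extending a map into degree one. -/
theorem exists_symExt_graded : ∃ u : RelProj.QGrHom q 𝒯 ℬ,
    ∀ (U : Y.Opens) (m : Γ(E, U)), (u.app U).hom (jApp E 𝒯.toQCAlg jE U m) = ψ U m := by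
  obtain ⟨u, hu⟩ := exists_symExt (B := ℬ.toQCAlg) hE h𝒯.1 ψ hψs hψr
  refine ⟨⟨u, ?_⟩, hu⟩
  intro U hU U' hU' hle d x hx
  refine map_mem_of_homogSub (𝒜 := 𝒯.deg U hU) (ℬ := ℬ.deg U' hU') (u.appLE U U' hle).hom ?_ hx
  have h4 : ∀ e : Γ(E, U), jApp E 𝒯.toQCAlg jE U e ∈
      homogSub (𝒯.deg U hU) (ℬ.deg U' hU') (u.appLE U U' hle).hom := by
    intro e
    refine mem_homogSub _ (show jApp E 𝒯.toQCAlg jE U e ∈ 𝒯.deg U hU 1 from h𝒯.2 U hU e) ?_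
    have h3 : (u.appLE U U' hle).hom (jApp E 𝒯.toQCAlg jE U e) =
      (ℬ.presheaf.map (homOfLE hle).op).hom (ψ U e) := by rw [← hu]; rfl
    rw [h3]
    exact hψd U hU U' hU' hle e
  refine subring_eq_top hE h𝒯 U hU _ (fun a => ?_) h4
  refine mem_homogSub _ (𝒯.str_mem U hU a) ?_
  have h1 := congr($(u.str_appLE U U' hle) a)
  have h2 : (u.appLE U U' hle).hom ((𝒯.str.app (op U)).hom a) =
    (ℬ.str.app (op U')).hom ((q.appLE U U' hle).hom a) := h1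
  rw [h2]
  exact ℬ.str_mem U' hU' _

include hE h𝒯 in
/-- The graded `q`-morphism `Sym(E) → q_* Sym(L)` extending `φ : E ⟶ q_* L`. -/
theorem exists_symExt_line {L : X.Modules} {𝒮L : RelProj.QCGrAlg X} {jL : L ⟶ 𝒮L.toModule}
    (hjL : RelProj.IsGrSymAlg L 𝒮L jL) (φ : E ⟶ (Scheme.Modules.pushforward q).obj L) :
    ∃ u : RelProj.QGrHom q 𝒯 𝒮L, ∀ (U : Y.Opens) (m : Γ(E, U)),
      (u.app U).hom (jApp E 𝒯.toQCAlg jE U m) = jApp L 𝒮L.toQCAlg jL (q ⁻¹ᵁ U) (K43.VADef.se q φ m) := by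
  refine exists_symExt_graded hE h𝒯 (fun U =>
    { toFun := fun m => jApp L 𝒮L.toQCAlg jL (q ⁻¹ᵁ U) (K43.VADef.se q φ m)
      map_zero' := by
        have h : K43.VADef.se q φ (0 : Γ(E, U)) = 0 := map_zero (φ.app U).hom
        rw [h, map_zero]
      map_add' := fun a b => by rw [K43.VADef.se_add, map_add] }) (fun U a m => ?_) (fun {U V} h m => ?_)
      (fun U hU V hV hle m => ?_)
  · change jApp L 𝒮L.toQCAlg jL (q ⁻¹ᵁ U) (K43.VADef.se q φ (a • m)) = _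
    rw [K43.VADef.se_smul]
    exact jApp_smul L 𝒮L.toQCAlg jL _ _ _
  · change jApp L 𝒮L.toQCAlg jL (q ⁻¹ᵁ V) (K43.VADef.se q φ (Groth.Agent.Fdesc.LocGen.res E h m)) = _
    rw [← K43.VADef.res_se]
    exact jApp_res L 𝒮L.toQCAlg jL (q.preimage_mono h) _
  · have h1 := jApp_res L 𝒮L.toQCAlg jL hle (K43.VADef.se q φ m)
    change (𝒮L.presheaf.map (homOfLE hle).op).hom (jApp L 𝒮L.toQCAlg jL (q ⁻¹ᵁ U) (K43.VADef.se q φ m)) ∈ _
    rw [← h1]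
    exact hjL.2 V hV _

end

end K41.SymExt2
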