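import Groth.Agent.RelProj.K823.GrData
import Groth.Agent.EGA2.K41.SymExt2

/-!
# Quasi-coherent graded subalgebras from subrings over the affine opens
-/

set_option autoImplicit false
set_option linter.unusedSectionVars false
universe u
open CategoryTheory CategoryTheory.Limits AlgebraicGeometry TopologicalSpace Opposite

noncomputable section

namespace K41.SubAlg
open K823.AffData K823.GrData K41.LineAlg

section grading

variable {A B : Type u} [CommRing A] [CommRing B] (f : A →+* B) (hf : Function.Injective f) (ℬ : ℕ → AddSubgroup B)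
  [GradedRing ℬ] (h : ∀ (a : A) (n : ℕ), ∃ a' : A, f a' = (DirectSum.decompose ℬ (f a) n : B))

/-- The graded pieces of a homogeneous subring. -/
def cgr (n : ℕ) : AddSubgroup A := (ℬ n).comap f.toAddMonoidHom

theorem mem_cgr {n : ℕ} {a : A} : a ∈ cgr f ℬ n ↔ f a ∈ ℬ n := Iff.rfl

include hf h in
theorem isInternal_cgr : DirectSum.IsInternal (cgr f ℬ) := by
  classical
  let ψ : (DirectSum ℕ fun i => cgr f ℬ i) →+ DirectSum ℕ fun i => ℬ i :=
    DirectSum.map (fun i => f.toAddMonoidHom.addSubgroupComap (ℬ i))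
  have hψ : ∀ z, DirectSum.coeAddMonoidHom ℬ (ψ z) = f (DirectSum.coeAddMonoidHom (cgr f ℬ) z) := by
    intro z
    induction z using DirectSum.induction_on with
    | zero => simp
    | of i x =>
      rw [DirectSum.map_of, DirectSum.coeAddMonoidHom_of, DirectSum.coeAddMonoidHom_of]
      rfl
    | add x y hx hy => simp only [map_add, hx, hy]
  constructor
  · rw [injective_iff_map_eq_zero]
    intro z hz
    have h1 : ψ z = 0 := by
      apply (DirectSum.Decomposition.isInternal ℬ).injective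
      rw [hψ, hz, map_zero, map_zero]
    refine DFinsupp.ext fun i => Subtype.ext (hf ?_)
    have h2 : f (z i : A) = ((ψ z) i : B) := by
      rw [DirectSum.map_apply]; rfl
    rw [h2, h1]
    exact (map_zero f).symm
  · intro a
    choose a' ha' using h a
    have h3 : ∀ n, a' n ∈ cgr f ℬ n := fun n => by rw [mem_cgr, ha']; exact SetLike.coe_mem _
    refine ⟨∑ n ∈ (DirectSum.decompose ℬ (f a)).support, DirectSum.of (fun i => cgr f ℬ i) n ⟨a' n, h3 n⟩, hf ?_⟩
    rw [map_sum, map_sum]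
    conv_rhs => rw [← DirectSum.sum_support_decompose ℬ (f a)]
    refine Finset.sum_congr rfl fun n _ => ?_
    rw [DirectSum.coeAddMonoidHom_of, ← ha' n]

include hf h in
/-- The grading of a homogeneous subring. -/
def gradedRing_cgr : GradedRing (cgr f ℬ) where
  one_mem := by rw [mem_cgr, map_one]; exact SetLike.GradedOne.one_mem
  mul_mem i j a b ha hb := by
    rw [mem_cgr, map_mul]
    exact SetLike.GradedMul.mul_mem ha hb
  toDecomposition := (isInternal_cgr f hf ℬ h).chooseDecomposition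

end grading

variable {Y : Scheme.{u}} (𝒮 : RelProj.QCGrAlg Y)

/-- Subrings over the affine opens defining a quasi-coherent graded subalgebra. -/
structure SubData where
  D : ∀ (U : Y.Opens) (_ : IsAffineOpen U), Subring (𝒮.presheaf.obj (op U))
  str_mem : ∀ (U : Y.Opens) (hU : IsAffineOpen U) (a : Γ(Y, U)), str 𝒮 U a ∈ D U hU
  hom : ∀ (U : Y.Opens) (hU : IsAffineOpen U) (x : 𝒮.presheaf.obj (op U)), x ∈ D U hU →
    ∀ n : ℕ, (DirectSum.decompose (𝒮.deg U hU) x n : 𝒮.presheaf.obj (op U)) ∈ D U hU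
  res_mem : ∀ (U : Y.Opens) (hU : IsAffineOpen U) (r : Γ(Y, U)) (x : 𝒮.presheaf.obj (op U)), x ∈ D U hU →
    res 𝒮 (Y.basicOpen_le r) x ∈ D (Y.basicOpen r) (hU.basicOpen r)
  lift : ∀ (U : Y.Opens) (hU : IsAffineOpen U) (r : Γ(Y, U)) (x : 𝒮.presheaf.obj (op (Y.basicOpen r))),
    x ∈ D (Y.basicOpen r) (hU.basicOpen r) →
    ∃ (k : ℕ) (y : 𝒮.presheaf.obj (op U)), y ∈ D U hU ∧
      res 𝒮 (Y.basicOpen_le r) y = str 𝒮 _ (resO (Y.basicOpen_le r) r) ^ k * x

namespace SubData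

variable {𝒮} (T : SubData 𝒮)

theorem res_mem' {U V : Y.AffineZariskiSite} (h : V ≤ U) {x : 𝒮.presheaf.obj (op U.1)} (hx : x ∈ T.D U.1 U.2) :
    res 𝒮 (Scheme.AffineZariskiSite.toOpens_mono h) x ∈ T.D V.1 V.2 := by
  obtain ⟨r, hr⟩ := h
  obtain rfl : U.basicOpen r = V := Subtype.ext hr
  exact T.res_mem U.1 U.2 r x hx

/-- The restriction maps. -/
def rr {U V : Y.AffineZariskiSite} (h : V ≤ U) : T.D U.1 U.2 →+* T.D V.1 V.2 :=
  ((res 𝒮 (Scheme.AffineZariskiSite.toOpens_mono h)).comp (T.D U.1 U.2).subtype).codRestrict _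
    fun x => T.res_mem' h x.2

/-- The functor on the affine Zariski site. -/
def functor : (Y.AffineZariskiSite)ᵒᵖ ⥤ CommRingCat.{u} where
  obj U := CommRingCat.of (T.D U.unop.1 U.unop.2)
  map i := CommRingCat.ofHom (T.rr i.unop.le)
  map_id U := CommRingCat.hom_ext (RingHom.ext fun f => Subtype.ext (res_self 𝒮 _ f.1))
  map_comp i j := CommRingCat.hom_ext (RingHom.ext fun f => Subtype.ext
    (res_res 𝒮 (Scheme.AffineZariskiSite.toOpens_mono i.unop.le) (Scheme.AffineZariskiSite.toOpens_mono j.unop.le) f.1).symm)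

/-- The structure map over an affine open. -/
def cst (U : Y.Opens) (hU : IsAffineOpen U) : Γ(Y, U) →+* T.D U hU :=
  (str 𝒮 U).codRestrict _ fun a => T.str_mem U hU a

/-- The structure map. -/
def structure' : (Scheme.AffineZariskiSite.toOpensFunctor Y).op ⋙ Y.presheaf ⟶ T.functor where
  app U := (CommRingCat.ofHom (T.cst U.unop.1 U.unop.2) : Γ(Y, U.unop.1) ⟶ CommRingCat.of (T.D U.unop.1 U.unop.2))
  naturality U V i := by
    ext a
    exact Subtype.ext (res_str 𝒮 (Scheme.AffineZariskiSite.toOpens_mono i.unop.le) a).symm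

theorem isLocalization_rr {U : Y.Opens} (hU : IsAffineOpen U) (c : Γ(Y, U)) :
    letI := (T.rr (U := ⟨U, hU⟩) (V := ⟨Y.basicOpen c, hU.basicOpen c⟩) ⟨c, rfl⟩).toAlgebra
    IsLocalization.Away (T.cst U hU c) (T.D (Y.basicOpen c) (hU.basicOpen c)) := by
  let := (T.rr (U := ⟨U, hU⟩) (V := ⟨Y.basicOpen c, hU.basicOpen c⟩) ⟨c, rfl⟩).toAlgebra
  have hc : T.rr (U := ⟨U, hU⟩) (V := ⟨Y.basicOpen c, hU.basicOpen c⟩) ⟨c, rfl⟩ (T.cst U hU c) =
      T.cst (Y.basicOpen c) (hU.basicOpen c) (resO (Y.basicOpen_le c) c) := Subtype.ext (res_str 𝒮 (Y.basicOpen_le c) c)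
  refine { map_units := ?_, surj := ?_, exists_of_eq := ?_ }
  · rintro ⟨_, k, rfl⟩
    have h3 : IsUnit (T.rr (U := ⟨U, hU⟩) (V := ⟨Y.basicOpen c, hU.basicOpen c⟩) ⟨c, rfl⟩ (T.cst U hU c)) := by
      rw [hc]
      exact (isUnit_resO U c).map _
    have h4 := h3.pow k
    rw [← map_pow] at h4
    exact h4
  · intro f'
    obtain ⟨k, y, hy, e⟩ := T.lift U hU c f'.1 f'.2
    refine ⟨(⟨y, hy⟩, ⟨T.cst U hU c ^ k, k, rfl⟩), ?_⟩
    change f' * T.rr (U := ⟨U, hU⟩) (V := ⟨Y.basicOpen c, hU.basicOpen c⟩) ⟨c, rfl⟩ (T.cst U hU c ^ k) =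
      T.rr (U := ⟨U, hU⟩) (V := ⟨Y.basicOpen c, hU.basicOpen c⟩) ⟨c, rfl⟩ ⟨y, hy⟩
    rw [map_pow, hc, mul_comm]
    exact Subtype.ext e.symm
  · intro f g hfg
    have h3 : res 𝒮 (Y.basicOpen_le c) (f.1 - g.1) = 0 := by
      rw [map_sub, sub_eq_zero]
      exact congrArg Subtype.val hfg
    obtain ⟨k, hk⟩ := exists_mul_eq_zero hU c (f.1 - g.1) h3
    refine ⟨⟨T.cst U hU c ^ k, k, rfl⟩, Subtype.ext ?_⟩
    rw [mul_sub, sub_eq_zero] at hk
    exact hk

theorem exists_decomp (U : Y.Opens) (hU : IsAffineOpen U) (a : T.D U hU) (n : ℕ) :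
    ∃ a' : T.D U hU, (T.D U hU).subtype a' = (DirectSum.decompose (𝒮.deg U hU) ((T.D U hU).subtype a) n :
      𝒮.presheaf.obj (op U)) :=
  ⟨⟨_, T.hom U hU a.1 a.2 n⟩, rfl⟩

/-- The affine-local data. -/
def data : Data Y where
  F := T.functor
  α := T.structure'
  coeq := Scheme.AffineZariskiSite.coequifibered_iff_forall_isLocalizationAway.mpr fun U c =>
    T.isLocalization_rr U.2 c
  deg U hU := cgr (T.D U hU).subtype (𝒮.deg U hU)
  graded U hU := gradedRing_cgr (T.D U hU).subtype Subtype.val_injective (𝒮.deg U hU) (T.exists_decomp U hU)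
  map_mem {U V} hU hV i {d x} hx := by
    exact K41.LineAlg.res_mem hU hV (Scheme.AffineZariskiSite.toOpens_mono i) hx
  str_mem U hU r := K41.LineAlg.str_mem hU r

end SubData

/-- **A quasi-coherent graded subalgebra** from its sections over the affine opens. -/
theorem exists_subAlg {𝒮 : RelProj.QCGrAlg Y} (T : SubData 𝒮) :
    ∃ (𝒮' : RelProj.QCGrAlg Y) (j : 𝒮'.toQCAlg ⟶ 𝒮.toQCAlg),
      (∀ (U : Y.Opens), IsAffineOpen U → Function.Injective (j.hom.app (op U)).hom) ∧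
      (∀ (U : Y.Opens) (hU : IsAffineOpen U), (j.hom.app (op U)).hom.range = T.D U hU) ∧
      (∀ (U : Y.Opens) (hU : IsAffineOpen U) (d : ℕ) (x : 𝒮'.presheaf.obj (op U)),
        (j.hom.app (op U)).hom x ∈ 𝒮.deg U hU d ↔ x ∈ 𝒮'.deg U hU d) := by
  let e : ∀ (U : Y.Opens) (hU : IsAffineOpen U), T.data.alg.presheaf.obj (op U) ≃+* T.D U hU := fun U hU =>
    T.data.eqv U hU
  obtain ⟨g, hg⟩ := K41.SymExt.exists_pre_hom ⟨𝒮.presheaf, 𝒮.isSheaf⟩ (F := T.data.alg.presheaf)
    (fun U hU => CommRingCat.ofHom ((T.D U hU).subtype.comp (e U hU).toRingHom))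
    (fun U hU r => by
      ext x
      have h1 := T.data.eqv_res hU (hU.basicOpen r) ⟨r, rfl⟩ (Y.basicOpen_le r) x
      exact congrArg (T.D (Y.basicOpen r) (hU.basicOpen r)).subtype h1)
  have hg' : ∀ (U : Y.Opens) (hU : IsAffineOpen U) (x : T.data.alg.presheaf.obj (op U)),
      (g.app (op U)).hom x = ((e U hU x : T.D U hU) : 𝒮.presheaf.obj (op U)) := fun U hU x => by
    rw [hg U hU]; rfl
  have hcomm : T.data.alg.str ≫ g = 𝒮.str := K41.SymExt.pre_hom_ext ⟨𝒮.presheaf, 𝒮.isSheaf⟩ fun U hU => by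
    ext r
    refine (hg' U hU _).trans ?_
    exact congrArg (T.D U hU).subtype (T.data.eqv_str U hU r)
  refine ⟨T.data.alg, ⟨g, hcomm⟩, fun U hU x y h => ?_, fun U hU => ?_, fun U hU d x => ?_⟩
  · have h' : (g.app (op U)).hom x = (g.app (op U)).hom y := h
    rw [hg' U hU, hg' U hU] at h'
    exact (e U hU).injective (Subtype.ext h')
  · ext y
    constructor
    · rintro ⟨x, rfl⟩
      have h' : (g.app (op U)).hom x ∈ T.D U hU := by rw [hg' U hU]; exact Subtype.coe_prop _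
      exact h'
    · intro hy
      refine ⟨(e U hU).symm ⟨y, hy⟩, ?_⟩
      have h' := hg' U hU ((e U hU).symm ⟨y, hy⟩)
      rw [RingEquiv.apply_symm_apply] at h'
      exact h'
  · have h' := hg' U hU x
    change (g.app (op U)).hom x ∈ 𝒮.deg U hU d ↔ _
    rw [h']
    rfl

end K41.SubAlg
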