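import Groth.Agent.EGA2.K36.SymAlg
import Groth.Prelude.Def_RelProj4

/-!
# Extending a module map `E → q_* B` to the symmetric algebra, over a morphism of bases

* `exists_qhom`: a `q`-morphism `A → B` of quasi-coherent algebras from its components on the affine opens of the base.
* `qhom_ext`, `qhom_ext_sym`.
* `exists_symExt`: for `A = Sym(E)` and `ψ_U : E(U) → B(q⁻¹ U)`, a `q`-morphism `u` with `u ∘ j = ψ`.
* `homogSub`, `graded_of_gens`: checking that a ring homomorphism is graded on generators.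
* `exists_symExt_graded`: the graded version.
-/

set_option autoImplicit false
set_option linter.unusedSectionVars false
universe u
open CategoryTheory CategoryTheory.Limits AlgebraicGeometry TopologicalSpace Opposite

noncomputable section

namespace K41.SymExt
open AlgebraicGeometry.Scheme.AffineZariskiSite

section pre

variable {S : Scheme.{u}} {F : TopCat.Presheaf CommRingCat.{u} S.carrier} (G : TopCat.Sheaf CommRingCat.{u} S.carrier)

/-- Maps of presheaves of rings into a sheaf of rings agreeing on the affine opens are equal. -/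
theorem pre_hom_ext {f g : F ⟶ G.presheaf}
    (h : ∀ (U : S.Opens), IsAffineOpen U → f.app (op U) = g.app (op U)) : f = g := by
  apply (Functor.IsCoverDense.restrictHomEquivHom (G := toOpensFunctor S)
    (K := Opens.grothendieckTopology S) (ℱ := F) (ℱ' := G)).symm.injective
  ext U : 2
  exact h U.unop.1 U.unop.2

/-- Maps of presheaves of rings into a sheaf from components on the affine opens compatible with
restriction to basic opens. -/
theorem exists_pre_hom (f : ∀ (U : S.Opens) (_ : IsAffineOpen U), F.obj (op U) ⟶ G.presheaf.obj (op U))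
    (hf : ∀ (U : S.Opens) (hU : IsAffineOpen U) (r : Γ(S, U)),
      F.map (homOfLE (S.basicOpen_le r)).op ≫ f (S.basicOpen r) (hU.basicOpen r) =
        f U hU ≫ G.presheaf.map (homOfLE (S.basicOpen_le r)).op) :
    ∃ g : F ⟶ G.presheaf, ∀ (U : S.Opens) (hU : IsAffineOpen U), g.app (op U) = f U hU := by
  let α : (toOpensFunctor S).op ⋙ F ⟶ (toOpensFunctor S).op ⋙ G.presheaf :=
    { app := fun U => f U.unop.1 U.unop.2
      naturality := by
        rintro ⟨U⟩ ⟨V⟩ ⟨i⟩
        obtain ⟨V, hV⟩ := V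
        obtain ⟨r, rfl⟩ := i.le
        exact hf U.1 U.2 r }
  refine ⟨Functor.IsCoverDense.restrictHomEquivHom (G := toOpensFunctor S)
    (K := Opens.grothendieckTopology S) (ℱ := F) (ℱ' := G) α, fun U hU => ?_⟩
  have h := (Functor.IsCoverDense.restrictHomEquivHom (G := toOpensFunctor S)
    (K := Opens.grothendieckTopology S) (ℱ := F) (ℱ' := G)).symm_apply_apply α
  exact NatTrans.congr_app h (op ⟨U, hU⟩)

end pre

variable {X Y : Scheme.{u}} {q : X ⟶ Y} {A : RelSpec.QCAlg Y} {B : RelSpec.QCAlg X}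

variable (q B) in
/-- The direct image sheaf of rings. -/
def push : TopCat.Sheaf CommRingCat.{u} Y.carrier :=
  (TopCat.Sheaf.pushforward CommRingCat.{u} q.base).obj ⟨B.presheaf, B.isSheaf⟩

/-- A `q`-morphism as a map of presheaves of rings. -/
def toPre (u : RelSpec.QHom q A B) : A.presheaf ⟶ (push q B).presheaf where
  app U := u.app U.unop
  naturality := by
    rintro ⟨U⟩ ⟨V⟩ ⟨i⟩
    exact (u.naturality i.le).symm

theorem qhom_ext_app {u v : RelSpec.QHom q A B} (h : ∀ U : Y.Opens, u.app U = v.app U) : u = v := by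
  cases u; cases v
  congr
  exact funext h

theorem qhom_ext {u v : RelSpec.QHom q A B} (h : ∀ (U : Y.Opens), IsAffineOpen U → u.app U = v.app U) : u = v :=
  qhom_ext_app fun U => NatTrans.congr_app (pre_hom_ext (push q B) (f := toPre u) (g := toPre v) h) (op U)

/-- A `q`-morphism of quasi-coherent algebras from its components on the affine opens. -/
theorem exists_qhom (f : ∀ (U : Y.Opens) (_ : IsAffineOpen U), A.presheaf.obj (op U) ⟶ B.presheaf.obj (op (q ⁻¹ᵁ U)))
    (hf : ∀ (U : Y.Opens) (hU : IsAffineOpen U) (r : Γ(Y, U)),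
      A.presheaf.map (homOfLE (Y.basicOpen_le r)).op ≫ f (Y.basicOpen r) (hU.basicOpen r) =
        f U hU ≫ B.presheaf.map (homOfLE (q.preimage_mono (Y.basicOpen_le r))).op)
    (hstr : ∀ (U : Y.Opens) (hU : IsAffineOpen U), A.str.app (op U) ≫ f U hU = q.app U ≫ B.str.app (op (q ⁻¹ᵁ U))) :
    ∃ u : RelSpec.QHom q A B, ∀ (U : Y.Opens) (hU : IsAffineOpen U), u.app U = f U hU := by
  obtain ⟨g, hg⟩ := exists_pre_hom (push q B) (F := A.presheaf) f hf
  let s : Y.presheaf ⟶ (push q B).presheaf :=
    { app := fun U => q.app U.unop ≫ B.str.app (op (q ⁻¹ᵁ U.unop))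
      naturality := by
        rintro ⟨U⟩ ⟨V⟩ ⟨i⟩
        change Y.presheaf.map i.op ≫ q.app V ≫ B.str.app (op (q ⁻¹ᵁ V)) =
          (q.app U ≫ B.str.app (op (q ⁻¹ᵁ U))) ≫ B.presheaf.map (homOfLE (q.preimage_mono i.le)).op
        rw [Category.assoc, ← B.str.naturality, ← Category.assoc, ← Category.assoc]
        congr 1
        exact q.naturality i.op }
  have hs : A.str ≫ g = s := pre_hom_ext (push q B) fun U hU => by
    rw [NatTrans.comp_app, hg U hU]; exact hstr U hU
  exact ⟨⟨fun U => g.app (op U), fun {U V} i => (g.naturality (homOfLE i).op).symm,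
    fun U => NatTrans.congr_app hs (op U)⟩, fun U hU => hg U hU⟩

/-- Sections of `B` over `q⁻¹ U` agreeing over the inverse images of the affine opens of `U`. -/
theorem push_ext {U : Y.Opens} {a b : B.presheaf.obj (op (q ⁻¹ᵁ U))}
    (h : ∀ (V : Y.Opens) (_ : IsAffineOpen V) (i : V ≤ U),
      (B.presheaf.map (homOfLE (q.preimage_mono i)).op).hom a =
        (B.presheaf.map (homOfLE (q.preimage_mono i)).op).hom b) : a = b := by
  have H : ∀ x : U, ∃ (V : Y.Opens) (_ : IsAffineOpen V) (_ : V ≤ U), x.1 ∈ V := fun x => by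
    obtain ⟨V, hV, hxV, hVU⟩ := exists_isAffineOpen_mem_and_subset x.2
    exact ⟨V, hV, hVU, hxV⟩
  choose V hV i hx using H
  exact TopCat.Sheaf.eq_of_locally_eq' (push q B) V U (fun x => homOfLE (i x))
    (fun x hxU => Opens.mem_iSup.mpr ⟨⟨x, hxU⟩, hx ⟨x, hxU⟩⟩) _ _ fun x => h (V x) (hV x) (i x)

section sym

open K36.SymAlg

variable {E : Y.Modules} (hE : Coh.IsQCoh E) {j : E ⟶ A.toModule} (hA : RelSpec.IsSymAlg E A j)

include hE hA in
/-- `q`-morphisms out of a symmetric algebra agreeing on `E` are equal. -/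
theorem qhom_ext_sym {u v : RelSpec.QHom q A B}
    (h : ∀ (U : Y.Opens), IsAffineOpen U → ∀ m : Γ(E, U), (u.app U).hom (jApp E A j U m) = (v.app U).hom (jApp E A j U m)) :
    u = v := by
  refine qhom_ext fun U hU => ?_
  apply CommRingCat.hom_ext
  rw [← RingHom.cancel_right (bijective_symHom hE hA U hU).2]
  refine Groth.Agent.CohqB.SymLoc.ringHom_ext (fun r => ?_) fun m => ?_
  · rw [RingHom.comp_apply, RingHom.comp_apply, symHom_algebraMap]
    exact congr($((u.str_app U).trans (v.str_app U).symm) r)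
  · rw [RingHom.comp_apply, RingHom.comp_apply, symHom_ι]
    exact h U hU m

variable (ψ : ∀ U : Y.Opens, Γ(E, U) →+ B.presheaf.obj (op (q ⁻¹ᵁ U)))
  (hψs : ∀ (U : Y.Opens) (a : Γ(Y, U)) (m : Γ(E, U)),
    ψ U (a • m) = (B.str.app (op (q ⁻¹ᵁ U))).hom ((q.app U).hom a) * ψ U m)
  (hψr : ∀ {U V : Y.Opens} (h : V ≤ U) (m : Γ(E, U)), ψ V (E.presheaf.map (homOfLE h).op m) =
    (B.presheaf.map (homOfLE (q.preimage_mono h)).op).hom (ψ U m))

include hE hA hψs hψr in
/-- **Extension to the symmetric algebra over a morphism of bases.** -/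
theorem exists_symExt : ∃ u : RelSpec.QHom q A B, ∀ (U : Y.Opens) (m : Γ(E, U)), (u.app U).hom (jApp E A j U m) = ψ U m := by
  let e : ∀ (U : Y.Opens) (_ : IsAffineOpen U), SymmetricAlgebra Γ(Y, U) Γ(E, U) ≃+* A.presheaf.obj (op U) :=
    fun U hU => RingEquiv.ofBijective _ (bijective_symHom hE hA U hU)
  let d : ∀ U : Y.Opens, SymmetricAlgebra Γ(Y, U) Γ(E, U) →+* B.presheaf.obj (op (q ⁻¹ᵁ U)) := fun U =>
    Groth.Agent.CohqB.SymLoc.desc ((B.str.app (op (q ⁻¹ᵁ U))).hom.comp (q.app U).hom) (ψ U) (hψs U)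
  have hd1 : ∀ (U : Y.Opens) (r : Γ(Y, U)), d U (algebraMap _ _ r) =
      (B.str.app (op (q ⁻¹ᵁ U))).hom ((q.app U).hom r) := fun U r => Groth.Agent.CohqB.SymLoc.desc_algebraMap _ _ _ r
  have hd2 : ∀ (U : Y.Opens) (m : Γ(E, U)), d U (SymmetricAlgebra.ι _ _ m) = ψ U m := fun U m =>
    Groth.Agent.CohqB.SymLoc.desc_ι _ _ _ m
  have hdr : ∀ {U V : Y.Opens} (h : V ≤ U), (d V).comp (symRes E h) =
      ((B.presheaf.map (homOfLE (q.preimage_mono h)).op).hom).comp (d U) := by
    intro U V h
    refine Groth.Agent.CohqB.SymLoc.ringHom_ext (fun r => ?_) fun m => ?_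
    · rw [RingHom.comp_apply, RingHom.comp_apply, symRes, Groth.Agent.CohqB.SymLoc.symMap_algebraMap, hd1, hd1]
      have h1 := congr($(q.naturality (homOfLE h).op) r)
      have h2 := congr($(B.str.naturality (homOfLE (q.preimage_mono h)).op) ((q.app U).hom r))
      refine Eq.trans ?_ h2
      exact congrArg (B.str.app (op (q ⁻¹ᵁ V))).hom h1
    · rw [RingHom.comp_apply, RingHom.comp_apply, symRes, Groth.Agent.CohqB.SymLoc.symMap_ι, hd2, hd2]
      exact hψr h m
  obtain ⟨u, hu⟩ := exists_qhom (A := A) (B := B) (q := q)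
    (fun U hU => CommRingCat.ofHom ((d U).comp (e U hU).symm.toRingHom))
    (fun U hU r => by
      ext x
      obtain ⟨y, rfl⟩ := (e U hU).surjective x
      have h1 : (A.presheaf.map (homOfLE (Y.basicOpen_le r)).op).hom (e U hU y) =
          e (Y.basicOpen r) (hU.basicOpen r) (symRes E (Y.basicOpen_le r) y) :=
        congr($(symHom_res E A j (Y.basicOpen_le r)) y).symm
      change d (Y.basicOpen r) ((e (Y.basicOpen r) (hU.basicOpen r)).symm
        ((A.presheaf.map (homOfLE (Y.basicOpen_le r)).op).hom (e U hU y))) =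
        (B.presheaf.map (homOfLE (q.preimage_mono (Y.basicOpen_le r))).op).hom (d U ((e U hU).symm (e U hU y)))
      rw [h1, RingEquiv.symm_apply_apply, RingEquiv.symm_apply_apply]
      exact congr($(hdr (Y.basicOpen_le r)) y))
    (fun U hU => by
      ext r
      have h1 : (A.str.app (op U)).hom r = e U hU (algebraMap _ _ r) := (symHom_algebraMap E A j U r).symm
      change d U ((e U hU).symm ((A.str.app (op U)).hom r)) = (B.str.app (op (q ⁻¹ᵁ U))).hom ((q.app U).hom r)
      rw [h1, RingEquiv.symm_apply_apply, hd1])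
  have haff : ∀ (U : Y.Opens), IsAffineOpen U → ∀ m : Γ(E, U), (u.app U).hom (jApp E A j U m) = ψ U m := by
    intro U hU m
    rw [hu U hU]
    have h1 : jApp E A j U m = e U hU (SymmetricAlgebra.ι _ _ m) := (symHom_ι E A j U m).symm
    change d U ((e U hU).symm (jApp E A j U m)) = _
    rw [h1, RingEquiv.symm_apply_apply, hd2]
  refine ⟨u, fun U m => push_ext fun V hV i => ?_⟩
  rw [← hψr i, ← haff V hV, jApp_res]
  exact congr($(u.naturality i) (jApp E A j U m))

end sym

section graded

variable {R R' : Type u} [CommRing R] [CommRing R'] {σ τ : Type*} [SetLike σ R] [AddSubgroupClass σ R]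
  [SetLike τ R'] [AddSubgroupClass τ R'] {𝒜 : ℕ → σ} {ℬ : ℕ → τ} [GradedRing 𝒜] [GradedRing ℬ] (f : R →+* R')

open Classical in
variable (𝒜 ℬ) in
/-- The elements all of whose components are mapped to the right degree. -/
def homogSub : Subring R where
  carrier := {x | ∀ n, f (DirectSum.decompose 𝒜 x n : R) ∈ ℬ n}
  mul_mem' := by
    classical
    intro x y hx hy n
    rw [DirectSum.decompose_mul, DirectSum.coe_mul_apply, map_sum]
    refine sum_mem fun ij hij => ?_
    rw [Finset.mem_filter] at hij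
    rw [map_mul, ← hij.2]
    exact SetLike.mul_mem_graded (hx _) (hy _)
  one_mem' := by
    classical
    intro n
    rcases Nat.eq_zero_or_pos n with rfl | hn
    · rw [DirectSum.decompose_of_mem_same 𝒜 SetLike.GradedOne.one_mem, map_one]
      exact SetLike.GradedOne.one_mem
    · rw [DirectSum.decompose_of_mem_ne 𝒜 SetLike.GradedOne.one_mem hn.ne, map_zero]
      exact zero_mem _
  add_mem' := by
    intro x y hx hy n
    rw [DirectSum.decompose_add, DirectSum.add_apply, AddMemClass.coe_add, map_add]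
    exact add_mem (hx n) (hy n)
  zero_mem' := by
    intro n
    rw [DirectSum.decompose_zero, DirectSum.zero_apply, ZeroMemClass.coe_zero, map_zero]
    exact zero_mem _
  neg_mem' := by
    intro x hx n
    rw [DirectSum.decompose_neg]
    have : ((-(DirectSum.decompose 𝒜 x)) n : R) = -(DirectSum.decompose 𝒜 x n : R) := rfl
    rw [this, map_neg]
    exact neg_mem (hx n)

theorem mem_homogSub {k : ℕ} {x : R} (hx : x ∈ 𝒜 k) (hfx : f x ∈ ℬ k) : x ∈ homogSub 𝒜 ℬ f := by
  classical
  intro n
  rcases eq_or_ne n k with rfl | hn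
  · rwa [DirectSum.decompose_of_mem_same 𝒜 hx]
  · rw [DirectSum.decompose_of_mem_ne 𝒜 hx hn.symm, map_zero]
    exact zero_mem _

theorem map_mem_of_homogSub (h : homogSub 𝒜 ℬ f = ⊤) {k : ℕ} {x : R} (hx : x ∈ 𝒜 k) : f x ∈ ℬ k := by
  classical
  have h1 : x ∈ homogSub 𝒜 ℬ f := by rw [h]; trivial
  have h2 := h1 k
  rwa [DirectSum.decompose_of_mem_same 𝒜 hx] at h2

end graded

end K41.SymExt
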